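import Cfsg.Agent.StdON.Simple
import Cfsg.Agent.Invol.SEPairs
import Cfsg.Agent.Invol.StronglyEmbedded

/-!
The normaliser of the odd part is the whole group, as otherwise it would be strongly embedded.
-/

set_option autoImplicit false
set_option maxHeartbeats 1000000
set_option linter.unusedSectionVars false
set_option linter.style.haveILetI false

namespace Cfsg.Agent.StdON

open Cfsg.Agent ONUniq Compute Subgroup

attribute [local irreducible] compCode idCode canonC powC SLMult.L34.codes SLMult.L34.centPairs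
  DataL.dperm DataL.dwords DataA.chain DataA.gs DataA.gis DataA.zeta DataA.mask DataA.sig
  DataB.chain DataB.gs DataB.gis DataB.zeta DataB.mask DataB.sig

/-- A simple group with these data is O'Nan's group. -/
theorem isoON_of_data {G : Type*} [Group G] [Finite G] [IsSimpleGroup G] {S : Base false G}
    (hG : ¬ IsMulCommutative G) (d : FinalData S) : Cfsg.Spor.IsoON G := by
  classical
  obtain ⟨e⟩ := d.isoON_Q
  let f : d.N →* Spor.ON := e.toMonoidHom.comp d.q
  have hsurj : Function.Surjective f := e.surjective.comp d.q_surjective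
  have hker : ∀ n, f n = 1 ↔ (n : G) ∈ d.X := fun n => by
    show e (d.q n) = 1 ↔ _
    rw [EmbeddingLike.map_eq_one_iff, d.q_one]
  by_cases htop : d.N = ⊤
  · have hbot : d.X = ⊥ := by
      rcases (normalizer_eq_top_iff.1 htop).eq_bot_or_eq_top with h | h
      · exact h
      · exact absurd (show S.z ∈ d.X by rw [h]; exact mem_top _) d.z_notMem
    have hinj : Function.Injective f := (injective_iff_map_eq_one f).2 fun n hn =>
      Subtype.ext (mem_bot.1 ((SetLike.ext_iff.1 hbot _).1 ((hker n).1 hn)))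
    exact ⟨((MulEquiv.subgroupCongr htop).trans Subgroup.topEquiv).symm.trans
      (MulEquiv.ofBijective f ⟨hinj, hsurj⟩)⟩
  exfalso
  have hord : orderOf S.z = 2 := orderOf_eq_prime (by rw [pow_two, S.z_sq]) S.z_ne_one
  have hzN : S.z ∈ d.N := d.zN.2
  have hse : Cfsg.IsStronglyEmbedded d.N := by
    refine (Invol.se_iff d.N).2 ⟨htop, even_iff_two_dvd.2 ?_, fun t g ht htN hgt => ?_⟩
    · have := orderOf_dvd_natCard (⟨S.z, hzN⟩ : d.N)
      rwa [Subgroup.orderOf_mk, hord] at this
    · have t2 := Invol.mul_self_eq_one ht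
      have t1 := Invol.ne_one ht
      obtain ⟨n, hn, en⟩ := d.hall htN t2 t1
      obtain ⟨m, hm, em⟩ := d.hall hgt (by
        rw [show g⁻¹ * t * g * (g⁻¹ * t * g) = g⁻¹ * (t * t) * g by group, t2]; group)
        (fun h => t1 (by rw [show t = g * (g⁻¹ * t * g) * g⁻¹ by group, h]; group))
      have hc : n⁻¹ * g * m ∈ centralizer ({S.z} : Set G) := by
        refine mem_centralizer_singleton_iff.2 ?_
        calc n⁻¹ * g * m * S.z = n⁻¹ * g * (m * S.z * m⁻¹) * m := by group
          _ = n⁻¹ * t * g * m := by rw [em]; group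
          _ = S.z * (n⁻¹ * g * m) := by rw [← en]; group
      rw [show g = n * (n⁻¹ * g * m) * m⁻¹ by group]
      exact mul_mem (mul_mem hn (d.cent_le hc)) (inv_mem hm)
  obtain ⟨u, hu2, huN⟩ : ∃ u : G, orderOf u = 2 ∧ u ∉ d.N := by
    by_contra hcon
    push Not at hcon
    obtain ⟨g, hg⟩ : ∃ g, g ∉ d.N := by
      by_contra h
      push Not at h
      exact htop (eq_top_iff.2 fun x _ => h x)
    have hmem : g⁻¹ * S.z * g ∈ d.N := hcon _ (by
      have := Invol.orderOf_conj g⁻¹ S.z
      rw [inv_inv] at this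
      rw [this, hord])
    exact hg ((Invol.se_iff d.N).1 hse |>.2.2 S.z g hord hzN hmem)
  set D := (d.N ⊓ d.N.map (MulAut.conj u).toMonoidHom).subgroupOf d.N with hD
  have hfz : f d.zN * f d.zN = 1 := by
    rw [← map_mul, show d.zN * d.zN = 1 from Subtype.ext S.z_sq, map_one]
  obtain ⟨m, hm⟩ := ONOut.involution_conj hfz fun h => d.z_notMem ((hker d.zN).1 h)
  have hodd : Odd (Nat.card (D.map f)) := by
    refine Odd.of_dvd_nat ?_ (card_map_dvd _ _)
    rw [hD, Nat.card_congr (subgroupOfEquivOfLe inf_le_left).toEquiv]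
    exact hse.2.2 u huN
  have htr : ∀ w : Spor.ON, ∃ v ∈ D.map f, v * f d.zN * v⁻¹ = w * f d.zN * w⁻¹ := by
    intro w
    obtain ⟨n, rfl⟩ := hsurj w
    have hmem : (n : G) * S.z * (n : G)⁻¹ ∈ d.N := mul_mem (mul_mem n.2 hzN) (inv_mem n.2)
    obtain ⟨v, hv, hve⟩ := Invol.se_inter_transitive hse hu2 huN hord hzN
      (show orderOf ((n : G) * S.z * (n : G)⁻¹) = 2 by rw [Invol.orderOf_conj, hord]) hmem
    refine ⟨f ⟨v, (mem_inf.1 hv).1⟩, ⟨_, mem_subgroupOf.2 hv, rfl⟩, ?_⟩
    rw [← map_inv, ← map_mul, ← map_mul, ← map_inv, ← map_mul, ← map_mul]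
    exact congrArg f (Subtype.ext hve)
  refine no_odd_transitive ((D.map f).map (MulAut.conj m⁻¹).toMonoidHom)
    (by rwa [Subgroup.card_map_of_injective (f := (MulAut.conj m⁻¹).toMonoidHom) (MulAut.conj m⁻¹).injective])
    fun w => ?_
  obtain ⟨v, hv, hve⟩ := htr (m * w * m⁻¹)
  refine ⟨m⁻¹ * v * m, ⟨v, hv, by simp⟩, ?_⟩
  rw [← hm]
  calc m⁻¹ * v * m * (m⁻¹ * f d.zN * m) * (m⁻¹ * v * m)⁻¹ = m⁻¹ * (v * f d.zN * v⁻¹) * m := by group
    _ = _ := by rw [hve]; group

end Cfsg.Agent.StdON
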