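import Cfsg.Agent.StdON.Setup

/-!
The covering groups are quasisimple and their three outer automorphisms are not inner.
-/

set_option autoImplicit false
set_option maxHeartbeats 1000000
set_option linter.unusedSectionVars false
set_option linter.style.haveILetI false

namespace Cfsg.Agent.StdON

open Cfsg.Agent ONUniq Compute Subgroup
open scoped commutatorElement

attribute [local irreducible] compCode idCode canonC powC SLMult.L34.codes SLMult.L34.centPairs
  DataL.dperm DataL.dwords DataA.chain DataA.gs DataA.gis DataA.zeta DataA.mask DataA.sig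
  DataB.chain DataB.gs DataB.gis DataB.zeta DataB.mask DataB.sig

local notation "PSL₃(" F ")" => Matrix.ProjectiveSpecialLinearGroup (Fin 3) F

theorem cover_facts (b : Bool) : commutator (Mg b) = ⊤ ∧ IsCyclic (center (Mg b)) ∧
    Nat.card (center (Mg b)) = 4 ∧ Nonempty (Mg b ⧸ center (Mg b) ≃* PSL₃(F4)) := by
  obtain ⟨w, hw, h2⟩ := SLMult.L34.exists_omega card_F4
  obtain ⟨π, hπs, -, hker, hle, hperf, hcard⟩ :=
    KData.exists_pi (kd_checked b) w card_F4 hw h2 d_ok (chi_first b)
  have hc : center (Mg b) = π.ker := center_eq_ker w card_F4 hw h2 π hπs hle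
  refine ⟨hperf, ?_, hc ▸ hcard, ⟨(QuotientGroup.quotientMulEquivOfEq hc).trans
    (QuotientGroup.quotientKerEquivOfSurjective π hπs)⟩⟩
  rw [center_eq]
  exact inferInstance

variable {b : Bool}

theorem perfect_Mg : commutator (Mg b) = ⊤ := (cover_facts b).1

theorem card_center_Mg : Nat.card (center (Mg b)) = 4 := (cover_facts b).2.2.1

/-- A normal subgroup is central or everything. -/
theorem normal_cases (N : Subgroup (Mg b)) [hN : N.Normal] : N ≤ center (Mg b) ∨ N = ⊤ := by
  obtain ⟨e⟩ := (cover_facts b).2.2.2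
  haveI : IsSimpleGroup (PSL₃(F4)) := Classical.isSimpleGroup_psl (Or.inl (by simp))
  haveI : Nontrivial (Mg b ⧸ center (Mg b)) := e.toEquiv.nontrivial
  haveI : IsSimpleGroup (Mg b ⧸ center (Mg b)) := IsSimpleGroup.isSimpleGroup_of_surjective
    (f := e.symm.toMonoidHom) e.symm.surjective
  rcases (hN.map (QuotientGroup.mk' (center (Mg b))) (QuotientGroup.mk'_surjective _)).eq_bot_or_eq_top
    with h | h
  · left
    rwa [Subgroup.map_eq_bot_iff, QuotientGroup.ker_mk'] at h
  · right
    rw [← top_le_iff, ← perfect_Mg, _root_.commutator_def, Subgroup.commutator_le]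
    intro x _ y _
    obtain ⟨n, hn, e1⟩ := h.symm ▸ Subgroup.mem_top (QuotientGroup.mk' (center (Mg b)) x)
    have hc : n⁻¹ * x ∈ center (Mg b) := QuotientGroup.eq.1 e1
    have e2 : ⁅x, y⁆ = n * (y * n⁻¹ * y⁻¹) := by
      rw [commutatorElement_def]
      calc x * y * x⁻¹ * y⁻¹ = n * ((n⁻¹ * x) * y) * (n⁻¹ * x)⁻¹ * n⁻¹ * y⁻¹ := by group
        _ = n * (y * n⁻¹ * y⁻¹) := by rw [central_comm hc]; group
    rw [e2]
    exact mul_mem hn (hN.conj_mem _ (inv_mem hn) y)

/-- The nontrivial normalising permutations do not induce inner automorphisms. -/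
theorem auts_not_inner (a : Fin 3) (m : Mg b) : auts b a.succ ≠ MulAut.conj m := by
  intro h
  obtain ⟨-, -, hout, -⟩ := KData.sig_spec (kd_checked b) (a := (a : ℕ)) a.2
  have hp : pA b a.succ = rep224.den ((kd b).sig.getD a (0, 0)).1 := by
    rw [pA, if_neg (by simp)]; simp
  rw [← hp] at hout
  obtain ⟨k, hk⟩ := KData.centraliser_le (kd_checked b) zeta_comm
    (q := ((m : Equiv.Perm (Fin 224)))⁻¹ * pA b a.succ) fun x => by
      have h1 := auts_val a.succ x
      rw [h, MulAut.conj_apply, Subgroup.coe_mul, Subgroup.coe_mul, Subgroup.coe_inv] at h1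
      calc (m : Equiv.Perm (Fin 224))⁻¹ * pA b a.succ * x
          = (m : Equiv.Perm (Fin 224))⁻¹ * (pA b a.succ * x * (pA b a.succ)⁻¹) * pA b a.succ := by
            group
        _ = x * ((m : Equiv.Perm (Fin 224))⁻¹ * pA b a.succ) := by rw [← h1]; group
  refine hout ?_
  rw [show pA b a.succ = (m : Equiv.Perm (Fin 224)) * ((zeta b ^ k : Mg b) : Equiv.Perm (Fin 224)) by
    rw [show ((zeta b ^ k : Mg b) : Equiv.Perm (Fin 224)) = _ from hk.symm]; group]
  exact mul_mem m.2 (zeta b ^ k).2

end Cfsg.Agent.StdON
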