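import Cfsg.Agent.StdON.Base
import Cfsg.Agent.StdON.Cover
import Cfsg.Agent.Invol.ZStar
import Cfsg.Agent.Classical.SmallSimple
import Cfsg.Prelude.Def_Local
import Cfsg.Prelude.Def_TwoFusion

/-!
From a standard subgroup 4.L3(4) to a configuration at its central involution, and a commuting
conjugate of that involution.
-/

set_option autoImplicit false
set_option maxHeartbeats 1000000
set_option linter.unusedSectionVars false
set_option linter.style.haveILetI false

namespace Cfsg.Agent.StdON

open Cfsg.Agent ONUniq Subgroup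
open scoped commutatorElement

local notation "PSL₃(" F ")" => Matrix.ProjectiveSpecialLinearGroup (Fin 3) F

variable {G : Type*} [Group G]

/-- An element moving every element of a perfect subgroup by a central one centralises it. -/
theorem mem_centralizer_of_moves {L : Subgroup G} (hp : commutator L = ⊤) {h : G}
    (hh : ∀ x : L, ∃ c ∈ center L, h * (x : G) * h⁻¹ = (c : G) * x) :
    h ∈ centralizer (L : Set G) := by
  choose c hc e using hh
  let f : L →* center L := MonoidHom.mk' (fun x => ⟨c x, hc x⟩) fun x y => by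
    refine Subtype.ext (Subtype.ext ?_)
    show (c (x * y) : G) = (c x : G) * (c y : G)
    have h1 := e (x * y)
    rw [Subgroup.coe_mul, show h * ((x : G) * y) * h⁻¹ = h * x * h⁻¹ * (h * y * h⁻¹) by group, e x, e y] at h1
    have hcom : (c y : G) * x = x * c y := congrArg Subtype.val (mem_center_iff.mp (hc y) x).symm
    apply mul_right_cancel (b := (x : G) * y)
    rw [← h1]
    calc (c x : G) * x * ((c y : G) * y) = (c x : G) * ((x : G) * c y) * y := by group
      _ = _ := by rw [← hcom]; group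
  have : IsMulCommutative (center L) := ⟨⟨fun a b => Subtype.ext (mem_center_iff.mp b.2 a)⟩⟩
  have hf : commutator L ≤ f.ker := by
    rw [_root_.commutator_def, Subgroup.commutator_le]
    intro a _ b _
    rw [MonoidHom.mem_ker, map_commutatorElement, commutatorElement_eq_one_iff_mul_comm]
    exact IsMulCommutative.is_comm.comm _ _
  rw [hp] at hf
  refine mem_centralizer_iff.mpr fun x hx => ?_
  have h1 : c ⟨x, hx⟩ = 1 := congrArg Subtype.val (MonoidHom.mem_ker.mp (hf (mem_top (⟨x, hx⟩ : L))))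
  have := e ⟨x, hx⟩
  rw [h1, Subgroup.coe_one, one_mul] at this
  exact (mul_inv_eq_iff_eq_mul.mp this).symm

/-- Two subgroups normalising each other, the first quasisimple: contained or commuting. -/
theorem le_of_mutual {L L' : Subgroup G} (hq : Cfsg.IsQuasisimple L)
    (h1 : L ≤ normalizer (L' : Set G)) (h2 : L' ≤ normalizer (L : Set G)) :
    L ≤ L' ∨ ⁅L, L'⁆ = ⊥ := by
  obtain ⟨hperf, hsimp⟩ := hq
  have hp : commutator L = ⊤ := hperf.commutator_eq_top
  let M : Subgroup L := L'.subgroupOf L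
  have hMn : M.Normal := ⟨fun m hm x => (mem_normalizer_iff.mp (h1 x.2) m).mp hm⟩
  rcases (hMn.map (QuotientGroup.mk' (center L)) (QuotientGroup.mk'_surjective _)).eq_bot_or_eq_top
    with h | h
  · right
    rw [Subgroup.commutator_comm, commutator_eq_bot_iff_le_centralizer]
    intro b hb
    refine mem_centralizer_of_moves hp fun x => ?_
    have hL : b * (x : G) * b⁻¹ * (x : G)⁻¹ ∈ L :=
      mul_mem ((mem_normalizer_iff.mp (h2 hb) x).mp x.2) (inv_mem x.2)
    have hL' : b * (x : G) * b⁻¹ * (x : G)⁻¹ ∈ L' := by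
      rw [show b * (x : G) * b⁻¹ * (x : G)⁻¹ = b * ((x : G) * b⁻¹ * (x : G)⁻¹) by group]
      exact mul_mem hb ((mem_normalizer_iff.mp (h1 x.2) _).mp (inv_mem hb))
    refine ⟨⟨_, hL⟩, ?_, ?_⟩
    · have hm : QuotientGroup.mk' (center L) ⟨_, hL⟩ ∈ M.map (QuotientGroup.mk' (center L)) :=
        Subgroup.mem_map_of_mem _ hL'
      rw [h, Subgroup.mem_bot] at hm
      exact (QuotientGroup.eq_one_iff _).mp hm
    · show b * (x : G) * b⁻¹ = b * (x : G) * b⁻¹ * (x : G)⁻¹ * x
      group
  · left
    have hM : commutator L ≤ M := by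
      rw [_root_.commutator_def, Subgroup.commutator_le]
      intro a _ y _
      obtain ⟨n, hn, e1⟩ := h.symm ▸ mem_top (QuotientGroup.mk' (center L) a)
      have hc := mem_center_iff.mp (QuotientGroup.eq.mp e1)
      have e2 : ⁅a, y⁆ = n * (y * n⁻¹ * y⁻¹) := by
        rw [commutatorElement_def]
        calc a * y * a⁻¹ * y⁻¹ = n * ((n⁻¹ * a) * y) * (n⁻¹ * a)⁻¹ * n⁻¹ * y⁻¹ := by group
          _ = n * (y * n⁻¹ * y⁻¹) := by rw [← hc y]; group
      rw [e2]
      exact mul_mem hn (hMn.conj_mem _ (inv_mem hn) y)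
    rw [hp] at hM
    intro x hx
    exact hM (mem_top (⟨x, hx⟩ : L))

/-- A standard subgroup of this type gives a configuration. -/
theorem exists_base [Finite G] (L : Subgroup G) (hL : Cfsg.IsStandardSubgroup L)
    {F : Type*} [Field F] [Fintype F] (hF : Fintype.card F = 4)
    (hLX : IsCyclic ↥(center ↥L) ∧ Nat.card ↥(center ↥L) = 4 ∧
      Nonempty (↥L ⧸ center ↥L ≃* Matrix.ProjectiveSpecialLinearGroup (Fin 3) F)) :
    ∃ b : Bool, Nonempty (Base b G) := by
  classical
  obtain ⟨hcyc, hc4, ⟨eF⟩⟩ := hLX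
  obtain ⟨hq, htight, hcomm, hnorm⟩ := hL
  have hp : commutator L = ⊤ := hq.1.commutator_eq_top
  obtain ⟨eK⟩ := Classical.Small.psl_congr (n := 3)
    (FiniteField.ringEquivOfCardEq (K := F) (K' := F4) (hF.trans card_F4.symm))
  obtain ⟨w, hw, h2⟩ := SLMult.L34.exists_omega card_F4
  let π : L →* PSL₃(F4) := (eF.trans eK).toMonoidHom.comp (QuotientGroup.mk' (center L))
  have hπ : Function.Surjective π := (eF.trans eK).surjective.comp (QuotientGroup.mk'_surjective _)
  have hker : π.ker = center L := by ext x; simp [π]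
  obtain ⟨z₀, hz₀⟩ := hcyc.exists_generator
  have hzpow : zpowers (z₀ : L) = center L := by
    refine le_antisymm (zpowers_le.2 z₀.2) fun x hx => ?_
    obtain ⟨n, hn⟩ := hz₀ ⟨x, hx⟩
    exact ⟨n, congrArg Subtype.val hn⟩
  obtain ⟨b, ⟨e⟩⟩ := exists_iso w card_F4 hw h2 π hπ hker.le hp (hker.trans hzpow.symm)
    (by rw [← Nat.card_zpowers, hzpow, hc4])
  refine ⟨b, ?_⟩
  let e' : Mg b ≃* L := e
  let φ : Mg b →* G := L.subtype.comp e'.toMonoidHom
  have hφinj : Function.Injective φ := L.subtype_injective.comp e'.injective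
  have hφL : ∀ m, φ m ∈ L := fun m => (e' m).2
  have hLφ : ∀ y ∈ L, ∃ m, φ m = y := fun y hy => ⟨e'.symm ⟨y, hy⟩, by simp [φ]⟩
  have hmemK : ∀ g : G, g ∈ centralizer (L : Set G) ↔ ∀ x, g * φ x = φ x * g := fun g => by
    rw [mem_centralizer_iff]
    refine ⟨fun h x => (h _ (hφL x)).symm, fun h y hy => ?_⟩
    obtain ⟨m, rfl⟩ := hLφ y hy
    exact (h m).symm
  obtain ⟨z, hz⟩ : ∃ z, z = φ (tt b) := ⟨_, rfl⟩
  have hzK : z ∈ centralizer (L : Set G) := (hmemK z).2 fun x => by
    rw [hz, ← map_mul, ← map_mul, central_comm tt_mem_center]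
  have hz2 : z * z = 1 := by rw [hz, ← map_mul, tt_sq, map_one]
  have hz1 : z ≠ 1 := by rw [hz]; exact (map_ne_one_iff _ hφinj).2 tt_ne_one
  have hnz : ∀ g ∈ normalizer (L : Set G), g * z = z * g := by
    intro g hg
    have hn := mem_normalizer_iff.mp hg
    obtain ⟨y, hy'⟩ := hLφ _ ((hn z).mp (hz ▸ hφL _))
    have hyc : y ∈ center (Mg b) := mem_center_iff.2 fun x => hφinj (by
      rw [map_mul, map_mul, hy']
      have hx : g⁻¹ * φ x * g ∈ L :=
        (hn _).mpr (by rw [show g * (g⁻¹ * φ x * g) * g⁻¹ = φ x by group]; exact hφL x)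
      have hc := mem_centralizer_iff.1 hzK _ hx
      calc φ x * (g * z * g⁻¹) = g * (g⁻¹ * φ x * g * z) * g⁻¹ := by group
        _ = _ := by rw [hc]; group)
    rcases central_invol hyc (hφinj (by
      rw [map_mul, hy', map_one]
      calc g * z * g⁻¹ * (g * z * g⁻¹) = g * (z * z) * g⁻¹ := by group
        _ = 1 := by rw [hz2]; group)) with rfl | rfl
    · rw [map_one] at hy'
      exact absurd (conj_eq_one_iff.mp hy'.symm) hz1
    · exact mul_inv_eq_iff_eq_mul.mp (hy'.symm.trans hz.symm)
  have htN : ∀ j ∈ centralizer (L : Set G), j * j = 1 → j ≠ 1 → ∀ g : G, g * j = j * g →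
      g ∈ normalizer (L : Set G) := by
    intro j hj h2 h1 g hg
    rw [hnorm]
    by_contra hn
    refine (Nat.not_even_iff_odd.mpr (htight.2 g hn)) (even_iff_two_dvd.mpr ?_)
    have hj' : j ∈ centralizer (L : Set G) ⊓
        (centralizer (L : Set G)).map (MulAut.conj g).toMonoidHom :=
      ⟨hj, j, hj, by simp [MulAut.conj_apply, hg]⟩
    rw [← orderOf_eq_prime (p := 2) (by rw [pow_two, h2]) h1, ← Nat.card_zpowers]
    exact card_dvd_of_le (zpowers_le.mpr hj')
  have hzn : ∀ h : G, h * z = z * h → h ∈ normalizer (L : Set G) := htN z hzK hz2 hz1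
  refine ⟨⟨φ, hφinj, fun g hg m => ?_, fun k hk hk2 hk1 g hg => ?_, fun g hg => ?_⟩⟩
  · rw [← hz] at hg
    obtain ⟨n, hn⟩ := hLφ _ ((mem_normalizer_iff.mp (hzn g hg) _).mp (hφL m))
    exact ⟨n, hn.symm⟩
  · rw [← hz]
    exact hnz g (htN k ((hmemK k).2 hk) hk2 hk1 g hg)
  · rw [← hz] at hg ⊢
    set j := g * z * g⁻¹ with hjdef
    have hjK : j ∈ centralizer (L : Set G) := (hmemK j).2 hg
    have hj2 : j * j = 1 := by
      rw [hjdef]
      calc _ = g * (z * z) * g⁻¹ := by group
        _ = 1 := by rw [hz2]; group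
    have hj1 : j ≠ 1 := fun h => hz1 (conj_eq_one_iff.mp h)
    set L' := L.map (MulAut.conj g).toMonoidHom with hL'def
    have h2' : L' ≤ normalizer (L : Set G) := by
      rintro _ ⟨y, hy, rfl⟩
      refine htN j hjK hj2 hj1 _ ?_
      have := hnz y (le_normalizer hy)
      show g * y * g⁻¹ * j = j * (g * y * g⁻¹)
      rw [hjdef]
      calc g * y * g⁻¹ * (g * z * g⁻¹) = g * (y * z) * g⁻¹ := by group
        _ = _ := by rw [this]; group
    have h1' : L ≤ normalizer (L' : Set G) := by
      intro y hy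
      have hyj : y * j = j * y := mem_centralizer_iff.1 hjK y hy
      have hmem := hzn (g⁻¹ * y * g) (by
        rw [hjdef] at hyj
        calc g⁻¹ * y * g * z = g⁻¹ * (y * (g * z * g⁻¹)) * g := by group
          _ = _ := by rw [hyj]; group)
      refine mem_normalizer_iff.mpr fun x => ?_
      rw [hL'def, mem_map_equiv, mem_map_equiv, MulAut.conj_symm_apply, MulAut.conj_symm_apply,
        mem_normalizer_iff.mp hmem (g⁻¹ * x * g)]
      rw [show g⁻¹ * y * g * (g⁻¹ * x * g) * (g⁻¹ * y * g)⁻¹ = g⁻¹ * (y * x * y⁻¹) * g by group]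
    have he : L = L' := by
      rcases le_of_mutual hq h1' h2' with h | h
      · exact eq_of_le_of_card_ge h
          (by rw [hL'def, card_map_of_injective (MulAut.conj g).injective])
      · by_contra hne
        exact hcomm g (fun h' => hne h'.symm) h
    have hgN : g ∈ normalizer (L : Set G) := by
      refine mem_normalizer_iff.mpr fun x => ⟨fun hx => ?_, fun hx => ?_⟩
      · rw [he]; exact ⟨x, hx, rfl⟩
      · rw [he, hL'def] at hx
        obtain ⟨v, hv, hvx⟩ := hx
        exact ((MulAut.conj g).injective hvx) ▸ hv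
    rw [hjdef, hnz g hgN, mul_inv_cancel_right]

/-- In a simple group the involution commutes with another conjugate. -/
theorem exists_pair {b : Bool} [Finite G] [IsSimpleGroup G] (hG : ¬ IsMulCommutative G)
    (S : Base b G) : ∃ T, Base.Pair S T := by
  have : Fact (Nat.Prime 2) := ⟨Nat.prime_two⟩
  have hcen : center G = ⊥ := by
    rcases (inferInstance : (center G).Normal).eq_bot_or_eq_top with h | h
    · exact h
    · exact absurd ⟨⟨fun a b => mem_center_iff.mp (h.symm ▸ mem_top b) a⟩⟩ hG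
  have hord : orderOf S.z = 2 := orderOf_eq_prime (by rw [pow_two, S.z_sq]) S.z_ne_one
  have hodd : Cfsg.oddCore G = ⊥ := by
    refine le_bot_iff.mp (sSup_le ?_)
    rintro N ⟨hN, hc⟩
    rcases hN.eq_bot_or_eq_top with h | h
    · exact h.le
    · exfalso
      rw [h, card_top] at hc
      exact (Nat.prime_two.coprime_iff_not_dvd.mp hc.symm) (hord ▸ orderOf_dvd_natCard _)
  by_contra hcon
  push Not at hcon
  refine S.z_ne_one ((eq_bot_iff_forall _).mp hcen _ (mem_center_iff.mpr fun g => ?_))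
  have hiso : Cfsg.IsIsolatedInvolution S.z := ⟨hord, fun h hh => by
    by_contra hne
    exact hcon _ (Base.pair_conj hh.eq.symm hne)⟩
  have := Invol.zstar hiso g
  rw [hodd, mem_bot] at this
  calc g * S.z = S.z * g * S.z⁻¹ * g⁻¹ * (g * S.z) := by rw [this, one_mul]
    _ = _ := by group

end Cfsg.Agent.StdON
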