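import Cfsg.Agent.StdON.Base

/-!
What the fusion analysis hands over to the endgame.
-/

set_option autoImplicit false

namespace Cfsg.Agent.StdON

open Subgroup

/-- The data of a standard component 4.L3(4) whose involution centraliser is known. -/
structure FinalData {G : Type*} [Group G] (S : Base false G) where
  /-- the odd part of the centraliser of the component -/
  X : Subgroup G
  X_odd : Odd (Nat.card X)
  X_le : X ≤ S.K
  K_split : ∀ k ∈ S.K, ∃ (i : ℕ) (x : G), x ∈ X ∧ k = S.φ (zeta false ^ i) * x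
  /-- the centraliser of the involution and the commuting conjugates normalise `X` -/
  X_pair : ∀ g : G, g * S.z * g⁻¹ * S.z = S.z * (g * S.z * g⁻¹) → g ∈ normalizer (X : Set G)
  /-- the centraliser induces at most the automorphisms of O'Nan type -/
  M_class : ∀ h : G, h * S.z = S.z * h → ∃ α ∈ A2, S.Ind h α
  /-- a commuting conjugate inducing the outer automorphism -/
  outer : ∃ g : G, g * S.z * g⁻¹ * S.z = S.z * (g * S.z * g⁻¹) ∧
    ∃ m, S.Ind (g * S.z * g⁻¹) (MulAut.conj m * auts false 3)
  /-- one class of involutions in the centraliser -/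
  inv_conj : ∀ j : G, j * j = 1 → j ≠ 1 → j * S.z = S.z * j → ∃ g : G, j = g * S.z * g⁻¹
  /-- the centraliser contains a Sylow subgroup -/
  odd_index : ¬ 2 ∣ (centralizer ({S.z} : Set G)).index
  /-- an inner involution -/
  invol : ∃ u : Mg false, u * u = 1 ∧ u ∉ center (Mg false)
  /-- no other conjugate is central in a Sylow subgroup -/
  no_central : ∀ g : G, g * S.z * g⁻¹ * S.z = S.z * (g * S.z * g⁻¹) → g * S.z * g⁻¹ ≠ S.z →
    g * S.z * g⁻¹ * S.a = S.a * (g * S.z * g⁻¹) → ∀ P : Subgroup (Mg false), Nat.card P = 256 →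
      ∃ p ∈ P, g * S.z * g⁻¹ * S.φ p ≠ S.φ p * (g * S.z * g⁻¹)

end Cfsg.Agent.StdON
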