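import Cfsg.Agent.StdON.Fusion
import Cfsg.Agent.StdON.FinalDef

/-!
The centraliser of the involution has odd index and induces only automorphisms of O'Nan type: by
the transfer into its quotient by the elements of that type.
-/

set_option autoImplicit false
set_option maxHeartbeats 1000000
set_option linter.unusedSectionVars false
set_option linter.style.haveILetI false

namespace Cfsg.Agent.StdON

open Cfsg.Agent ONUniq Compute Subgroup

attribute [local irreducible] compCode idCode canonC powC SLMult.L34.codes SLMult.L34.centPairs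
  DataL.dperm DataL.dwords DataA.chain DataA.gs DataA.gis DataA.zeta DataA.mask DataA.sig
  DataB.chain DataB.gs DataB.gis DataB.zeta DataB.mask DataB.sig

theorem two_mul_self : ∀ c : Multiplicative (ZMod 2), c * c = 1 := by decide

theorem two_ne_one : (Multiplicative.ofAdd 1 : Multiplicative (ZMod 2)) ≠ 1 := by decide

namespace Base

variable {G : Type*} [Group G] {S T : Base false G}

/-- The element induces an automorphism of O'Nan type. -/
def InA2 (S : Base false G) (h : G) : Prop := ∃ α ∈ A2, S.Ind h α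

theorem InA2.mul {h h' : G} (h1 : S.InA2 h) (h2 : S.InA2 h') : S.InA2 (h * h') := by
  obtain ⟨α, hα, i1⟩ := h1
  obtain ⟨β, hβ, i2⟩ := h2
  exact ⟨_, mul_mem hα hβ, i1.mul i2⟩

theorem InA2.of_mem_K {k : G} (hk : k ∈ S.K) : S.InA2 k := ⟨1, one_mem _, ind_K hk⟩

theorem InA2.not_of_ind {h : G} {α : MulAut (Mg false)} (hα : S.Ind h α) (hn : α ∉ A2) :
    ¬ S.InA2 h := fun ⟨_, hβ, hi⟩ => hn (hα.eq hi ▸ hβ)

theorem conj_mul_auts_one_not_A2 (m : Mg false) : MulAut.conj m * auts false 1 ∉ A2 := fun h =>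
  auts_one_not_A2 (by
    have := mul_mem (conj_mem_A2 m⁻¹) h
    rwa [← mul_assoc, ← map_mul, inv_mul_cancel, map_one, one_mul] at this)

variable [Finite G] (hp : HasPairs false G)
include hp

/-- A square root of the involution inducing the other kind of automorphism does not swap. -/
theorem no_swap (h : Pair S T) {e : G} {m : Mg false}
    (he : S.Ind e (MulAut.conj m * auts false 1)) (he2 : e * e = S.z) {α : MulAut (Mg false)}
    (hA : α ∈ A2) (hα : T.Ind e α) : False := by
  obtain ⟨n₀, hn₀⟩ := sq_inner (S := T) hα.comm_z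
  rw [he2] at hn₀
  obtain ⟨c, d, hN⟩ := h.normalise (Inner.symm ⟨n₀, hn₀⟩)
  set S1 := S.conj (S.φ c) with hS1
  set T1 := T.conj (T.φ d) with hT1
  have he2' : e * e = S1.z := by rw [hS1, conj_phi_z, he2]
  set m₁ := c⁻¹ * m * auts false 1 c
  have hβ : S1.Ind e (MulAut.conj m₁ * auts false 1) :=
    (he.conj_phi c).congr (conj_left_class c m 1)
  have hA1 : MulAut.conj d⁻¹ * α * MulAut.conj d ∈ A2 :=
    mul_mem (mul_mem (conj_mem_A2 _) hA) (conj_mem_A2 _)
  have hα1 : T1.Ind e (MulAut.conj d⁻¹ * α * MulAut.conj d) := hα.conj_phi d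
  generalize MulAut.conj d⁻¹ * α * MulAut.conj d = α1 at hA1 hα1
  have hβv : (MulAut.conj m₁ * auts false 1) (vv false) = vv false :=
    (hβ.fix_iff _).2 (by rw [← hN.hT, hT1, conj_phi_z]; exact hα.comm_z)
  have hαv : α1 (vv false) = vv false :=
    (hα1.fix_iff _).2 (by rw [← hN.hS, ← he2', mul_assoc])
  have hX2 : m₁ * auts false 1 m₁ ∈ center (Mg false) := conj_eq_one (by
    rw [← conj_mul_auts_sq]
    exact (hβ.mul hβ).eq (he2' ▸ ind_K S1.z_mem_K))
  have hα2 : α1 * α1 = MulAut.conj (vv false) := (hα1.mul hα1).eq (he2' ▸ hN.symm.ind_z)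
  obtain ⟨p, q, hpv, hqv, hb2, hb4, hbfix⟩ := fix_fact hβv hX2
  obtain ⟨p', hp', hp'v, hp'2, hp'4⟩ := exists_pre hp hN hpv hqv hb2 hb4
  have hαp : α1 p' = p' := (hα1.fix_iff _).2 (by rw [hp']; exact (hβ.fix_iff _).1 hbfix)
  obtain ⟨n, rfl | rfl⟩ := hA1
  · have hnv : n * vv false = vv false * n := mul_inv_eq_iff_eq_mul.1 hαv
    obtain ⟨z₀, hz₀, u₁, u₂, hu₁, hu₂, hu₁v, hu₂v, rfl⟩ :=
      innerRoot_fact hnv (vz_of_conj (by rw [map_mul]; exact hα2)) hp'v hp'2 hp'4
        (mul_inv_eq_iff_eq_mul.1 hαp)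
    refine InA2.not_of_ind hβ (conj_mul_auts_one_not_A2 m₁) ?_
    have ha : S1.InA2 T1.a := by
      obtain ⟨n', hn', -⟩ := hN.delta_inner
      exact ⟨_, conj_mem_A2 n', hn'⟩
    have hz : ∀ i : ℕ, S1.InA2 (T1.φ (zeta false ^ i)) := by
      intro i
      induction i with
      | zero => rw [pow_zero, map_one]; exact InA2.of_mem_K (one_mem _)
      | succ i ih => rw [pow_succ, map_mul]; exact ih.mul ha
    have hu : ∀ u, u * u = 1 → u * vv false = vv false * u → S1.InA2 (T1.φ u) := by
      intro u hu2 huv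
      by_cases hc : u ∈ center (Mg false)
      · obtain ⟨i, -, rfl⟩ := central_iff.1 hc
        exact hz i
      obtain ⟨W, hW, hWz⟩ := exists_cfg hp T1 hu2 hc
      obtain ⟨g, hg⟩ := (hN.pair.rel.trans hW).z_eq
      rw [← hWz, hg]
      exact conj_A2 hp S1 (by rw [← hg, hWz]; exact hN.symm.comm_of_comm_v huv)
    obtain ⟨X, hX, -, hsplit⟩ := exists_X hp T1
    have hk : (T1.φ (z₀ * (u₁ * u₂)))⁻¹ * e ∈ T1.K :=
      (((ind_phi _).inv.mul hα1).congr (inv_mul_cancel _)).mem_K
    obtain ⟨i, x, hxX, hix⟩ := hsplit _ hk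
    have hx : S1.InA2 x :=
      InA2.of_mem_K (oddK_eq hp hN.symm.pair ▸ (hX x).1 hxX : x ∈ S1.oddK).1
    obtain ⟨j, -, rfl⟩ := central_iff.1 hz₀
    rw [show e = T1.φ (zeta false ^ j * (u₁ * u₂)) * (T1.φ (zeta false ^ i) * x) by
      rw [← hix, mul_inv_cancel_left], map_mul, map_mul]
    exact ((hz j).mul ((hu u₁ hu₁ hu₁v).mul (hu u₂ hu₂ hu₂v))).mul ((hz i).mul hx)
  · rw [conj_mul_auts_sq] at hα2
    exact outerRoot_fact hαv (vz_of_conj hα2) hp'v hp'2 hp'4 hαp

omit [Finite G] hp in
theorem no_central (S : Base false G) {g : G} (hc : g * S.z * g⁻¹ * S.z = S.z * (g * S.z * g⁻¹))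
    (hne : g * S.z * g⁻¹ ≠ S.z) (ha : g * S.z * g⁻¹ * S.a = S.a * (g * S.z * g⁻¹))
    (P : Subgroup (Mg false)) (hP : Nat.card P = 256) :
    ∃ p ∈ P, g * S.z * g⁻¹ * S.φ p ≠ S.φ p * (g * S.z * g⁻¹) := by
  by_contra hcon
  push Not at hcon
  have hpair := pair_conj hc hne
  obtain ⟨c, hcz⟩ := hpair.inner_side (Inner.symm (inner_of_comm_a (T := S.conj g) ha))
  rw [conj_z] at hcz
  have hle := Cv_card (P.map (MulAut.conj c⁻¹).toMonoidHom) (by
    rintro _ ⟨p, hp, rfl⟩
    have e := hcon p hp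
    rw [hcz, ← map_mul, ← map_mul] at e
    have e' := S.inj e
    show c⁻¹ * p * c⁻¹⁻¹ * vv false = vv false * (c⁻¹ * p * c⁻¹⁻¹)
    calc c⁻¹ * p * c⁻¹⁻¹ * vv false = c⁻¹ * (p * (c * vv false * c⁻¹)) * c := by group
      _ = _ := by rw [← e']; group)
  rw [Subgroup.card_map_of_injective (f := (MulAut.conj c⁻¹).toMonoidHom) (MulAut.conj c⁻¹).injective,
    hP] at hle
  omega

omit hp in
theorem card_sylow_Mg (Q : Sylow 2 (Mg false)) : Nat.card Q = 256 := by
  haveI : Fact (Nat.Prime 2) := ⟨Nat.prime_two⟩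
  obtain ⟨n, hn⟩ := IsPGroup.iff_card.1 Q.isPGroup'
  have hdvd : 2 ^ 8 ∣ Nat.card Q := Q.pow_dvd_card_of_pow_dvd_card (by rw [card_Mg_eq]; norm_num)
  have hle := Subgroup.card_subgroup_dvd_card (Q : Subgroup (Mg false))
  rw [hn] at hdvd hle ⊢
  rw [card_Mg_eq] at hle
  have h8 := (Nat.pow_dvd_pow_iff_le_right (by norm_num : 1 < 2)).1 hdvd
  by_cases h9 : 9 ≤ n
  · exact absurd ((pow_dvd_pow 2 h9).trans hle) (by norm_num)
  · rw [show n = 8 by omega]; norm_num

/-- The centraliser contains a Sylow subgroup. -/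
theorem odd_index (S : Base false G) : ¬ 2 ∣ (centralizer ({S.z} : Set G)).index := by
  classical
  haveI : Fact (Nat.Prime 2) := ⟨Nat.prime_two⟩
  intro hdvd
  set M := centralizer ({S.z} : Set G) with hM
  let f : Mg false →* M := S.φ.codRestrict M fun m => mem_centralizer_singleton_iff.2 (S.phi_comm_z m)
  obtain ⟨Q⟩ : Nonempty (Sylow 2 (Mg false)) := inferInstance
  obtain ⟨P, hP⟩ := (Q.isPGroup'.map f).exists_le_sylow
  set P0 : Subgroup G := (P : Subgroup M).map M.subtype with hP0
  obtain ⟨n, hn⟩ := IsPGroup.iff_card.1 P.isPGroup'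
  have hn0 : Nat.card P0 = 2 ^ n := by
    rw [hP0, Subgroup.card_map_of_injective M.subtype_injective, hn]
  have hG : 2 ^ (n + 1) ∣ Nat.card G := by
    rw [← M.card_mul_index, pow_succ]
    exact mul_dvd_mul (hn ▸ Subgroup.card_subgroup_dvd_card (P : Subgroup M)) hdvd
  obtain ⟨g, hg, hgM⟩ : ∃ g ∈ normalizer (P0 : Set G), g ∉ M := by
    by_contra hcon
    push Not at hcon
    have h1 := Sylow.prime_dvd_card_quotient_normalizer hG hn0
    have h2 := Subgroup.card_eq_card_quotient_mul_card_subgroup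
      (P0.comap (normalizer (P0 : Set G)).subtype)
    have h3 : Nat.card (P0.comap (normalizer (P0 : Set G)).subtype) = 2 ^ n := by
      rw [← hn0]
      exact Nat.card_congr (Subgroup.subgroupOfEquivOfLe le_normalizer).toEquiv
    rw [h3] at h2
    have h4 : 2 ^ (n + 1) ∣ Nat.card M := by
      refine dvd_trans ?_ (Subgroup.card_dvd_of_le hcon)
      rw [h2, pow_succ']
      exact mul_dvd_mul_right h1 _
    have h5 := P.pow_dvd_card_of_pow_dvd_card h4
    rw [hn, Nat.pow_dvd_pow_iff_le_right (by norm_num)] at h5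
    omega
  have hmemP : ∀ x ∈ (Q : Subgroup (Mg false)), S.φ x ∈ P0 := fun x hx =>
    ⟨f x, hP ⟨x, hx, rfl⟩, rfl⟩
  have hzQ : zeta false ∈ (Q : Subgroup (Mg false)) := by
    have hz : IsPGroup 2 (zpowers (zeta false)) :=
      IsPGroup.of_card (n := 2) (by rw [Nat.card_zpowers, orderOf_zeta']; norm_num)
    haveI : (zpowers (zeta false)).Normal := center_eq (b := false) ▸ inferInstance
    have h := Q.3 (Q.isPGroup'.to_sup_of_normal_right hz) le_sup_left
    exact h.le (mem_sup_right (mem_zpowers _))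
  set y := g * S.z * g⁻¹
  have hyP : y ∈ P0 := by
    refine (mem_normalizer_iff.1 hg _).1 ?_
    exact hmemP (tt false) (pow_mem hzQ 2)
  have hsub : ∀ p ∈ P0, p * S.z = S.z * p := by
    rintro _ ⟨p, -, rfl⟩
    exact mem_centralizer_singleton_iff.1 p.2
  have hne : y ≠ S.z := fun e => hgM (mem_centralizer_singleton_iff.2 (mul_inv_eq_iff_eq_mul.1 e))
  have hycomm : ∀ p ∈ P0, y * p = p * y := fun p hp' => by
    have h1 : g⁻¹ * p * g ∈ P0 := (mem_normalizer_iff.1 hg _).2 (by
      rwa [show g * (g⁻¹ * p * g) * g⁻¹ = p by group])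
    have h2 := hsub _ h1
    show g * S.z * g⁻¹ * p = p * (g * S.z * g⁻¹)
    calc g * S.z * g⁻¹ * p = g * (S.z * (g⁻¹ * p * g)) * g⁻¹ := by group
      _ = p * (g * S.z * g⁻¹) := by rw [← h2]; group
  obtain ⟨p, hpQ, hp'⟩ := no_central S (g := g) (hsub y hyP) hne (hycomm _ (hmemP _ hzQ))
    (Q : Subgroup (Mg false)) (card_sylow_Mg Q)
  exact hp' (hycomm _ (hmemP p hpQ))

/-- The centraliser induces automorphisms of O'Nan type only. -/
theorem M_class [IsSimpleGroup G] (hG : ¬ IsMulCommutative G) (S : Base false G) {h : G}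
    (hh : h * S.z = S.z * h) : S.InA2 h := by
  classical
  haveI : Fact (Nat.Prime 2) := ⟨Nat.prime_two⟩
  by_contra hnA
  obtain ⟨α, hα⟩ := exists_ind hh
  obtain ⟨h', m, hh'⟩ : ∃ (h' : G) (m : Mg false), S.Ind h' (MulAut.conj m * auts false 1) := by
    obtain ⟨m, rfl | rfl⟩ := class_not_A2 (fun hA => hnA ⟨α, hA, hα⟩)
    · exact ⟨h, m, hα⟩
    obtain ⟨U, -, m₀, hU⟩ := exists_outer_three hp S
    have hnot : MulAut.conj m * auts false 2 * (MulAut.conj m₀ * auts false 3) ∉ A2 := fun hA =>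
      hnA ⟨_, by simpa only [mul_inv_cancel_right] using mul_mem hA (inv_mem
        (show MulAut.conj m₀ * auts false 3 ∈ A2 from ⟨m₀, .inr rfl⟩)), hα⟩
    obtain ⟨r, hr | hr⟩ := class_not_A2 hnot
    · exact ⟨_, r, (hα.mul hU).congr hr⟩
    · exfalso
      have := DFunLike.congr_fun hr (zeta false)
      simp only [MulAut.mul_apply] at this
      rw [auts_zeta_three, map_pow, conj_zeta, map_pow, auts_zeta_two, map_pow, conj_zeta,
        conj_zeta] at this
      exact zeta_ne_inv this.symm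
  -- the element with square one or z
  obtain ⟨X, hX, hXodd, hsplit⟩ := exists_X hp S
  set e₀ := (S.φ m)⁻¹ * h'
  have he₀ : S.Ind e₀ (auts false 1) := ((ind_phi m).inv.mul hh').congr (inv_mul_cancel_left _ _)
  obtain ⟨i, x, hxX, hix⟩ := hsplit _ ((he₀.mul he₀).congr (auts_sq 1)).mem_K
  obtain ⟨j, hj⟩ := hXodd
  have hxj : x ^ (2 * j + 1) = 1 := by
    rw [← hj]
    exact congrArg Subtype.val (pow_card_eq_one' (x := (⟨x, hxX⟩ : X)))
  set e := e₀ ^ (2 * j + 1) with he_def
  have he : S.Ind e (auts false 1) := (he₀.pow _).congr (by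
    rw [pow_succ, pow_mul, pow_two, auts_sq, one_pow, one_mul])
  have hee : e * e = S.φ (zeta false ^ (i * (2 * j + 1))) := by
    rw [he_def, ← (Commute.refl e₀).mul_pow, hix,
      (show Commute (S.φ (zeta false ^ i)) x from (S.mem_K.1 ((hX x).1 hxX).1 _).symm).mul_pow,
      hxj, mul_one, ← map_pow, ← pow_mul]
  have hfix : auts false 1 (zeta false ^ (i * (2 * j + 1))) = zeta false ^ (i * (2 * j + 1)) :=
    (he.fix_iff _).2 (by rw [← hee, mul_assoc])
  rw [map_pow, auts_zeta_one, ← pow_mul, pow_eq_pow_iff_modEq, orderOf_zeta', Nat.ModEq] at hfix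
  have he2 : e * e = 1 ∨ e * e = S.z := by
    rw [hee, ← zeta_pow_mod]
    have : i * (2 * j + 1) % 4 = 0 ∨ i * (2 * j + 1) % 4 = 2 := by omega
    rcases this with e | e <;> rw [e]
    · exact .inl (by rw [pow_zero, map_one])
    · exact .inr rfl
  have heA : ¬ S.InA2 e := InA2.not_of_ind he auts_one_not_A2
  have hec : e * S.z = S.z * e := he.comm_z
  have he4 : e ^ 4 = 1 := by
    rw [show 4 = 2 * 2 from rfl, pow_mul, pow_two e]
    rcases he2 with e' | e' <;> rw [e', pow_two]
    · rw [one_mul]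
    · exact S.z_sq
  -- the transfer
  set M := centralizer ({S.z} : Set G)
  let ϕ : M →* Multiplicative (ZMod 2) :=
    MonoidHom.mk' (fun y => if S.InA2 (y : G) then 1 else Multiplicative.ofAdd 1) fun a b => by
      obtain ⟨α, hα⟩ := exists_ind (S := S) (mem_centralizer_singleton_iff.1 a.2)
      obtain ⟨β, hβ⟩ := exists_ind (S := S) (mem_centralizer_singleton_iff.1 b.2)
      have key : ∀ {g : G} {γ : MulAut (Mg false)}, S.Ind g γ → (S.InA2 g ↔ γ ∈ A2) := fun hg =>
        ⟨fun h => by_contra fun hn => InA2.not_of_ind hg hn h, fun h => ⟨_, h, hg⟩⟩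
      simp only [Subgroup.coe_mul, key hα, key hβ, key (hα.mul hβ)]
      by_cases h1 : α ∈ A2 <;> by_cases h2 : β ∈ A2
      · rw [if_pos h1, if_pos h2, if_pos (mul_mem h1 h2), one_mul]
      · rw [if_pos h1, if_neg h2, if_neg, one_mul]
        exact fun h => h2 ((Subgroup.mul_mem_cancel_left _ h1).1 h)
      · rw [if_neg h1, if_pos h2, if_neg, mul_one]
        exact fun h => h1 ((Subgroup.mul_mem_cancel_right _ h2).1 h)
      · rw [if_neg h1, if_neg h2, if_pos (A2_index_two h1 h2)]
        exact (two_mul_self _).symm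
  have htr : MonoidHom.transfer ϕ e = 1 := by
    rcases (MonoidHom.normal_ker (MonoidHom.transfer ϕ)).eq_bot_or_eq_top with h | h
    · exact absurd ⟨⟨fun a b => (MonoidHom.ker_eq_bot_iff _).1 h (by rw [map_mul, map_mul, mul_comm])⟩⟩ hG
    · exact MonoidHom.mem_ker.1 (h ▸ Subgroup.mem_top e)
  letI : Fintype (Quotient (MulAction.orbitRel (zpowers e) (G ⧸ M))) := Fintype.ofFinite _
  rw [MonoidHom.transfer_eq_prod_quotient_orbitRel_zpowers_quot] at htr
  have hpt : ∀ q : G ⧸ M, e • q = q ↔ q.out⁻¹ * e * q.out ∈ M := fun q => by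
    conv_lhs => rw [← QuotientGroup.out_eq' q, MulAction.Quotient.smul_mk, smul_eq_mul, eq_comm]
    rw [QuotientGroup.eq, mul_assoc]
  have hfac : ∀ q : Quotient (MulAction.orbitRel (zpowers e) (G ⧸ M)),
      ϕ ⟨q.out.out⁻¹ * e ^ Function.minimalPeriod (e • ·) q.out * q.out.out,
        QuotientGroup.out_conj_pow_minimalPeriod_mem M e q.out⟩ =
      if e • q.out = q.out then Multiplicative.ofAdd 1 else 1 := by
    intro q
    set g := q.out.out with hg
    set L := Function.minimalPeriod (e • ·) q.out with hL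
    have hmem : g⁻¹ * e ^ L * g ∈ M := QuotientGroup.out_conj_pow_minimalPeriod_mem M e q.out
    show (if S.InA2 (g⁻¹ * e ^ L * g) then (1 : Multiplicative (ZMod 2)) else _) = _
    by_cases hf : e • q.out = q.out
    · rw [if_pos hf, if_neg]
      have hL1 : L = 1 := Function.minimalPeriod_eq_one_iff_isFixedPt.2 hf
      rw [hL1, pow_one]
      intro hA
      obtain ⟨α, hαA, hα⟩ := hA
      rcases he2 with e2 | e2
      · obtain ⟨g', hg'⟩ := inv_conj_A2 hp S (j := g⁻¹ * e * g)
          (by rw [show g⁻¹ * e * g * (g⁻¹ * e * g) = g⁻¹ * (e * e) * g by group, e2]; group)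
          (fun h1 => heA (by
            rw [show e = g * (g⁻¹ * e * g) * g⁻¹ by group, h1, mul_one, mul_inv_cancel]
            exact InA2.of_mem_K (one_mem _)))
          hαA hα
        have he' : e = g * g' * S.z * (g * g')⁻¹ := by
          rw [show e = g * (g⁻¹ * e * g) * g⁻¹ by group, hg']; group
        refine heA ?_
        rw [he']
        exact conj_A2 hp S (by rw [← he']; exact hec)
      · by_cases hgz : g * S.z * g⁻¹ = S.z
        · obtain ⟨γ, hγ⟩ := exists_ind (S := S) (mul_inv_eq_iff_eq_mul.1 hgz)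
          refine heA ⟨γ * α * γ⁻¹, by simpa only [inv_inv] using A2_conj hαA γ⁻¹, ?_⟩
          rw [show e = g * (g⁻¹ * e * g) * g⁻¹ by group]
          exact (hγ.mul hα).mul hγ.inv
        · have hc := hα.comm_z
          have hegz : e * (g * S.z * g⁻¹) = g * S.z * g⁻¹ * e := by
            calc e * (g * S.z * g⁻¹) = g * (g⁻¹ * e * g * S.z) * g⁻¹ := by group
              _ = _ := by rw [hc]; group
          refine no_swap hp (S := S) (T := S.conj g) (m := 1) (pair_conj ?_ hgz)
            (by rw [map_one, one_mul]; exact he) e2 hαA fun y => ?_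
          · have := (((show Commute e _ from hegz).mul_left hegz)).symm.eq
            rwa [e2] at this
          · rw [conj_phi, conj_phi, ← hα y]
            group
    · rw [if_neg hf, if_pos]
      have hL4 : L ∣ 4 := Function.IsPeriodicPt.minimalPeriod_dvd (by
        show (e • ·)^[4] q.out = q.out
        rw [smul_iterate, he4]
        exact one_smul G _)
      have hL1 : L ≠ 1 := fun h => hf (Function.minimalPeriod_eq_one_iff_isFixedPt.1 h)
      obtain hL2 | hL4' : L = 2 ∨ L = 4 := by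
        have := Nat.le_of_dvd (by norm_num) hL4
        interval_cases L <;> omega
      · rw [hL2, pow_two] at hmem ⊢
        rcases he2 with e2 | e2
        · rw [e2, mul_one, inv_mul_cancel]
          exact InA2.of_mem_K (one_mem _)
        · rw [e2] at hmem ⊢
          have := mem_centralizer_singleton_iff.1 hmem
          have h' := conj_A2 hp S (g := g⁻¹) (by rwa [inv_inv])
          rwa [inv_inv] at h'
      · rw [hL4', he4, mul_one, inv_mul_cancel]
        exact InA2.of_mem_K (one_mem _)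
  rw [Finset.prod_congr rfl fun q _ => hfac q, Finset.prod_ite, Finset.prod_const_one, mul_one,
    Finset.prod_const] at htr
  -- the number of fixed cosets is odd
  have hcard : (Finset.univ.filter fun q : Quotient (MulAction.orbitRel (zpowers e) (G ⧸ M)) =>
      e • q.out = q.out).card = Nat.card (MulAction.fixedPoints (zpowers e) (G ⧸ M)) := by
    rw [← Fintype.card_subtype, ← Nat.card_eq_fintype_card]
    have hfixed : ∀ x : G ⧸ M, e • x = x → ∀ k : zpowers e, k • x = x := by
      rintro x hx ⟨k, i, rfl⟩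
      exact MulAction.mem_stabilizer_iff.1
        (Subgroup.zpow_mem _ (MulAction.mem_stabilizer_iff.2 hx) i)
    refine Nat.card_congr (Equiv.ofBijective
      (fun q => ⟨q.1.out, hfixed _ q.2⟩) ⟨fun q q' h => ?_, fun x => ?_⟩)
    · exact Subtype.ext (Quotient.out_inj.1 (congrArg Subtype.val h))
    · have hr := MulAction.orbitRel_apply.1 (Quotient.mk_out (s := MulAction.orbitRel (zpowers e) (G ⧸ M)) x.1)
      obtain ⟨k, hk⟩ := hr
      have hx := x.2 k
      have hout : (Quotient.mk (MulAction.orbitRel (zpowers e) (G ⧸ M)) x.1).out = x.1 := hk.symm.trans hx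
      refine ⟨⟨_, ?_⟩, Subtype.ext hout⟩
      exact (congrArg (e • ·) hout).trans ((x.2 ⟨e, mem_zpowers e⟩).trans hout.symm)
  have hep : IsPGroup 2 (zpowers e) := fun k => by
    obtain ⟨i, hi⟩ := k.2
    refine ⟨2, Subtype.ext ?_⟩
    rw [Subgroup.coe_pow, Subgroup.coe_one, ← hi]
    show (e ^ i) ^ 2 ^ 2 = 1
    rw [← zpow_natCast, zpow_comm, zpow_natCast, show 2 ^ 2 = 4 from rfl, he4, one_zpow]
  have hmod := hep.card_modEq_card_fixedPoints (G ⧸ M)
  rw [← hcard] at hmod
  have hidx : Nat.card (G ⧸ M) % 2 = 1 := Nat.two_dvd_ne_zero.1 (odd_index hp S)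
  rw [Nat.ModEq, hidx] at hmod
  rw [← Nat.mod_add_div (Finset.card _) 2, ← hmod, pow_add, pow_mul, pow_one,
    (pow_two _).trans (two_mul_self _), one_pow, mul_one] at htr
  exact two_ne_one htr

/-- The data for the endgame. -/
theorem exists_finalData [IsSimpleGroup G] (hG : ¬ IsMulCommutative G) (S : Base false G) :
    Nonempty (FinalData S) := by
  obtain ⟨X, hX, hXodd, hsplit⟩ := exists_X hp S
  exact ⟨
    { X := X
      X_odd := hXodd
      X_le := fun x hx => ((hX x).1 hx).1
      K_split := hsplit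
      X_pair := fun g hg => mem_normalizer_iff.2 fun k => by
        show k ∈ X ↔ g * k * g⁻¹ ∈ X
        rw [hX, hX]
        exact oddK_stable hp S hg k
      M_class := fun h hh => M_class hp hG S hh
      outer := by
        obtain ⟨U, hU, m, hm⟩ := exists_outer_three hp S
        obtain ⟨g, hg⟩ := hU.rel.z_eq
        exact ⟨g, hg ▸ hU.comm, m, hg ▸ hm⟩
      inv_conj := fun j j2 j1 hj => by
        obtain ⟨α, hA, hα⟩ := M_class hp hG S hj
        exact inv_conj_A2 hp S j2 j1 hA hα
      odd_index := odd_index hp S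
      invol := ⟨vv false, v_sq, v_nc⟩
      no_central := fun g hc hne ha P hP => no_central S hc hne ha P hP }⟩

end Base

end Cfsg.Agent.StdON
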