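import Cfsg.Agent.StdON.Setup

/-!
A standard component 4.L3(4) seen from its central involution: the conjugates of the embedding,
the induced automorphisms and pairs of commuting conjugates.
-/

set_option autoImplicit false
set_option linter.unusedSectionVars false

namespace Cfsg.Agent.StdON

open Cfsg.Agent Subgroup

/-- What the hypothesis of a standard component gives at its central involution. -/
structure Base (b : Bool) (G : Type*) [Group G] where
  /-- the component -/
  φ : Mg b →* G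
  inj : Function.Injective φ
  /-- the centraliser of the involution normalises the component -/
  norm : ∀ g : G, g * φ (tt b) = φ (tt b) * g → ∀ m, ∃ n, g * φ m * g⁻¹ = φ n
  /-- involutions centralising the component have small centralisers -/
  small : ∀ k : G, (∀ m, k * φ m = φ m * k) → k * k = 1 → k ≠ 1 →
    ∀ g : G, g * k = k * g → g * φ (tt b) = φ (tt b) * g
  /-- no other conjugate of the involution centralises the component -/
  uniq : ∀ g : G, (∀ m, g * φ (tt b) * g⁻¹ * φ m = φ m * (g * φ (tt b) * g⁻¹)) →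
    g * φ (tt b) * g⁻¹ = φ (tt b)

variable {b : Bool} {G : Type*} [Group G]

namespace Base

variable (S : Base b G)

/-- The involution. -/
noncomputable def z : G := S.φ (tt b)

/-- The element of order four. -/
noncomputable def a : G := S.φ (zeta b)

/-- The centraliser of the component. -/
def K : Subgroup G := centralizer (S.φ.range : Set G)

theorem mem_K {k : G} : k ∈ S.K ↔ ∀ m, k * S.φ m = S.φ m * k := by
  refine ⟨fun h m => (mem_centralizer_iff.1 h _ ⟨m, rfl⟩).symm, fun h => mem_centralizer_iff.2 ?_⟩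
  rintro _ ⟨m, rfl⟩
  exact (h m).symm

theorem z_sq : S.z * S.z = 1 := by rw [z, ← map_mul, tt_sq, map_one]

theorem z_inv : S.z⁻¹ = S.z := inv_eq_of_mul_eq_one_right S.z_sq

theorem z_ne_one : S.z ≠ 1 := (map_ne_one_iff _ S.inj).2 tt_ne_one

theorem a_sq : S.a * S.a = S.z := by rw [a, z, tt, pow_two, map_mul]

theorem central_mem_K {x : Mg b} (hx : x ∈ center (Mg b)) : S.φ x ∈ S.K :=
  S.mem_K.2 fun m => by rw [← map_mul, ← map_mul, central_comm hx]

theorem z_mem_K : S.z ∈ S.K := S.central_mem_K tt_mem_center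

theorem a_mem_K : S.a ∈ S.K := S.central_mem_K zeta_mem_center

theorem phi_comm_z (m : Mg b) : S.φ m * S.z = S.z * S.φ m := (S.mem_K.1 S.z_mem_K m).symm

theorem mem_phi_center {x : Mg b} (hx : S.φ x ∈ S.K) : x ∈ center (Mg b) :=
  mem_center_iff.2 fun m => S.inj (by rw [map_mul, map_mul, S.mem_K.1 hx m])

theorem K_comm_z {k : G} (hk : k ∈ S.K) : k * S.z = S.z * k := S.mem_K.1 hk _

/-- `h` induces `α` on the component. -/
def Ind (h : G) (α : MulAut (Mg b)) : Prop := ∀ m, h * S.φ m * h⁻¹ = S.φ (α m)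

variable {S}

theorem Ind.eq {h : G} {α β : MulAut (Mg b)} (h1 : S.Ind h α) (h2 : S.Ind h β) : α = β :=
  MulEquiv.ext fun m => S.inj ((h1 m).symm.trans (h2 m))

theorem Ind.mul {h h' : G} {α β : MulAut (Mg b)} (h1 : S.Ind h α) (h2 : S.Ind h' β) :
    S.Ind (h * h') (α * β) := fun m => by
  rw [MulAut.mul_apply, ← h1, ← h2]; group

theorem Ind.one : S.Ind 1 1 := fun m => by simp

theorem Ind.inv {h : G} {α : MulAut (Mg b)} (h1 : S.Ind h α) : S.Ind h⁻¹ α⁻¹ := fun m => by
  have := h1 (α⁻¹ m)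
  rw [MulAut.apply_inv_self] at this
  rw [← this]; group

theorem Ind.pow {h : G} {α : MulAut (Mg b)} (h1 : S.Ind h α) : ∀ n : ℕ, S.Ind (h ^ n) (α ^ n)
  | 0 => by simpa using (Ind.one (S := S))
  | n + 1 => by rw [pow_succ, pow_succ]; exact (h1.pow n).mul h1

theorem ind_phi (n : Mg b) : S.Ind (S.φ n) (MulAut.conj n) := fun m => by
  rw [MulAut.conj_apply, map_mul, map_mul, map_inv]

theorem ind_K {k : G} (hk : k ∈ S.K) : S.Ind k 1 := fun m => by
  rw [S.mem_K.1 hk m, mul_inv_cancel_right, MulAut.one_apply]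

theorem Ind.mem_K {h : G} (h1 : S.Ind h 1) : h ∈ S.K :=
  S.mem_K.2 fun m => mul_inv_eq_iff_eq_mul.1 (h1 m)

theorem Ind.comm_z {h : G} {α : MulAut (Mg b)} (h1 : S.Ind h α) : h * S.z = S.z * h := by
  have := h1 (tt b)
  rw [map_tt] at this
  exact mul_inv_eq_iff_eq_mul.1 this

theorem Ind.fix_iff {h : G} {α : MulAut (Mg b)} (h1 : S.Ind h α) (m : Mg b) :
    α m = m ↔ h * S.φ m = S.φ m * h := by
  rw [← S.inj.eq_iff, ← h1, mul_inv_eq_iff_eq_mul]

theorem exists_ind {h : G} (hh : h * S.z = S.z * h) : ∃ α, S.Ind h α := by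
  have hh' : h⁻¹ * S.z = S.z * h⁻¹ := ((show Commute h S.z from hh).inv_left).eq
  choose f hf using S.norm h hh
  choose g hg using S.norm h⁻¹ hh'
  let α : MulAut (Mg b) :=
    { toFun := f
      invFun := g
      left_inv := fun m => S.inj (by rw [← hg, ← hf]; group)
      right_inv := fun m => S.inj (by rw [← hf, ← hg]; group)
      map_mul' := fun m n => S.inj (by rw [← hf, map_mul, map_mul, ← hf, ← hf]; group) }
  exact ⟨α, hf⟩

variable (S)

/-- The conjugate configuration. -/
noncomputable def conj (g : G) : Base b G where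
  φ := (MulAut.conj g).toMonoidHom.comp S.φ
  inj := (MulAut.conj g).injective.comp S.inj
  norm h hh m := by
    simp only [MonoidHom.comp_apply, MulEquiv.coe_toMonoidHom, MulAut.conj_apply] at hh ⊢
    obtain ⟨n, hn⟩ := S.norm (g⁻¹ * h * g)
      (by
        calc g⁻¹ * h * g * S.φ (tt b) = g⁻¹ * (h * (g * S.φ (tt b) * g⁻¹)) * g := by group
          _ = _ := by rw [hh]; group) m
    exact ⟨n, by rw [← hn]; group⟩
  small k hk h2 h1 h hh := by
    simp only [MonoidHom.comp_apply, MulEquiv.coe_toMonoidHom, MulAut.conj_apply] at hk ⊢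
    have e := S.small (g⁻¹ * k * g)
      (fun m => by
        calc g⁻¹ * k * g * S.φ m = g⁻¹ * (k * (g * S.φ m * g⁻¹)) * g := by group
          _ = _ := by rw [hk]; group)
      (by
        calc g⁻¹ * k * g * (g⁻¹ * k * g) = g⁻¹ * (k * k) * g := by group
          _ = 1 := by rw [h2]; group)
      (fun e => h1 (by
        calc k = g * (g⁻¹ * k * g) * g⁻¹ := by group
          _ = 1 := by rw [e]; group))
      (g⁻¹ * h * g)
      (by
        calc g⁻¹ * h * g * (g⁻¹ * k * g) = g⁻¹ * (h * k) * g := by group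
          _ = _ := by rw [hh]; group)
    calc h * (g * S.φ (tt b) * g⁻¹) = g * (g⁻¹ * h * g * S.φ (tt b)) * g⁻¹ := by group
      _ = _ := by rw [e]; group
  uniq x hx := by
    simp only [MonoidHom.comp_apply, MulEquiv.coe_toMonoidHom, MulAut.conj_apply] at hx ⊢
    have e := S.uniq (g⁻¹ * x * g) fun m => by
      calc g⁻¹ * x * g * S.φ (tt b) * (g⁻¹ * x * g)⁻¹ * S.φ m
          = g⁻¹ * (x * (g * S.φ (tt b) * g⁻¹) * x⁻¹ * (g * S.φ m * g⁻¹)) * g := by group
        _ = _ := by rw [hx]; group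
    calc x * (g * S.φ (tt b) * g⁻¹) * x⁻¹
        = g * (g⁻¹ * x * g * S.φ (tt b) * (g⁻¹ * x * g)⁻¹) * g⁻¹ := by group
      _ = _ := by rw [e]

theorem conj_phi (g : G) (m : Mg b) : (S.conj g).φ m = g * S.φ m * g⁻¹ := rfl

theorem conj_z (g : G) : (S.conj g).z = g * S.z * g⁻¹ := rfl

theorem mem_conj_K {g k : G} : k ∈ (S.conj g).K ↔ g⁻¹ * k * g ∈ S.K := by
  rw [mem_K, mem_K]
  refine forall_congr' fun m => ?_
  rw [conj_phi]
  constructor <;> intro h
  · calc g⁻¹ * k * g * S.φ m = g⁻¹ * (k * (g * S.φ m * g⁻¹)) * g := by group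
      _ = _ := by rw [h]; group
  · calc k * (g * S.φ m * g⁻¹) = g * (g⁻¹ * k * g * S.φ m) * g⁻¹ := by group
      _ = _ := by rw [h]; group

/-- The second configuration is a conjugate of the first. -/
def Rel (T : Base b G) : Prop := ∃ g, ∀ m, T.φ m = g * S.φ m * g⁻¹

theorem rel_conj (g : G) : S.Rel (S.conj g) := ⟨g, fun _ => rfl⟩

variable {S}

theorem Rel.refl : S.Rel S := ⟨1, fun m => by group⟩

theorem Rel.symm {T : Base b G} (h : S.Rel T) : T.Rel S := by
  obtain ⟨g, hg⟩ := h
  exact ⟨g⁻¹, fun m => by rw [hg]; group⟩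

theorem Rel.trans {T U : Base b G} (h : S.Rel T) (h' : T.Rel U) : S.Rel U := by
  obtain ⟨g, hg⟩ := h
  obtain ⟨g', hg'⟩ := h'
  exact ⟨g' * g, fun m => by rw [hg', hg]; group⟩

theorem Rel.z_eq {T : Base b G} (h : S.Rel T) : ∃ g, T.z = g * S.z * g⁻¹ :=
  h.imp fun _ hg => hg _

/-- Two distinct commuting conjugates of the involution. -/
structure Pair (S T : Base b G) : Prop where
  rel : S.Rel T
  comm : T.z * S.z = S.z * T.z
  ne : T.z ≠ S.z

/-- The involution of `T` induces an inner automorphism on `S`. -/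
def Inner (S T : Base b G) : Prop := ∃ n, S.Ind T.z (MulAut.conj n)

theorem Pair.symm {T : Base b G} (h : Pair S T) : Pair T S := ⟨h.rel.symm, h.comm.symm, h.ne.symm⟩

theorem Pair.not_mem_K {T : Base b G} (h : Pair S T) : T.z ∉ S.K := fun hk => by
  obtain ⟨g, hg⟩ := h.rel.z_eq
  refine h.ne (hg.trans (S.uniq g fun m => ?_))
  rw [hg] at hk
  exact S.mem_K.1 hk m

theorem pair_conj {g : G} (hc : g * S.z * g⁻¹ * S.z = S.z * (g * S.z * g⁻¹))
    (hne : g * S.z * g⁻¹ ≠ S.z) : Pair S (S.conj g) := ⟨S.rel_conj g, hc, hne⟩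

end Base

end Cfsg.Agent.StdON
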