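import Cfsg.Agent.StdON.Tests

/-! Kernel checks on the first covering group. -/

set_option autoImplicit false
set_option maxHeartbeats 0
set_option maxRecDepth 100000
set_option Elab.async false

namespace Cfsg.Agent.StdON

open Cfsg.Agent ONUniq

theorem sylA : sylB kA (mkCtx kA 0 0) CertSA0.cert = true := by decide +kernel

theorem centA : centB kA (mkCtx kA 0 0) CertVA.cert = true := by decide +kernel

theorem fourthA : fourthB kA (mkCtx kA 0 0) CertVA.cert = true := by decide +kernel

theorem outerA0 : outerB kA (mkCtx kA 0 0) CertVA.cert CertSA0.cert = true := by decide +kernel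

theorem outerA1 : outerB kA (mkCtx kA 1 0) CertVA.cert CertSA1.cert = true := by decide +kernel

theorem outerA2 : outerB kA (mkCtx kA 2 0) CertVA.cert CertSA2.cert = true := by decide +kernel

theorem fixA : fixB kA (mkCtx kA 0 0) CertVA.cert CertSA0.cert = true := by decide +kernel

theorem innerRootA : innerRootB kA (mkCtx kA 0 0) CertVA.cert = true := by decide +kernel

theorem outerRootA : outerRootB kA (mkCtx kA 2 0) CertVA.cert CertSA2.cert = true := by decide +kernel

theorem rankA : rankB kA (mkCtx kA 0 0) CertVA.cert = true := by decide +kernel

end Cfsg.Agent.StdON
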