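import Cfsg.Agent.StdON.Tests

/-! Kernel checks on the second covering group. -/

set_option autoImplicit false
set_option maxHeartbeats 0
set_option maxRecDepth 100000
set_option Elab.async false

namespace Cfsg.Agent.StdON

open Cfsg.Agent ONUniq

theorem sylBB : sylB kB (mkCtx kB 0 0) CertSB0.cert = true := by decide +kernel

theorem centBB : centB kB (mkCtx kB 0 0) CertVB.cert = true := by decide +kernel

theorem fourthBB : fourthB kB (mkCtx kB 0 0) CertVB.cert = true := by decide +kernel

theorem rootBB : rootB kB (mkCtx kB 0 0) CertVB.cert = true := by decide +kernel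

theorem outerB0 : outerB kB (mkCtx kB 0 0) CertVB.cert CertSB0.cert = true := by decide +kernel

theorem outerB1 : outerB kB (mkCtx kB 1 0) CertVB.cert CertSB1.cert = true := by decide +kernel

theorem outerB2 : outerB kB (mkCtx kB 2 0) CertVB.cert CertSB2.cert = true := by decide +kernel

end Cfsg.Agent.StdON
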