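import Cfsg.Agent.ONUniq.CertFus

/-!
The involutions and the elements of 2-power order of a certified extension: each is conjugate into
the listed Sylow subgroup, and each outer involution to one of the representatives.
-/

set_option autoImplicit false
set_option maxHeartbeats 1000000
set_option maxRecDepth 10000
set_option linter.unusedSectionVars false
set_option linter.style.haveILetI false

namespace Cfsg.Agent.StdON

open Cfsg.Agent ONUniq Compute Subgroup

attribute [local irreducible] compCode idCode canonC powC powF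

variable {K : KData} {D : ExtData K.Mg} {C : CtxX} (hG : Good K D C) {V : CertV}
  (hV : vB K V = true) {S : CertS} {C₀ : CtxX} (hS : sB K V C₀ S = true)
  (hp : C₀.p = C.p ∧ C₀.pi = C.pi) {W : CertW} (hW : candB K C V S W = true)
include hG hV hS hp hW

/-- Elements of 2-power order are conjugate into the listed Sylow subgroup. -/
theorem syl_cases (u : Ext D) {n : ℕ} (hu : u ^ 2 ^ n = 1) : ∃ c : Ext D, ∃ j < 256,
    K.InM (S.sm.getD j ⟨0, 0, 0⟩).c ∧
      (c * u * c⁻¹ = elX D (S.sm.getD j ⟨0, 0, 0⟩).c false ∨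
        c * u * c⁻¹ = elX D (S.sm.getD j ⟨0, 0, 0⟩).c false * elX D S.m0 true) := by
  obtain ⟨-, hsl, hsin, hm0, SM, hSMc, hSMmem, hSMall, hSMσ⟩ := s_facts hG hV hS hp
  simp only [candB, Bool.and_eq_true, List.any_eq_true, allBelow_eq_true, List.all_eq_true,
    beq_iff_eq] at hW
  obtain ⟨⟨⟨⟨y, hy, hsq⟩, hwit⟩, hreps⟩, hnc⟩ := hW
  obtain ⟨i₀, hi₀, rfl⟩ := List.getElem_of_mem hy
  rw [← List.getD_eq_getElem _ (⟨0, 0, 0⟩ : TE) hi₀] at hsq
  rw [hsl] at hi₀
  set m := K.el S.m0
  have hq : m * D.σ m * D.z ∈ SM := by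
    have he := congrArg Ext.a ((eqF_iff hG (den_mul hG (den_ofC (D := D) hm0 true)
      (den_ofC (D := D) hm0 true)) (den_ofC (D := D) (hsin i₀ hi₀) false)).1 hsq)
    simp only [Ext.mul_def, elX, cond_true, Bool.and_self] at he
    rw [he]
    exact hSMmem i₀ hi₀
  -- the Sylow subgroup
  let T : Submonoid (Ext D) :=
    { carrier := {x | x.a * cond x.e m⁻¹ 1 ∈ SM}
      one_mem' := by
        show (1 : Ext D).a * cond (1 : Ext D).e m⁻¹ 1 ∈ SM
        rw [Ext.one_def]
        simp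
      mul_mem' := fun {x y} hx hy => by
        obtain ⟨a, e⟩ := x
        obtain ⟨c, f⟩ := y
        cases e <;> cases f <;>
          simp only [Set.mem_ofPred_eq, Ext.mul_def, cond_true, cond_false, Bool.xor_false,
            Bool.xor_true, Bool.not_true, Bool.not_false, Bool.and_self,
            Bool.and_false, Bool.false_and, mul_one] at hx hy ⊢
        · exact mul_mem hx hy
        · rw [mul_assoc]
          exact mul_mem hx hy
        · rw [show a * D.σ c * m⁻¹ = a * m⁻¹ * (m * D.σ c * m⁻¹) by group]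
          exact mul_mem hx (hSMσ _ hy)
        · rw [show a * D.σ c * D.z = a * m⁻¹ * (m * D.σ (c * m⁻¹) * m⁻¹) * (m * D.σ m * D.z) by
            rw [map_mul, map_inv]; group]
          exact mul_mem (mul_mem hx (hSMσ _ hy)) hq }
  let Sy : Subgroup (Ext D) :=
    { T with
      inv_mem' := fun {x} hx => by
        show x⁻¹ ∈ T
        rw [inv_eq_of_mul_eq_one_right (b := x ^ (orderOf x - 1))]
        · exact pow_mem hx _
        · rw [← pow_succ', Nat.sub_add_cancel (orderOf_pos x), pow_orderOf_eq_one] }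
  have hSy : ∀ x : Ext D, x ∈ Sy ↔ x.a * cond x.e m⁻¹ 1 ∈ SM := fun _ => Iff.rfl
  have hcardS : Nat.card Sy = 512 := by
    have e : Sy ≃ SM × Bool :=
      { toFun := fun x => (⟨x.1.a * cond x.1.e m⁻¹ 1, (hSy _).1 x.2⟩, x.1.e)
        invFun := fun p => ⟨⟨(p.1 : K.Mg) * cond p.2 m 1, p.2⟩, (hSy _).2 (by
          obtain ⟨p, e⟩ := p
          cases e <;> simp [p.2])⟩
        left_inv := fun x => by
          obtain ⟨⟨a, e⟩, hx⟩ := x
          apply Subtype.ext
          cases e <;> simp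
        right_inv := fun p => by
          obtain ⟨p, e⟩ := p
          cases e <;> simp }
    rw [Nat.card_congr e, Nat.card_prod, hSMc, Nat.card_eq_fintype_card, Fintype.card_bool]
  have hcard : Nat.card (Ext D) = 161280 := by rw [Ext.card_ext, KData.card_Mg hG.chk]
  haveI : Fact (Nat.Prime 2) := ⟨Nat.prime_two⟩
  have hSp : IsPGroup 2 Sy := IsPGroup.of_card (n := 9) (by rw [hcardS]; norm_num)
  have hidx : ¬ 2 ∣ Sy.index := by
    have h := Sy.card_mul_index
    rw [hcardS, hcard] at h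
    omega
  let P : Sylow 2 (Ext D) := hSp.toSylow hidx
  have hup : IsPGroup 2 (zpowers u) := fun g => by
    obtain ⟨i, hi⟩ := g.2
    refine ⟨n, Subtype.ext ?_⟩
    rw [Subgroup.coe_pow, Subgroup.coe_one, ← hi]
    show (u ^ i) ^ 2 ^ n = 1
    rw [← zpow_natCast, zpow_comm, zpow_natCast, hu, one_zpow]
  obtain ⟨Q, hQ⟩ := hup.exists_le_sylow
  obtain ⟨c, hc⟩ := MulAction.exists_smul_eq (Ext D) Q P
  have h : c * u * c⁻¹ ∈ (P : Subgroup (Ext D)) := by
    rw [← hc, Sylow.coe_subgroup_smul]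
    exact smul_mem_pointwise_smul _ (MulAut.conj c) _ (hQ (mem_zpowers u))
  obtain ⟨j, hj, hsj⟩ := hSMall _ ((hSy _).1 h)
  refine ⟨c, j, hj, hsin j hj, ?_⟩
  generalize c * u * c⁻¹ = s at hsj
  obtain ⟨a, e⟩ := s
  cases e
  · left
    simp only [cond_false, mul_one] at hsj
    rw [elX, ← hsj]
  · right
    simp only [cond_true] at hsj
    rw [Ext.mul_def]
    simp only [elX, cond_false, Bool.false_and, mul_one, Bool.false_xor, ← hsj]
    simp [m]

/-- The classes of involutions. -/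
theorem invol_cases (htc : ∀ x : Ext D, x * tX D = tX D * x) (u : Ext D) (hu : u * u = 1) :
    u = 1 ∨ u = tX D ∨ (∃ c : Ext D, c * u * c⁻¹ = elX D V.v false) ∨
      ∃ R ∈ W.reps, ∃ c : Ext D, c * u * c⁻¹ = elX D R.s true := by
  obtain ⟨c₀, j, hj, hjin, hc⟩ := syl_cases hG hV hS hp hW u (n := 1) (by simpa [pow_two] using hu)
  obtain ⟨hv, -, -, -, -⟩ := v_facts hG hV
  obtain ⟨-, -, -, hm0, -⟩ := s_facts hG hV hS hp
  obtain ⟨i, hi, hden⟩ : ∃ i < 512, Den (c₀ * u * c₀⁻¹) (sylElt C S i) := by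
    rcases hc with e | e
    · refine ⟨j, by omega, ?_⟩
      rw [sylElt, show Nat.blt j 256 = true by simpa [Nat.blt_eq] using hj, cond_true, e]
      exact den_ofC hjin false
    · refine ⟨j + 256, by omega, ?_⟩
      rw [sylElt, show Nat.blt (j + 256) 256 = false by
          simp [← Bool.not_eq_true, Nat.blt_eq], cond_false, show Nat.sub (j + 256) 256 = j by simp, e]
      exact den_mul hG (den_ofC hjin false) (den_ofC hm0 true)
  set s := c₀ * u * c₀⁻¹ with hs
  have hs2 : s * s = 1 := by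
    rw [hs, show c₀ * u * c₀⁻¹ * (c₀ * u * c₀⁻¹) = c₀ * (u * u) * c₀⁻¹ by group, hu, mul_one,
      mul_inv_cancel]
  have back : ∀ {r : Ext D}, s = r → (∀ x : Ext D, x * r = r * x) → u = r := fun {r} e hr => by
    rw [show u = c₀⁻¹ * s * c₀ by rw [hs]; group, e, mul_assoc, ← hr, inv_mul_cancel_left]
  simp only [candB, Bool.and_eq_true, allBelow_eq_true] at hW
  have hw := hW.1.1.2 i hi
  simp only [witB] at hw
  set w := W.wit.getD i ⟨0, 0, false⟩
  rcases hk : Nat.beq w.kind 0 with - | -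
  swap
  · rw [hk, cond_true] at hw
    exact absurd hs2 (ne_of_eqF hG (den_mul hG hden hden) den_one hw)
  rw [hk, cond_false] at hw
  rcases hk1 : Nat.beq w.kind 1 with - | -
  swap
  · rw [hk1, cond_true] at hw
    exact .inl (back ((eqF_iff hG hden den_one).1 hw) fun x => by rw [mul_one, one_mul])
  rw [hk1, cond_false] at hw
  rcases hk2 : Nat.beq w.kind 2 with - | -
  swap
  · rw [hk2, cond_true] at hw
    exact .inr (.inl (back ((eqF_iff hG hden (den_t hG)).1 hw) htc))
  rw [hk2, cond_false, Bool.and_eq_true] at hw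
  have hwc := inM_of_check hG.chk hw.1
  set c := elX D w.c w.e
  have hdc : Den c (ofC w.c w.e) := den_ofC hwc w.e
  rcases hk3 : Nat.beq w.kind 3 with - | -
  swap
  · rw [hk3, cond_true] at hw
    have he := (eqF_iff hG (den_mul hG hdc hden) (den_mul hG (den_ofC hv false) hdc)).1 hw.2
    refine .inr (.inr (.inl ⟨c * c₀, ?_⟩))
    rw [← mul_inv_eq_iff_eq_mul.2 he, hs]
    group
  rw [hk3, cond_false, Bool.and_eq_true, Nat.blt_eq] at hw
  set R := W.reps.getD (Nat.sub w.kind 4) ⟨0, (0, false), (0, false), (0, false), (0, false)⟩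
  have hmem : R ∈ W.reps := getD_mem_of_lt _ _ hw.2.1
  have hR := List.all_eq_true.1 hW.1.2 R hmem
  simp only [repB, Bool.and_eq_true] at hR
  have hsR := inM_of_check hG.chk hR.1.1.1.1.1.1.1.1.1.1.1
  have ds : Den (elX D R.s true) (ofC R.s true) := den_ofC hsR true
  have he := (eqF_iff hG (den_mul hG hdc hden) (den_mul hG ds hdc)).1 hw.2.2
  refine .inr (.inr (.inr ⟨R, hmem, c * c₀, ?_⟩))
  rw [← mul_inv_eq_iff_eq_mul.2 he, hs]
  group

omit hV hS hp in
/-- The witnesses of a representative. -/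
theorem rep_witness {R : OutRep} (hR : R ∈ W.reps) :
    ∃ a a₂ c b : Ext D, a * elX D R.s true = elX D R.s true * a ∧
      a₂ * elX D R.s true = elX D R.s true * a₂ ∧ a * a * (a₂ * a₂) ≠ 1 ∧
      a * a * (a₂ * a₂) * (a * a * (a₂ * a₂)) = 1 ∧
      c * elX D R.s true * c⁻¹ = a * a * (a₂ * a₂) * elX D R.s true ∧
      b * elX D R.s true = elX D R.s true * b ∧ b ^ 256 ≠ 1 := by
  simp only [candB, Bool.and_eq_true, List.all_eq_true] at hW
  have h := hW.1.2 R hR
  simp only [repB, Bool.and_eq_true] at h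
  obtain ⟨⟨⟨⟨⟨⟨⟨⟨⟨⟨⟨hs', ha'⟩, ha2'⟩, hc'⟩, hb'⟩, e1⟩, e2⟩, e3⟩, e4⟩, e5⟩, e6⟩, e7⟩ := h
  have ds : Den (elX D R.s true) (ofC R.s true) := den_ofC (inM_of_check hG.chk hs') true
  have da : Den (elX D R.a.1 R.a.2) (ofC R.a.1 R.a.2) := den_ofC (inM_of_check hG.chk ha') _
  have da2 : Den (elX D R.a2.1 R.a2.2) (ofC R.a2.1 R.a2.2) := den_ofC (inM_of_check hG.chk ha2') _
  have dc : Den (elX D R.c.1 R.c.2) (ofC R.c.1 R.c.2) := den_ofC (inM_of_check hG.chk hc') _
  have db : Den (elX D R.b.1 R.b.2) (ofC R.b.1 R.b.2) := den_ofC (inM_of_check hG.chk hb') _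
  have dx := den_mul hG (den_mul hG da da) (den_mul hG da2 da2)
  exact ⟨_, _, _, _, (eqF_iff hG (den_mul hG da ds) (den_mul hG ds da)).1 e1,
    (eqF_iff hG (den_mul hG da2 ds) (den_mul hG ds da2)).1 e2, ne_of_eqF hG dx den_one e3,
    (eqF_iff hG (den_mul hG dx dx) den_one).1 e4,
    mul_inv_eq_iff_eq_mul.2 ((eqF_iff hG (den_mul hG dc ds) (den_mul hG (den_mul hG dx ds) dc)).1 e5),
    (eqF_iff hG (den_mul hG db ds) (den_mul hG ds db)).1 e6, ne_of_eqF hG (den_pow hG db 256) den_one e7⟩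

end Cfsg.Agent.StdON
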