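import Cfsg.Agent.StdON.Pair

/-!
A normalised inner pair: only the first cover occurs, the centraliser of the component has the
element of order four as Sylow subgroup, and an outer conjugate exists.
-/

set_option autoImplicit false
set_option maxHeartbeats 1000000
set_option linter.unusedSectionVars false

namespace Cfsg.Agent.StdON

open Cfsg.Agent ONUniq Subgroup

variable {b : Bool}

theorem conj_v_ne_one : MulAut.conj (vv b) ≠ 1 := fun h => v_nc (conj_eq_one h)

theorem vz_of_conj {x : Mg b} (h : MulAut.conj x = MulAut.conj (vv b)) : VZ x :=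
  ⟨(vv b)⁻¹ * x, conj_eq_conj fun y => by
    have := DFunLike.congr_fun h y
    simpa only [MulAut.conj_apply] using this, (mul_inv_cancel_left _ _).symm⟩

namespace NPair

variable {G : Type*} [Group G] {S T : Base b G} (h : NPair S T)
include h

theorem symm : NPair T S := ⟨h.pair.symm, h.hS, h.hT⟩

theorem ind_z : S.Ind T.z (MulAut.conj (vv b)) := by
  rw [h.hT]; exact Base.ind_phi _

theorem inner : Base.Inner S T := ⟨_, h.ind_z⟩

theorem comm_of_comm_v {x : Mg b} (hx : x * vv b = vv b * x) : S.φ x * T.z = T.z * S.φ x := by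
  rw [h.hT, ← map_mul, hx, map_mul]

theorem comm_v_of_comm {x : Mg b} (hx : S.φ x * T.z = T.z * S.φ x) : x * vv b = vv b * x := by
  rw [h.hT, ← map_mul, ← map_mul] at hx
  exact S.inj hx

theorem K_comm {k : G} (hk : k ∈ S.K) : k * T.z = T.z * k := by
  rw [h.hT]; exact S.mem_K.1 hk _

/-- The centraliser of the component has one involution. -/
theorem inv_K {k : G} (hk : k ∈ S.K) (k2 : k * k = 1) (k1 : k ≠ 1) : k = S.z :=
  h.pair.key h.symm.inner hk k2 k1 (h.K_comm hk)

theorem sq_z {k : G} (hk : k ∈ S.K) (k2 : k * k = S.z) : k = S.a ∨ k = S.a⁻¹ := by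
  have hc : S.a * k = k * S.a := (S.mem_K.1 hk (zeta b)).symm
  by_cases h1 : k * S.a = 1
  · exact .inr (eq_inv_of_mul_eq_one_left h1)
  · left
    have h2 := h.inv_K (mul_mem hk S.a_mem_K) (by
      calc k * S.a * (k * S.a) = k * (S.a * k) * S.a := by group
        _ = k * k * (S.a * S.a) := by rw [hc]; group
        _ = 1 := by rw [k2, S.a_sq, S.z_sq]) h1
    rw [← S.a_sq] at h2
    exact mul_right_cancel h2

/-- The elements of `T(C(v))` in the centraliser of `S`. -/
theorem cv_in_K {d : Mg b} (hd : d * vv b = vv b * d) (hK : T.φ d ∈ S.K) :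
    d = 1 ∨ d = vv b ∨ T.φ d * T.φ d = S.z := by
  have h8 : d ^ 8 = 1 := two_exp (n := 8) (Cv_pow hd)
  have key : ∀ e : Mg b, T.φ e ∈ S.K → e * e = 1 → e = 1 ∨ e = vv b := fun e he he2 => by
    by_cases he1 : T.φ e = 1
    · exact .inl (T.inj (he1.trans (map_one _).symm))
    · exact .inr (T.inj ((h.inv_K he (by rw [← map_mul, he2, map_one]) he1).trans h.hS))
  have h4 : d * d * (d * d) = 1 := by
    refine (key _ (by rw [map_mul, map_mul]; exact mul_mem (mul_mem hK hK) (mul_mem hK hK))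
      (by simp only [← mul_assoc]; simpa [pow_succ, mul_assoc] using h8)).resolve_right fun e => ?_
    exact fourth_fact hd ⟨1, one_mem _, by rw [e, mul_one]⟩
  rcases key _ (by rw [map_mul]; exact mul_mem hK hK) h4 with h2 | h2
  · exact (key _ hK h2).imp_right .inl
  · exact .inr (.inr (by rw [← map_mul, h2, h.hS]))

/-- The element of order four of `T` induces on `S` a root of `v` moving `C(v)` by `v` alone. -/
theorem exists_delta : ∃ δ : MulAut (Mg b), S.Ind T.a δ ∧ δ (vv b) = vv b ∧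
    δ * δ = MulAut.conj (vv b) ∧ ∀ x, x * vv b = vv b * x → δ x = x ∨ δ x = x * vv b := by
  have hc : T.a * S.z = S.z * T.a := by
    rw [h.hS, Base.a, ← map_mul, ← map_mul, zeta_comm]
  obtain ⟨δ, hδ⟩ := Base.exists_ind hc
  refine ⟨δ, hδ, (hδ.fix_iff _).2 ?_, (hδ.mul hδ).eq (T.a_sq ▸ h.ind_z), fun x hx => ?_⟩
  · rw [← h.hT, ← T.a_sq, mul_assoc]
  obtain ⟨β, hβ⟩ := Base.exists_ind (h.comm_of_comm_v hx)
  have hβz := hβ (zeta b)
  rcases map_zeta β with e | e
  · rw [e] at hβz
    exact .inl ((hδ.fix_iff x).2 (mul_inv_eq_iff_eq_mul.1 hβz).symm)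
  · right
    rw [e, map_inv, mul_inv_eq_iff_eq_mul] at hβz
    have h1 : T.a * S.φ x * T.a⁻¹ = S.φ x * (T.a * T.a)⁻¹ := by
      rw [mul_inv_eq_iff_eq_mul]
      calc T.a * S.φ x = T.a * (S.φ x * T.a) * T.a⁻¹ := by group
        _ = S.φ x * T.a⁻¹ := by rw [show S.φ x * T.a = T.a⁻¹ * S.φ x from hβz]; group
        _ = _ := by group
    rw [hδ, T.a_sq, T.z_inv, h.hT, ← map_mul] at h1
    exact S.inj h1

/-- It is inner. -/
theorem delta_inner : ∃ n, S.Ind T.a (MulAut.conj n) ∧ n * vv b = vv b * n ∧ VZ (n * n) ∧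
    ∀ x, x * vv b = vv b * x → n * x * n⁻¹ = x ∨ n * x * n⁻¹ = x * vv b := by
  obtain ⟨δ, hδ, hv, h2, hdisp⟩ := h.exists_delta
  obtain ⟨n, a', rfl⟩ := aut_class δ
  by_cases ha : a' = 0
  · subst ha
    rw [auts_zero, mul_one] at hδ hv h2 hdisp
    refine ⟨n, hδ, mul_inv_eq_iff_eq_mul.1 hv, vz_of_conj (by rw [map_mul]; exact h2), hdisp⟩
  · obtain ⟨a, rfl⟩ := auts_succ_of_ne ha
    rw [conj_mul_auts_sq] at h2
    obtain ⟨y, hy, h3, h4⟩ := outer_first a hv (vz_of_conj h2)
    exact ((hdisp y hy).elim h3 h4).elim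

/-- Only the first cover occurs. -/
theorem cover_false : b = false := by
  cases b
  · rfl
  · obtain ⟨n, -, hn, h2, hdisp⟩ := h.delta_inner
    obtain ⟨m, hm, h3, h4⟩ := root_fact hn h2
    exact ((hdisp m hm).elim h3 h4).elim

/-- No element of order eight. -/
theorem no_eight {k : G} (hk : k ∈ S.K) : k * k * (k * k) ≠ S.z := by
  intro h4
  have hk2 := h.sq_z (mul_mem hk hk) h4
  obtain ⟨α, hα⟩ := Base.exists_ind (h.K_comm hk)
  have hαv : α (vv b) = vv b := (hα.fix_iff _).2 (by rw [← h.hS]; exact S.K_comm_z hk)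
  have hα4 : α * α * (α * α) = MulAut.conj (vv b) :=
    ((hα.mul hα).mul (hα.mul hα)).eq (h4 ▸ h.symm.ind_z)
  have hdisp : ∀ x, x * vv b = vv b * x → x⁻¹ * α x = 1 ∨ x⁻¹ * α x = vv b ∨
      MulAut.conj (x⁻¹ * α x) = α * α ∨ MulAut.conj (x⁻¹ * α x) = (α * α)⁻¹ := by
    intro x hx
    have hdv : x⁻¹ * α x * vv b = vv b * (x⁻¹ * α x) := by
      have h1 : α x * vv b = vv b * α x := by
        conv_lhs => rw [← hαv, ← map_mul, hx, map_mul, hαv]
      exact ((show Commute x (vv b) from hx).inv_left.mul_left h1).eq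
    have hxz : T.φ x⁻¹ * S.z = S.z * T.φ x⁻¹ :=
      h.symm.comm_of_comm_v (((show Commute x (vv b) from hx).inv_left).eq)
    have hdK : T.φ (x⁻¹ * α x) ∈ S.K := by
      rw [map_mul, ← hα, show T.φ x⁻¹ * (k * T.φ x * k⁻¹) = T.φ x⁻¹ * k * (T.φ x⁻¹)⁻¹ * k⁻¹ by
        rw [map_inv]; group]
      exact mul_mem (Base.conj_mem_K hxz hk) (inv_mem hk)
    rcases h.cv_in_K hdv hdK with e | e | e
    · exact .inl e
    · exact .inr (.inl e)
    · have hd := h.sq_z hdK e
      have hI := Base.ind_phi (S := T) (x⁻¹ * α x)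
      rcases hd with hd | hd <;> rcases hk2 with e2 | e2
      · exact .inr (.inr (.inl (hI.eq (by rw [hd, ← e2]; exact hα.mul hα))))
      · refine .inr (.inr (.inr (hI.eq ?_)))
        rw [hd, show S.a = (k * k)⁻¹ by rw [e2, inv_inv]]
        exact (hα.mul hα).inv
      · refine .inr (.inr (.inr (hI.eq ?_)))
        rw [hd, ← e2]
        exact (hα.mul hα).inv
      · exact .inr (.inr (.inl (hI.eq (by rw [hd, ← e2]; exact hα.mul hα))))
  obtain ⟨n, a', rfl⟩ := aut_class α
  by_cases ha : a' = 0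
  · subst ha
    rw [auts_zero, mul_one] at hαv hα4
    exact fourth_fact (mul_inv_eq_iff_eq_mul.1 hαv)
      (vz_of_conj (by rw [map_mul, map_mul]; exact hα4))
  · obtain ⟨a, rfl⟩ := auts_succ_of_ne ha
    rw [conj_mul_auts_sq] at hα4 hdisp
    rw [← map_mul] at hα4
    obtain ⟨y, hy, h3, h4', h5⟩ := outer_second a hαv (vz_of_conj hα4)
    set X2 := n * auts b a.succ n
    set αy := (MulAut.conj n * auts b a.succ) y
    rcases hdisp y hy with e | e | e | e
    · exact h3 (inv_mul_eq_one.1 e).symm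
    · exact h4' (by rw [← e, mul_inv_cancel_left])
    · refine (h5 (X2⁻¹ * (y⁻¹ * αy)) (conj_eq_conj fun m => ?_)).1 (by group)
      simpa only [MulAut.conj_apply] using DFunLike.congr_fun e m
    · refine (h5 (y⁻¹ * αy * X2) ?_).2 (by group)
      refine conj_eq_one ?_
      rw [map_mul, e, inv_mul_cancel]

/-- The two-elements of the centraliser of the component. -/
theorem two_part : ∀ {n : ℕ} {k : G}, k ∈ S.K → k ^ 2 ^ n = 1 → ∃ i : ℕ, k = S.a ^ i := by
  intro n
  induction n with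
  | zero => intro k _ hk; exact ⟨0, by simpa using hk⟩
  | succ n ih =>
    intro k hk hkn
    have ha4 : S.a ^ 4 = 1 := by rw [Base.a, ← map_pow, zeta_pow_four, map_one]
    obtain ⟨i, hi⟩ := ih (mul_mem hk hk) (by rw [← pow_two, ← pow_mul, ← pow_succ']; exact hkn)
    rw [← Nat.mod_add_div i 4, pow_add, pow_mul, ha4, one_pow, mul_one] at hi
    have h3 : i % 4 < 4 := Nat.mod_lt _ (by norm_num)
    interval_cases hm : i % 4
    · by_cases k1 : k = 1
      · exact ⟨0, by rw [k1, pow_zero]⟩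
      · exact ⟨2, by rw [h.inv_K hk (by rw [hi, pow_zero]) k1, pow_two, S.a_sq]⟩
    · exact absurd (by rw [hi, pow_one, S.a_sq]) (h.no_eight hk)
    · rcases h.sq_z hk (by rw [hi, pow_two, S.a_sq]) with e | e
      · exact ⟨1, by rw [e, pow_one]⟩
      · exact ⟨3, by rw [e]; exact inv_eq_of_mul_eq_one_left (by rw [← pow_succ]; exact ha4)⟩
    · refine absurd ?_ (h.no_eight hk)
      rw [hi, ← pow_add, show 3 + 3 = 4 + 2 from rfl, pow_add, ha4, one_mul, pow_two, S.a_sq]

/-- An involution of the other component induces an outer automorphism. -/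
theorem exists_outer : ∃ U : Base b G, Base.Pair S U ∧ ¬ Base.Inner S U := by
  by_cases hall : ∀ u, u * vv b = vv b * u → u * u = 1 → S.a * T.φ u = T.φ u * S.a
  · exfalso
    obtain ⟨n, hn, hnv, -, -⟩ := h.symm.delta_inner
    have hcent : ∀ u, u * vv b = vv b * u → u * u = 1 → n * u = u * n := fun u hu hu2 =>
      mul_inv_eq_iff_eq_mul.1 ((hn.fix_iff u).2 (hall u hu hu2))
    have h2 : MulAut.conj n * MulAut.conj n = MulAut.conj (vv b) :=
      (hn.mul hn).eq (S.a_sq ▸ h.symm.ind_z)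
    refine conj_v_ne_one (b := b) ?_
    rw [← h2]
    rcases cent_fact hnv hcent with hc | ⟨z, hz, rfl⟩
    · rw [conj_central hc, one_mul]
    · rw [conj_central_mul hz, ← map_mul, v_sq, map_one]
  · push Not at hall
    obtain ⟨u, hu, hu2, hne⟩ := hall
    rcases invol_class hu2 with hc | ⟨c, rfl⟩
    · exfalso
      refine hne ?_
      rcases central_invol hc hu2 with rfl | rfl
      · simp
      · show S.a * T.z = T.z * S.a
        exact (h.inner.comm_a).symm
    · have hUz : (S.conj (T.φ c)).z = T.φ (c * vv b * c⁻¹) := by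
        rw [Base.conj_z, h.hS, map_mul, map_mul, map_inv]
      refine ⟨S.conj (T.φ c), ⟨S.rel_conj _, ?_, ?_⟩, fun hi => hne ?_⟩
      · rw [hUz, h.hS, ← map_mul, hu, map_mul]
      · intro e
        refine hne ?_
        rw [hUz] at e
        rw [e]
        exact S.K_comm_z S.a_mem_K
      · rw [← hUz]
        exact hi.comm_a.symm

end NPair

end Cfsg.Agent.StdON
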