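import Cfsg.Agent.StdON.Setup
import Cfsg.Agent.StdON.Classify
import Cfsg.Agent.StdON.ChecksA
import Cfsg.Agent.StdON.ChecksB

/-!
The facts on the two covering groups that the standard component problem uses, read off from the
kernel checks.
-/

set_option autoImplicit false
set_option maxHeartbeats 1000000
set_option maxRecDepth 10000
set_option linter.unusedSectionVars false
set_option linter.style.haveILetI false

namespace Cfsg.Agent.StdON

open Cfsg.Agent ONUniq Compute Subgroup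

/-- The context of a candidate with trivial square. -/
local notation "C₀[" b "," a "]" => mkCtx (kd b) ((a : Fin 3) : ℕ) ((0 : Fin 2) : ℕ)

attribute [local irreducible] compCode idCode canonC powC powF SLMult.L34.codes SLMult.L34.centPairs
  DataL.dperm DataL.dwords DataA.chain DataA.gs DataA.gis DataA.zeta DataA.mask DataA.sig
  DataB.chain DataB.gs DataB.gis DataB.zeta DataB.mask DataB.sig

/-- The witness data of a candidate. -/
noncomputable def certW : Bool → Fin 3 → Fin 2 → CertW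
  | false, 0, 0 => CertWA00.cert
  | false, 0, 1 => CertWA01.cert
  | false, 1, 0 => CertWA10.cert
  | false, 1, 1 => CertWA11.cert
  | false, 2, 0 => CertWA20.cert
  | false, 2, 1 => CertWA21.cert
  | true, 0, 0 => CertWB00.cert
  | true, 0, 1 => CertWB01.cert
  | true, 1, 0 => CertWB10.cert
  | true, 1, 1 => CertWB11.cert
  | true, 2, 0 => CertWB20.cert
  | true, 2, 1 => CertWB21.cert

theorem V_ok : ∀ b, vB (kd b) (certV b) = true
  | false => vA_ok
  | true => vB_ok

theorem S_ok : ∀ b (a : Fin 3), sB (kd b) (certV b) (mkCtx (kd b) a 0) (certS b a) = true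
  | false, 0 => sA0_ok
  | false, 1 => sA1_ok
  | false, 2 => sA2_ok
  | true, 0 => sB0_ok
  | true, 1 => sB1_ok
  | true, 2 => sB2_ok

theorem W_ok : ∀ b (a : Fin 3) (k : Fin 2),
    candB (kd b) (mkCtx (kd b) a k) (certV b) (certS b a) (certW b a k) = true
  | false, 0, 0 => wA00_ok
  | false, 0, 1 => wA01_ok
  | false, 1, 0 => wA10_ok
  | false, 1, 1 => wA11_ok
  | false, 2, 0 => wA20_ok
  | false, 2, 1 => wA21_ok
  | true, 0, 0 => wB00_ok
  | true, 0, 1 => wB01_ok
  | true, 1, 0 => wB10_ok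
  | true, 1, 1 => wB11_ok
  | true, 2, 0 => wB20_ok
  | true, 2, 1 => wB21_ok

theorem vcheckA : eqF (mulF (mkCtx kA 0 0) (fI CertVA.cert.v) (fI CertVA.cert.v)) oneF = true ∧
    inZ kA (fI CertVA.cert.v) = false := by decide +kernel

theorem vcheckB : eqF (mulF (mkCtx kB 0 0) (fI CertVB.cert.v) (fI CertVB.cert.v)) oneF = true ∧
    inZ kB (fI CertVB.cert.v) = false := by decide +kernel

/-- The inner involution. -/
noncomputable def vv (b : Bool) : Mg b := (kd b).el (certV b).v

/-- The coset of the involution modulo the centre. -/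
def VZ {b : Bool} (x : Mg b) : Prop := ∃ c ∈ center (Mg b), x = vv b * c

/-- The four-group of the involution and the central involution. -/
def Four {b : Bool} (x : Mg b) : Prop := x = 1 ∨ x = tt b ∨ x = vv b ∨ x = vv b * tt b

section

variable {b : Bool}

/-- The extension in which the outer automorphism is tested. -/
abbrev E0 (b : Bool) (a : Fin 3) : Type := Ext (DD b a 0)

theorem DD_z_zero (a : Fin 3) : (DD b a 0).z = 1 := by
  show zeta b ^ kVal (epsAt b a) 0 = 1
  simp [kVal]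

variable {a : Fin 3} {k : Fin 2}

theorem den_el {c : ℕ} (hc : (kd b).InM c) : Den (Ext.inl ((kd b).el c) : Ext (DD b a k)) (fI c) :=
  den_ofC hc false

theorem den_zeta (i : ℕ) : Den (Ext.inl (zeta b ^ i) : Ext (DD b a k)) (fZ (kd b) i) := by
  obtain ⟨hz, -, -, -⟩ := KData.zeta_spec (kd_checked b)
  obtain ⟨h1, h2⟩ := hz.pow i
  rw [zeta, ← h2]
  exact den_ofC h1 false

theorem den_inl_mul {x y : Mg b} {f g : FX} (hx : Den (Ext.inl x : Ext (DD b a k)) f)
    (hy : Den (Ext.inl y : Ext (DD b a k)) g) :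
    Den (Ext.inl (x * y) : Ext (DD b a k)) (mulF (mkCtx (kd b) a k) f g) := by
  rw [map_mul]
  exact den_mul (DD_good a k) hx hy

theorem den_inl_one : Den (Ext.inl (1 : Mg b) : Ext (DD b a k)) oneF := by
  rw [map_one]
  exact den_one

theorem eqF_inl {x y : Mg b} {f g : FX} (hx : Den (Ext.inl x : Ext (DD b a k)) f)
    (hy : Den (Ext.inl y : Ext (DD b a k)) g) : eqF f g = true ↔ x = y :=
  (eqF_iff (DD_good a k) hx hy).trans Ext.inl_injective.eq_iff

theorem inZ_iff {x : Mg b} {f : FX} (hx : Den (Ext.inl x : Ext (DD b a k)) f) :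
    inZ (kd b) f = true ↔ x ∈ center (Mg b) := by
  simp only [inZ, Bool.or_eq_true, eqF_inl hx (den_zeta _), central_iff]
  constructor
  · rintro (((h | h) | h) | h)
    · exact ⟨0, by norm_num, h⟩
    · exact ⟨1, by norm_num, h⟩
    · exact ⟨2, by norm_num, h⟩
    · exact ⟨3, by norm_num, h⟩
  · rintro ⟨i, hi, h⟩
    interval_cases i <;> tauto

theorem den_v : Den (Ext.inl (vv b) : Ext (DD b a k)) (fI (certV b).v) :=
  den_el (v_facts (DD_good a k) (V_ok b)).1

theorem inVZ_iff {x : Mg b} {f : FX} (hx : Den (Ext.inl x : Ext (DD b a k)) f) :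
    inVZ (kd b) (mkCtx (kd b) a k) (certV b) f = true ↔ VZ x := by
  simp only [inVZ, Bool.or_eq_true, eqF_inl hx (den_inl_mul den_v (den_zeta _)), VZ, central_iff]
  constructor
  · rintro (((h | h) | h) | h)
    · exact ⟨_, ⟨0, by norm_num, rfl⟩, h⟩
    · exact ⟨_, ⟨1, by norm_num, rfl⟩, h⟩
    · exact ⟨_, ⟨2, by norm_num, rfl⟩, h⟩
    · exact ⟨_, ⟨3, by norm_num, rfl⟩, h⟩
  · rintro ⟨c, ⟨i, hi, rfl⟩, h⟩
    interval_cases i <;> tauto

theorem bigInv_iff {x : Mg b} {f : FX} (hx : Den (Ext.inl x : Ext (DD b a k)) f) :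
    bigInv (kd b) (mkCtx (kd b) a k) (certV b) f = true ↔ x * x = 1 ∧ ¬ Four x := by
  simp only [bigInv, inFour, Bool.and_eq_true, Bool.not_eq_true', ← Bool.not_eq_true, Bool.or_eq_true,
    eqF_inl (den_inl_mul hx hx) den_inl_one, eqF_inl hx den_inl_one, eqF_inl hx (den_zeta 2),
    eqF_inl hx den_v, eqF_inl hx (den_inl_mul den_v (den_zeta 2)), Four, tt, or_assoc]

theorem v_sq : vv b * vv b = 1 := by
  have h := den_v (b := b) (a := 0) (k := 0)
  refine (eqF_inl (den_inl_mul h h) den_inl_one).1 ?_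
  cases b
  · exact vcheckA.1
  · exact vcheckB.1

theorem v_nc : vv b ∉ center (Mg b) := fun h => by
  have h' := (inZ_iff (den_v (b := b) (a := 0) (k := 0))).2 h
  cases b
  · exact Bool.false_ne_true (vcheckA.2.symm.trans h')
  · exact Bool.false_ne_true (vcheckB.2.symm.trans h')

theorem cmv_spec {c : ℕ} (hc : c ∈ (certV b).cmv) :
    (kd b).InM c ∧ (kd b).el c * vv b = vv b * (kd b).el c := by
  obtain ⟨h1, h2⟩ := (v_facts (DD_good (b := b) 0 0) (V_ok b)).2.2.1 c hc
  refine ⟨h1, Ext.inl_injective (D := DD b 0 0) ?_⟩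
  rw [map_mul, map_mul]
  exact h2

theorem mem_cmv {x : Mg b} (hx : x * vv b = vv b * x) :
    ∃ c ∈ (certV b).cmv, (kd b).el c = x := by
  obtain ⟨⟨c, e⟩, hp, h⟩ := ((k_facts (DD_good (b := b) 0 0) (V_ok b) (S_ok b 0) ⟨rfl, rfl⟩).2.2.2.2
    (Ext.inl x)).1 (by
      rw [show elX (DD b 0 0) (certV b).v false = Ext.inl (vv b) from rfl, ← map_mul, ← map_mul, hx])
  obtain rfl : e = false := congrArg Ext.e h
  exact ⟨c, by simpa [kList] using hp, congrArg Ext.a h⟩

theorem Cv_pow {x : Mg b} (hx : x * vv b = vv b * x) : x ^ 256 = 1 := by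
  refine Ext.inl_injective (D := DD b 0 0) ?_
  rw [map_pow, map_one]
  have hm : (Ext.inl x : Ext (DD b 0 0)) ∈
      centralizer ({elX (DD b 0 0) (certV b).v false} : Set (Ext (DD b 0 0))) :=
    mem_centralizer_singleton_iff.2 (by
      rw [show elX (DD b 0 0) (certV b).v false = Ext.inl (vv b) from rfl, ← map_mul, ← map_mul, hx])
  have h := pow_card_eq_one' (x := (⟨_, hm⟩ :
    centralizer ({elX (DD b 0 0) (certV b).v false} : Set (Ext (DD b 0 0)))))
  rw [(k_facts (DD_good (b := b) 0 0) (V_ok b) (S_ok b 0) ⟨rfl, rfl⟩).1] at h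
  exact congrArg Subtype.val h

theorem Cv_card (P : Subgroup (Mg b)) (hP : ∀ p ∈ P, p * vv b = vv b * p) : Nat.card P ≤ 128 := by
  choose c hc he using fun p : P => mem_cmv (hP p p.2)
  have hinj : Function.Injective (fun p : P => (⟨c p, List.mem_toFinset.2 (hc p)⟩ :
      {n // n ∈ (certV b).cmv.toFinset})) := fun p q h => by
    have h' : c p = c q := congrArg Subtype.val h
    exact Subtype.ext (by rw [← he p, ← he q, h'])
  have h := Nat.card_le_card_of_injective _ hinj
  rw [Nat.card_eq_fintype_card (α := {n // n ∈ (certV b).cmv.toFinset}), Fintype.card_coe] at h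
  exact h.trans ((List.toFinset_card_le _).trans
    (v_facts (DD_good (b := b) 0 0) (V_ok b)).2.2.2.1.le)

theorem wl_spec {c : ℕ} (hc : c ∈ (certS b a).wl) :
    (kd b).InM c ∧ (MulAut.conj ((kd b).el c) * auts b a.succ) (vv b) = vv b := by
  obtain ⟨⟨-, -, h⟩, -⟩ := s_facts (DD_good (b := b) a 0) (V_ok b) (S_ok b a) ⟨rfl, rfl⟩
  obtain ⟨h1, h2⟩ := h c hc
  refine ⟨h1, ?_⟩
  have h3 := congrArg Ext.a h2
  simp only [Ext.mul_def, elX, cond_true, cond_false, Bool.and_false, Bool.false_and, mul_one,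
    DD_sigma] at h3
  rw [MulAut.mul_apply, MulAut.conj_apply, mul_inv_eq_iff_eq_mul]
  exact h3

theorem mem_wl {m : Mg b} (hm : (MulAut.conj m * auts b a.succ) (vv b) = vv b) :
    ∃ c ∈ (certS b a).wl, (kd b).el c = m := by
  obtain ⟨⟨c, e⟩, hp, h⟩ := ((k_facts (DD_good (b := b) a 0) (V_ok b) (S_ok b a) ⟨rfl, rfl⟩).2.2.2.2
    ⟨m, true⟩).1 (by
      rw [MulAut.mul_apply, MulAut.conj_apply, mul_inv_eq_iff_eq_mul] at hm
      refine Ext.ext ?_ rfl
      simp only [Ext.mul_def, elX, cond_true, cond_false, Bool.and_false, Bool.false_and, mul_one,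
        DD_sigma]
      exact hm)
  obtain rfl : e = true := congrArg Ext.e h
  exact ⟨c, by simpa [kList] using hp, congrArg Ext.a h⟩

theorem exists_fix_v (b : Bool) (a : Fin 3) :
    ∃ w : Mg b, (MulAut.conj w * auts b a.succ) (vv b) = vv b := by
  obtain ⟨⟨hl, -, -⟩, -⟩ := s_facts (DD_good (b := b) a 0) (V_ok b) (S_ok b a) ⟨rfl, rfl⟩
  exact ⟨_, (wl_spec (getD_mem_of_lt (certS b a).wl 0 (i := 0) (by omega))).2⟩

/-- The square of an outer element, in the extension with trivial square. -/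
theorem out_sq (m : Mg b) :
    (⟨m, true⟩ : E0 b a) * ⟨m, true⟩ = Ext.inl (m * auts b a.succ m) := by
  simp [Ext.mul_def, Ext.inl_apply, DD_z_zero]

theorem out_mul (m y : Mg b) :
    (⟨m, true⟩ : Ext (DD b a k)) * Ext.inl y = ⟨(MulAut.conj m * auts b a.succ) y * m, true⟩ := by
  simp [Ext.mul_def, Ext.inl_apply, MulAut.conj_apply]

theorem mul_out (m y : Mg b) :
    Ext.inl y * (⟨m, true⟩ : Ext (DD b a k)) = ⟨y * m, true⟩ := by
  simp [Ext.mul_def, Ext.inl_apply]

theorem tX_comm (x : Ext (DD b a k)) : x * tX (DD b a k) = tX (DD b a k) * x := by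
  obtain ⟨m, e⟩ := x
  show (⟨m, e⟩ : Ext (DD b a k)) * Ext.inl (tt b) = Ext.inl (tt b) * ⟨m, e⟩
  cases e
  · rw [show (⟨m, false⟩ : Ext (DD b a k)) = Ext.inl m from rfl, ← map_mul, ← map_mul,
      central_comm tt_mem_center]
  · rw [out_mul, mul_out, map_tt]

theorem conj_e (c u : Ext (DD b a k)) : (c * u * c⁻¹).e = u.e := by
  simp only [Ext.mul_def, Ext.inv_def]
  cases c.e <;> cases u.e <;> simp

/-- The classes of involutions of the covering group. -/
theorem invol_class {u : Mg b} (hu : u * u = 1) :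
    u ∈ center (Mg b) ∨ ∃ c, u = c * vv b * c⁻¹ := by
  rcases invol_cases (DD_good (b := b) 0 0) (V_ok b) (S_ok b 0) ⟨rfl, rfl⟩ (W_ok b 0 0) tX_comm
    (Ext.inl u) (by rw [← map_mul, hu, map_one]) with h | h | ⟨⟨m, e⟩, h⟩ | ⟨R, -, c, h⟩
  · exact .inl (Ext.inl_injective (h.trans (map_one _).symm) ▸ one_mem _)
  · exact .inl (Ext.inl_injective h ▸ tt_mem_center)
  · rw [mul_inv_eq_iff_eq_mul, show elX (DD b 0 0) (certV b).v false = Ext.inl (vv b) from rfl] at h
    cases e
    · rw [show (⟨m, false⟩ : Ext (DD b 0 0)) = Ext.inl m from rfl, ← map_mul, ← map_mul] at h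
      refine .inr ⟨m⁻¹, ?_⟩
      rw [inv_inv, mul_assoc, ← Ext.inl_injective h, inv_mul_cancel_left]
    · rw [out_mul, mul_out] at h
      have h1 : (MulAut.conj m * auts b (0 : Fin 3).succ) u = vv b := mul_right_cancel (congrArg Ext.a h)
      obtain ⟨w, hw⟩ := exists_fix_v b 0
      set σ := auts b (0 : Fin 3).succ
      rw [MulAut.mul_apply, MulAut.conj_apply, mul_inv_eq_iff_eq_mul] at h1 hw
      refine .inr ⟨(σ m)⁻¹ * w⁻¹, ?_⟩
      have h2 : σ (vv b) = w⁻¹ * vv b * w := by rw [mul_assoc, ← hw, inv_mul_cancel_left]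
      calc u = σ (σ u) := (auts_invol _ u).symm
        _ = σ (m⁻¹ * (vv b * m)) := by rw [← h1, inv_mul_cancel_left]
        _ = (σ m)⁻¹ * σ (vv b) * σ m := by rw [map_mul, map_mul, map_inv]; group
        _ = _ := by rw [h2]; group
  · exact absurd ((conj_e _ _).symm.trans (congrArg Ext.e h)) (by simp [Ext.inl_apply, elX])

theorem syl_inner {m : Mg b} {n : ℕ} (hm : m ^ 2 ^ n = 1) :
    ∃ (c : E0 b 0) (x : Mg b), c * Ext.inl m * c⁻¹ = Ext.inl x ∧ x ^ 8 = 1 ∧
      (x * x ∈ center (Mg b) → ∃ i, x * zeta b ^ i * (x * zeta b ^ i) = 1) := by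
  obtain ⟨c, j, hj, hin, h | h⟩ := syl_cases (DD_good (b := b) 0 0) (V_ok b) (S_ok b 0) ⟨rfl, rfl⟩
    (W_ok b 0 0) (Ext.inl m) (n := n) (by rw [← map_pow, hm, map_one])
  · have hc : sylB (kd b) C₀[b, 0] (certS b 0) = true := by
      cases b
      · exact sylA
      · exact sylBB
    simp only [sylB, allBelow_eq_true, Bool.and_eq_true] at hc
    obtain ⟨h8, hsq⟩ := hc j hj
    set x := (kd b).el ((certS b 0).sm.getD j ⟨0, 0, 0⟩).c
    have dx : Den (Ext.inl x : E0 b 0) (fI ((certS b 0).sm.getD j ⟨0, 0, 0⟩).c) := den_el hin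
    have d2 := den_inl_mul dx dx
    have d4 := den_inl_mul d2 d2
    refine ⟨c, x, h, ?_, fun hz => ?_⟩
    · rw [show x ^ 8 = x * x * (x * x) * (x * x * (x * x)) by simp [pow_succ, mul_assoc]]
      exact (eqF_inl (den_inl_mul d4 d4) den_inl_one).1 h8
    · rw [(inZ_iff d2).2 hz, Bool.not_true, Bool.false_or, List.any_eq_true] at hsq
      obtain ⟨i, -, hi⟩ := hsq
      have di := den_inl_mul dx (den_zeta i)
      exact ⟨i, (eqF_inl (den_inl_mul di di) den_inl_one).1 hi⟩
  · exact absurd ((conj_e _ _).symm.trans (congrArg Ext.e h)) (by simp [Ext.inl_apply, elX, Ext.mul_def])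

/-- The exponent of a Sylow subgroup. -/
theorem two_exp {m : Mg b} {n : ℕ} (hm : m ^ 2 ^ n = 1) : m ^ 8 = 1 := by
  obtain ⟨c, x, h, h8, -⟩ := syl_inner hm
  refine Ext.inl_injective (D := DD b 0 0) ?_
  rw [map_pow, map_one, show (Ext.inl m : E0 b 0) = c⁻¹ * Ext.inl x * c by rw [← h]; group,
    show c⁻¹ * Ext.inl x * c = c⁻¹ * Ext.inl x * c⁻¹⁻¹ by rw [inv_inv], conj_pow, ← map_pow, h8,
    map_one]
  group

/-- Elements with central square come from involutions. -/
theorem sq_class {m : Mg b} (hm : m * m ∈ center (Mg b)) (hmc : m ∉ center (Mg b)) :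
    ∃ c : Mg b, ∃ z ∈ center (Mg b), m = c * vv b * c⁻¹ * z := by
  have hm8 : m ^ 2 ^ 3 = 1 := by
    obtain ⟨i, -, hi⟩ := central_iff.1 hm
    rw [show m ^ 2 ^ 3 = (m * m) ^ 4 by rw [← pow_two, ← pow_mul]; norm_num, hi, ← pow_mul, mul_comm, pow_mul, zeta_pow_four, one_pow]
  obtain ⟨c, x, h, -, hsq⟩ := syl_inner hm8
  have hcz : ∀ z ∈ center (Mg b), ∃ z' ∈ center (Mg b), c * Ext.inl z = Ext.inl z' * c := fun z hz => by
    obtain ⟨c, e⟩ := c
    cases e
    · refine ⟨z, hz, ?_⟩
      rw [show (⟨c, false⟩ : E0 b 0) = Ext.inl c from rfl, ← map_mul, ← map_mul, central_comm hz]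
    · exact ⟨_, map_center _ hz, (out_mul c z).trans (mul_out _ _).symm⟩
  have hxc : x * x ∈ center (Mg b) := by
    obtain ⟨z', hz', e⟩ := hcz _ hm
    have e' : Ext.inl (x * x) = (Ext.inl z' : E0 b 0) := by
      rw [map_mul, ← h, eq_mul_inv_of_mul_eq e.symm, map_mul]
      group
    exact Ext.inl_injective e' ▸ hz'
  obtain ⟨i, hi⟩ := hsq hxc
  obtain ⟨z, hz, hzeq⟩ : ∃ z ∈ center (Mg b), (Ext.inl (zeta b ^ i) : E0 b 0) = c * Ext.inl z * c⁻¹ := by
    obtain ⟨d, e⟩ := c
    cases e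
    · refine ⟨zeta b ^ i, pow_mem zeta_mem_center i, ?_⟩
      rw [show (⟨d, false⟩ : E0 b 0) = Ext.inl d from rfl, ← map_mul, ← map_inv, ← map_mul,
        ← central_comm (pow_mem zeta_mem_center i), mul_inv_cancel_right]
    · refine ⟨auts b (0 : Fin 3).succ (zeta b ^ i), map_center _ (pow_mem zeta_mem_center i), ?_⟩
      rw [out_mul, MulAut.mul_apply, MulAut.conj_apply, auts_invol, ← mul_out,
        ← central_comm (pow_mem zeta_mem_center i), mul_inv_cancel_right, mul_inv_cancel_right]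
  have hu : m * z * (m * z) = 1 := Ext.inl_injective (D := DD b 0 0) (by
    rw [map_mul, map_mul, map_one, show (Ext.inl m : E0 b 0) = c⁻¹ * Ext.inl x * c by rw [← h]; group]
    calc c⁻¹ * Ext.inl x * c * Ext.inl z * (c⁻¹ * Ext.inl x * c * Ext.inl z)
        = c⁻¹ * (Ext.inl x * (c * Ext.inl z * c⁻¹) * (Ext.inl x * (c * Ext.inl z * c⁻¹))) * c := by group
      _ = 1 := by
        rw [← hzeq, ← map_mul, ← map_mul, hi, map_one]
        group)
  rcases invol_class hu with h' | ⟨d, hd⟩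
  · refine absurd ?_ hmc
    have := mul_mem h' (inv_mem hz)
    rwa [mul_inv_cancel_right] at this
  · exact ⟨d, z⁻¹, inv_mem hz, by rw [← hd, mul_inv_cancel_right]⟩

/-- The centraliser of all involutions of the centraliser. -/
theorem cent_fact {x : Mg b} (hx : x * vv b = vv b * x)
    (h : ∀ u, u * vv b = vv b * u → u * u = 1 → x * u = u * x) : x ∈ center (Mg b) ∨ VZ x := by
  have hc : centB (kd b) C₀[b, 0] (certV b) = true := by
    cases b
    · exact centA
    · exact centBB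
  obtain ⟨c, hmem, rfl⟩ := mem_cmv hx
  simp only [centB, List.all_eq_true, Bool.or_eq_true, List.any_eq_true, Bool.and_eq_true,
    Bool.not_eq_true'] at hc
  have dx : Den (Ext.inl ((kd b).el c) : E0 b 0) (fI c) := den_el (cmv_spec hmem).1
  rcases hc c hmem with (h1 | h1) | ⟨u, hu, h2, h3⟩
  · exact .inl ((inZ_iff dx).1 h1)
  · exact .inr ((inVZ_iff dx).1 h1)
  · exfalso
    have du : Den (Ext.inl ((kd b).el u) : E0 b 0) (fI u) := den_el (cmv_spec hu).1
    have e := h _ (cmv_spec hu).2 ((eqF_inl (den_inl_mul du du) den_inl_one).1 h2)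
    rw [commF, (eqF_inl (den_inl_mul dx du) (den_inl_mul du dx)).2 e] at h3
    exact absurd h3 (by simp)

theorem fourth_fact {x : Mg b} (hx : x * vv b = vv b * x) : ¬ VZ (x * x * (x * x)) := by
  have hc : fourthB (kd b) C₀[b, 0] (certV b) = true := by
    cases b
    · exact fourthA
    · exact fourthBB
  obtain ⟨c, hmem, rfl⟩ := mem_cmv hx
  simp only [fourthB, List.all_eq_true, Bool.not_eq_true'] at hc
  have dx : Den (Ext.inl ((kd b).el c) : E0 b 0) (fI c) := den_el (cmv_spec hmem).1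
  have d2 := den_inl_mul dx dx
  exact fun h => Bool.false_ne_true ((hc c hmem).symm.trans ((inVZ_iff (den_inl_mul d2 d2)).2 h))

/-- No square root of `v` in the second cover moves the centraliser by `v` alone. -/
theorem root_fact {x : Mg true} (hx : x * vv true = vv true * x) (h2 : VZ (x * x)) :
    ∃ m, m * vv true = vv true * m ∧ x * m * x⁻¹ ≠ m ∧ x * m * x⁻¹ ≠ m * vv true := by
  have hc : rootB (kd true) C₀[true, 0] (certV true) = true := rootBB
  obtain ⟨c, hmem, rfl⟩ := mem_cmv hx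
  simp only [rootB, List.all_eq_true, Bool.or_eq_true, List.any_eq_true, Bool.and_eq_true,
    Bool.not_eq_true'] at hc
  have dx : Den (Ext.inl ((kd true).el c) : E0 true 0) (fI c) := den_el (cmv_spec hmem).1
  rcases hc c hmem with h | ⟨m, hm, h3, h4⟩
  · exact absurd ((inVZ_iff (den_inl_mul dx dx)).2 h2) (by rw [h]; simp)
  · have dm : Den (Ext.inl ((kd true).el m) : E0 true 0) (fI m) := den_el (cmv_spec hm).1
    refine ⟨_, (cmv_spec hm).2, fun e => ?_, fun e => ?_⟩ <;> rw [mul_inv_eq_iff_eq_mul] at e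
    · rw [commF, (eqF_inl (den_inl_mul dx dm) (den_inl_mul dm dx)).2 e] at h3
      simp at h3
    · rw [(eqF_inl (den_inl_mul dx dm) (den_inl_mul dm (den_inl_mul den_v dx))).2
        (by rw [e, mul_assoc])] at h4
      simp at h4

theorem outerB_ok : ∀ b (a : Fin 3),
    outerB (kd b) C₀[b, a] (certV b) (certS b a) = true
  | false, 0 => outerA0
  | false, 1 => outerA1
  | false, 2 => outerA2
  | true, 0 => outerB0
  | true, 1 => outerB1
  | true, 2 => outerB2

theorem den_out {c : ℕ} (hc : (kd b).InM c) :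
    Den (⟨(kd b).el c, true⟩ : E0 b a) (ofC c true) := den_ofC hc true

theorem den_out_sq {c : ℕ} (hc : (kd b).InM c) :
    Den (Ext.inl ((kd b).el c * auts b a.succ ((kd b).el c)) : E0 b a)
      (mulF C₀[b, a] (ofC c true) (ofC c true)) := by
  rw [← out_sq]
  exact den_mul (DD_good a 0) (den_out hc) (den_out hc)

theorem out_comm_iff {c y : ℕ} (hc : (kd b).InM c) (hy : (kd b).InM y) :
    commF C₀[b, a] (ofC c true) (fI y) = true ↔
      (MulAut.conj ((kd b).el c) * auts b a.succ) ((kd b).el y) = (kd b).el y := by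
  rw [commF, eqF_iff (DD_good a 0) (den_mul (DD_good a 0) (den_out hc) (den_el hy))
    (den_mul (DD_good a 0) (den_el hy) (den_out hc)), out_mul, mul_out]
  exact ⟨fun h => mul_right_cancel (congrArg Ext.a h), fun h => by rw [h]⟩

theorem outer_first (a : Fin 3) {m : Mg b}
    (hm : (MulAut.conj m * auts b a.succ) (vv b) = vv b) (h2 : VZ (m * auts b a.succ m)) :
    ∃ y, y * vv b = vv b * y ∧ (MulAut.conj m * auts b a.succ) y ≠ y ∧
      (MulAut.conj m * auts b a.succ) y ≠ y * vv b := by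
  obtain ⟨c, hmem, rfl⟩ := mem_wl hm
  obtain ⟨hc, -⟩ := wl_spec hmem
  have hB := outerB_ok b a
  simp only [outerB, List.all_eq_true, Bool.or_eq_true, List.any_eq_true, Bool.and_eq_true,
    Bool.not_eq_true'] at hB
  rcases (hB c hmem).1 with h | ⟨y, hy, h3, h4⟩
  · exact absurd ((inVZ_iff (den_out_sq hc)).2 h2) (by rw [h]; simp)
  · refine ⟨_, (cmv_spec hy).2, fun e => ?_, fun e => ?_⟩
    · rw [(out_comm_iff hc (cmv_spec hy).1).2 e] at h3
      simp at h3
    · rw [(eqF_iff (DD_good a 0) (den_mul (DD_good a 0) (den_out hc) (den_el (cmv_spec hy).1))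
        (den_mul (DD_good a 0) (den_el (cmv_spec hy).1) (den_mul (DD_good a 0) den_v (den_out hc)))).2
        (by rw [out_mul, mul_out, mul_out, e, mul_assoc])] at h4
      simp at h4

theorem outer_second (a : Fin 3) {m : Mg b}
    (hm : (MulAut.conj m * auts b a.succ) (vv b) = vv b)
    (h2 : VZ (m * auts b a.succ m * (m * auts b a.succ m))) :
    ∃ y, y * vv b = vv b * y ∧ (MulAut.conj m * auts b a.succ) y ≠ y ∧
      (MulAut.conj m * auts b a.succ) y ≠ y * vv b ∧
      ∀ z ∈ center (Mg b), (MulAut.conj m * auts b a.succ) y ≠ y * (m * auts b a.succ m) * z ∧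
        (MulAut.conj m * auts b a.succ) y * (m * auts b a.succ m) ≠ y * z := by
  obtain ⟨c, hmem, rfl⟩ := mem_wl hm
  obtain ⟨hc, -⟩ := wl_spec hmem
  have hB := outerB_ok b a
  simp only [outerB, List.all_eq_true, Bool.or_eq_true, List.any_eq_true, Bool.and_eq_true,
    Bool.not_eq_true'] at hB
  have d2 := den_out_sq (a := a) hc
  rcases (hB c hmem).2 with h | ⟨y, hy, ⟨h3, h4⟩, h5⟩
  · exact absurd ((inVZ_iff (den_inl_mul d2 d2)).2 h2) (by rw [h]; simp)
  · have dy : Den (Ext.inl ((kd b).el y) : E0 b a) (fI y) := den_el (cmv_spec hy).1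
    refine ⟨_, (cmv_spec hy).2, fun e => ?_, fun e => ?_, fun z hz => ?_⟩
    · rw [(out_comm_iff hc (cmv_spec hy).1).2 e] at h3
      simp at h3
    · rw [(eqF_iff (DD_good a 0) (den_mul (DD_good a 0) (den_out hc) dy)
        (den_mul (DD_good a 0) dy (den_mul (DD_good a 0) den_v (den_out hc)))).2
        (by rw [out_mul, mul_out, mul_out, e, mul_assoc])] at h4
      simp at h4
    · obtain ⟨i, hi, rfl⟩ := central_iff.1 hz
      have hi' : i ∈ [0, 1, 2, 3] := by simp; omega
      obtain ⟨h6, h7⟩ := h5 i hi'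
      refine ⟨fun e => ?_, fun e => ?_⟩
      · rw [(eqF_iff (DD_good a 0) (den_mul (DD_good a 0) (den_out hc) dy)
          (den_mul (DD_good a 0) dy (den_mul (DD_good a 0) d2
            (den_mul (DD_good a 0) (den_zeta i) (den_out hc))))).2
          (by rw [out_mul, mul_out, mul_out, mul_out, e, mul_assoc, mul_assoc])] at h6
        simp at h6
      · rw [(eqF_iff (DD_good a 0) (den_mul (DD_good a 0) (den_mul (DD_good a 0) (den_out hc) dy) d2)
          (den_mul (DD_good a 0) dy (den_mul (DD_good a 0) (den_zeta i) (den_out hc)))).2 ?_] at h7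
        · simp at h7
        · rw [mul_assoc, ← map_mul, out_mul, mul_out, mul_out]
          refine congrArg (fun x => (⟨x, true⟩ : E0 b a)) ?_
          have hfix : (MulAut.conj ((kd b).el c) * auts b a.succ)
              ((kd b).el c * auts b a.succ ((kd b).el c)) = (kd b).el c * auts b a.succ ((kd b).el c) := by
            simp only [MulAut.mul_apply, MulAut.conj_apply, map_mul, auts_invol]
            group
          rw [map_mul, hfix, e, mul_assoc]

/-- An involutory outer automorphism of the first kind fixes a product of two squares. -/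
theorem fix_fact {m : Mg false}
    (hm : (MulAut.conj m * auts false 1) (vv false) = vv false)
    (h2 : m * auts false 1 m ∈ center (Mg false)) :
    ∃ p q, p * vv false = vv false * p ∧ q * vv false = vv false * q ∧
      p * p * (q * q) * (p * p * (q * q)) = 1 ∧ ¬ Four (p * p * (q * q)) ∧
      (MulAut.conj m * auts false 1) (p * p * (q * q)) = p * p * (q * q) := by
  rw [show (1 : Fin 4) = (0 : Fin 3).succ from rfl] at hm h2 ⊢
  obtain ⟨c, hmem, rfl⟩ := mem_wl hm
  obtain ⟨hc, -⟩ := wl_spec hmem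
  have hB : fixB (kd false) C₀[false, 0] (certV false) (certS false 0) = true := fixA
  simp only [fixB, List.all_eq_true, Bool.or_eq_true, List.any_eq_true, Bool.and_eq_true,
    Bool.not_eq_true', Nat.blt_eq] at hB
  rcases hB.2 c hmem with h | ⟨pq, hpq, h3⟩
  · exact absurd ((inZ_iff (den_out_sq hc)).2 h2) (by rw [h]; simp)
  · obtain ⟨⟨hp, hq⟩, hbig⟩ := hB.1 pq hpq
    obtain ⟨hp1, hp2⟩ := cmv_spec (getD_mem_of_lt (certV false).cmv 0 hp)
    obtain ⟨hq1, hq2⟩ := cmv_spec (getD_mem_of_lt (certV false).cmv 0 hq)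
    have dp : Den (Ext.inl ((kd false).el ((certV false).cmv.getD pq.1 0)) : E0 false 0) _ := den_el hp1
    have dq : Den (Ext.inl ((kd false).el ((certV false).cmv.getD pq.2 0)) : E0 false 0) _ := den_el hq1
    have dx := den_inl_mul (den_inl_mul dp dp) (den_inl_mul dq dq)
    obtain ⟨e1, e2⟩ := (bigInv_iff dx).1 hbig
    refine ⟨_, _, hp2, hq2, e1, e2, ?_⟩
    have e3 := (eqF_iff (DD_good (b := false) 0 0) (den_mul (DD_good 0 0) (den_out hc) dx)
      (den_mul (DD_good 0 0) dx (den_out hc))).1 h3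
    rw [out_mul, mul_out] at e3
    exact mul_right_cancel (congrArg Ext.a e3)

theorem innerRoot_fact {x u : Mg false} (hx : x * vv false = vv false * x) (h2 : VZ (x * x))
    (hu : u * vv false = vv false * u) (hu2 : u * u = 1) (hu4 : ¬ Four u) (hxu : x * u = u * x) :
    ∃ z ∈ center (Mg false), ∃ u₁ u₂, u₁ * u₁ = 1 ∧ u₂ * u₂ = 1 ∧
      u₁ * vv false = vv false * u₁ ∧ u₂ * vv false = vv false * u₂ ∧ x = z * (u₁ * u₂) := by
  obtain ⟨c, hmem, rfl⟩ := mem_cmv hx
  obtain ⟨d, hd, rfl⟩ := mem_cmv hu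
  have hB : innerRootB (kd false) C₀[false, 0] (certV false) = true := innerRootA
  simp only [innerRootB, List.all_eq_true, Bool.or_eq_true, List.any_eq_true, Bool.and_eq_true,
    Bool.not_eq_true', Nat.blt_eq] at hB
  have dx : Den (Ext.inl ((kd false).el c) : E0 false 0) (fI c) := den_el (cmv_spec hmem).1
  have du : Den (Ext.inl ((kd false).el d) : E0 false 0) (fI d) := den_el (cmv_spec hd).1
  rcases hB.2 c hmem with (h | h) | ⟨w, hw, h⟩
  · exact absurd ((inVZ_iff (den_inl_mul dx dx)).2 h2) (by rw [h]; simp)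
  · rw [List.any_eq_false] at h
    refine absurd ?_ (h d hd)
    rw [Bool.and_eq_true]
    exact ⟨(bigInv_iff du).2 ⟨hu2, hu4⟩, (eqF_inl (den_inl_mul dx du) (den_inl_mul du dx)).2 hxu⟩
  · obtain ⟨⟨⟨h1, h1'⟩, e1⟩, e2⟩ := hB.1 w hw
    obtain ⟨hp1, hp2⟩ := cmv_spec (getD_mem_of_lt (certV false).cmv 0 h1)
    obtain ⟨hq1, hq2⟩ := cmv_spec (getD_mem_of_lt (certV false).cmv 0 h1')
    have d1 : Den (Ext.inl ((kd false).el ((certV false).cmv.getD w.2.1 0)) : E0 false 0) _ := den_el hp1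
    have d2 : Den (Ext.inl ((kd false).el ((certV false).cmv.getD w.2.2 0)) : E0 false 0) _ := den_el hq1
    exact ⟨_, pow_mem zeta_mem_center w.1, _, _, (eqF_inl (den_inl_mul d1 d1) den_inl_one).1 e1,
      (eqF_inl (den_inl_mul d2 d2) den_inl_one).1 e2, hp2, hq2,
      (eqF_inl dx (den_inl_mul (den_zeta _) (den_inl_mul d1 d2))).1 h⟩

theorem outerRoot_fact {m u : Mg false}
    (hm : (MulAut.conj m * auts false 3) (vv false) = vv false) (h2 : VZ (m * auts false 3 m))
    (hu : u * vv false = vv false * u) (hu2 : u * u = 1) (hu4 : ¬ Four u) :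
    (MulAut.conj m * auts false 3) u ≠ u := by
  rw [show (3 : Fin 4) = (2 : Fin 3).succ from rfl] at hm h2 ⊢
  obtain ⟨c, hmem, rfl⟩ := mem_wl hm
  obtain ⟨d, hd, rfl⟩ := mem_cmv hu
  obtain ⟨hc, -⟩ := wl_spec hmem
  have hB : outerRootB (kd false) C₀[false, 2] (certV false) (certS false 2) = true := outerRootA
  simp only [outerRootB, List.all_eq_true, Bool.or_eq_true, Bool.not_eq_true'] at hB
  intro e
  have du : Den (Ext.inl ((kd false).el d) : E0 false 2) (fI d) := den_el (cmv_spec hd).1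
  rcases hB c hmem with h | h
  · exact absurd ((inVZ_iff (den_out_sq hc)).2 h2) (by rw [h]; simp)
  · rcases h d hd with h' | h'
    · exact absurd ((bigInv_iff du).2 ⟨hu2, hu4⟩) (by rw [h']; simp)
    · exact absurd ((out_comm_iff hc (cmv_spec hd).1).2 e) (by rw [h']; simp)

theorem rank_fact {p q : Mg false} (hp : p * vv false = vv false * p) (hp2 : p * p = 1) (hp4 : ¬ Four p)
    (hq : q * vv false = vv false * q) (hq2 : q * q = 1) (hpq : p * q = q * p) :
    Four q ∨ q = p ∨ q = tt false * p ∨ q = vv false * p ∨ q = vv false * tt false * p := by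
  obtain ⟨c, hmem, rfl⟩ := mem_cmv hp
  obtain ⟨d, hd, rfl⟩ := mem_cmv hq
  have hB : rankB (kd false) C₀[false, 0] (certV false) = true := rankA
  simp only [rankB, List.all_eq_true, Bool.or_eq_true, Bool.not_eq_true', Bool.and_eq_false_iff] at hB
  have dp : Den (Ext.inl ((kd false).el c) : E0 false 0) (fI c) := den_el (cmv_spec hmem).1
  have dq : Den (Ext.inl ((kd false).el d) : E0 false 0) (fI d) := den_el (cmv_spec hd).1
  rcases hB c hmem with h | h
  · exact absurd ((bigInv_iff dp).2 ⟨hp2, hp4⟩) (by rw [h]; simp)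
  · rcases h d hd with (((((h | h) | h) | h) | h) | h) | h
    · exact absurd ((eqF_inl (den_inl_mul dq dq) den_inl_one).2 hq2) (by rw [h]; simp)
    · exact absurd ((eqF_inl (den_inl_mul dp dq) (den_inl_mul dq dp)).2 hpq) (by rw [← commF, h]; simp)
    · simp only [inFour, Bool.or_eq_true, eqF_inl dq den_inl_one, eqF_inl dq (den_zeta 2),
        eqF_inl dq den_v, eqF_inl dq (den_inl_mul den_v (den_zeta 2))] at h
      exact .inl (by simpa [Four, tt, or_assoc] using h)
    · exact .inr (.inl ((eqF_inl dq dp).1 h))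
    · exact .inr (.inr (.inl ((eqF_inl dq (den_inl_mul (den_zeta 2) dp)).1 h)))
    · exact .inr (.inr (.inr (.inl ((eqF_inl dq (den_inl_mul den_v dp)).1 h))))
    · exact .inr (.inr (.inr (.inr ((eqF_inl dq
        (den_inl_mul (den_inl_mul den_v (den_zeta 2)) dp)).1 h))))

theorem adjustZero : ∀ (e : Fin 4) (n : Fin 4), (e.val = 1 ∨ e.val = 3) → e.val * n.val % 4 = n.val →
    ∃ (l : Fin 4) (k : Fin 2), (n.val + l.val + e.val * l.val + kVal e.val k) % 4 = 0 := by
  decide +kernel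

/-- An involutory outer automorphism is induced by an involution of an extension. -/
theorem outer_invol (a : Fin 3) {m : Mg b} (h : m * auts b a.succ m ∈ center (Mg b)) :
    ∃ (k : Fin 2) (w : Mg b), MulAut.conj w = MulAut.conj m ∧
      (⟨w, true⟩ : Ext (DD b a k)) * ⟨w, true⟩ = 1 := by
  obtain ⟨j, hj, hjm⟩ := central_iff.1 h
  set σ := auts b a.succ
  have hfix : σ (m * σ m) = m * σ m := by
    rw [map_mul, auts_invol]
    calc σ m * m = σ m * (m * σ m) * (σ m)⁻¹ := by group
      _ = _ := by rw [← central_comm h (σ m)]; group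
  rw [hjm, map_pow, auts_zeta, ← pow_mul, pow_eq_pow_iff_modEq, orderOf_zeta', Nat.ModEq,
    Nat.mod_eq_of_lt hj] at hfix
  obtain ⟨l, k, hlk⟩ := adjustZero ⟨epsAt b a, by rcases epsAt_cases (b := b) a with h | h <;> omega⟩
    ⟨j, hj⟩ (epsAt_cases a) hfix
  refine ⟨k, m * zeta b ^ (l : ℕ), ?_, ?_⟩
  · rw [map_mul, conj_central (pow_mem zeta_mem_center _), mul_one]
  · simp only [Ext.mul_def, Ext.one_def, cond_true, Bool.and_self, Bool.xor_self, DD_sigma]
    refine congrArg (fun x => (⟨x, false⟩ : Ext (DD b a k))) ?_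
    show m * zeta b ^ (l : ℕ) * σ (m * zeta b ^ (l : ℕ)) * zeta b ^ kVal (epsAt b a) k = 1
    rw [map_mul, map_pow, auts_zeta, ← pow_mul,
      show m * zeta b ^ (l : ℕ) * (σ m * zeta b ^ (epsAt b a * l)) =
        m * (zeta b ^ (l : ℕ) * σ m) * zeta b ^ (epsAt b a * l) by group,
      central_comm (pow_mem zeta_mem_center _), ← mul_assoc, hjm, ← pow_add, ← pow_add, ← pow_add,
      ← orderOf_dvd_iff_pow_eq_one, orderOf_zeta']
    exact Nat.dvd_of_mod_eq_zero hlk

/-- An outer involution: a product of squares in its centraliser moving it, and a fixed element. -/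
theorem outer_wit (a : Fin 3) (k : Fin 2) {s : Ext (DD b a k)} (he : s.e = true) (hs : s * s = 1) :
    ∃ (h₁ h₂ c : Ext (DD b a k)) (x m : Mg b), h₁ * s = s * h₁ ∧ h₂ * s = s * h₂ ∧
      h₁ * h₁ * (h₂ * h₂) = Ext.inl x ∧ x * x = 1 ∧ x ≠ 1 ∧ c * s * c⁻¹ = Ext.inl x * s ∧
      Ext.inl m * s = s * Ext.inl m ∧ m ^ 256 ≠ 1 := by
  rcases invol_cases (DD_good a k) (V_ok b) (S_ok b a) ⟨rfl, rfl⟩ (W_ok b a k) tX_comm s hs with
    h | h | ⟨c, h⟩ | ⟨R, hR, c, h⟩
  · exact absurd (he.symm.trans (congrArg Ext.e h)) (by simp [Ext.one_def])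
  · exact absurd (he.symm.trans (congrArg Ext.e h)) (by simp [tX, Ext.inl_apply])
  · exact absurd (he.symm.trans ((conj_e c s).symm.trans (congrArg Ext.e h))) (by simp [elX])
  obtain ⟨a₁, a₂, c', β, h1, h2, h3, h4, h5, h6, h7⟩ :=
    rep_witness (DD_good a k) (W_ok b a k) hR
  let f := (MulAut.conj c⁻¹).toMonoidHom
  have hf : ∀ x, f x = c⁻¹ * x * c := fun x => by simp [f]
  have hs' : f (elX (DD b a k) R.s true) = s := by rw [hf, ← h]; group
  have hinj : Function.Injective f := (MulAut.conj c⁻¹).injective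
  have hsq : ∀ y : Ext (DD b a k), ∃ n, y * y = Ext.inl n := fun y => ⟨(y * y).a, by
    refine Ext.ext rfl ?_
    simp [Ext.mul_def, Ext.inl_apply]⟩
  obtain ⟨n₁, hn₁⟩ := hsq (f a₁)
  obtain ⟨n₂, hn₂⟩ := hsq (f a₂)
  obtain ⟨m, hm⟩ := hsq (f β)
  refine ⟨f a₁, f a₂, f c', n₁ * n₂, m, ?_, ?_, ?_, ?_, ?_, ?_, ?_, ?_⟩
  · rw [← hs', ← map_mul, h1, map_mul]
  · rw [← hs', ← map_mul, h2, map_mul]
  · rw [hn₁, hn₂, map_mul]
  · refine Ext.inl_injective (D := DD b a k) ?_
    rw [map_mul, map_mul, map_one, ← hn₁, ← hn₂, ← map_mul, ← map_mul, ← map_mul, ← map_mul, h4,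
      map_one]
  · intro e
    refine h3 (hinj ?_)
    rw [map_mul, map_mul, map_mul, hn₁, hn₂, ← map_mul, e, map_one, map_one]
  · rw [← hs', ← map_inv, ← map_mul, ← map_mul, h5, map_mul, map_mul, map_mul, map_mul, hn₁, hn₂,
      map_mul]
  · rw [← hm]
    have hcs : Commute (f β) s := by rw [← hs']; exact (show Commute β _ from h6).map f
    exact (hcs.mul_left hcs).eq
  · intro e
    refine h7 (hinj ?_)
    have e8 := two_exp (n := 8) (show m ^ 2 ^ 8 = 1 from e)
    rw [map_one, map_pow, show (256 : ℕ) = 2 * (8 * 16) from rfl, pow_mul, pow_two, hm, ← map_pow,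
      pow_mul, e8, one_pow, map_one]

/-- No outer involution in the second extension of the O'Nan kind. -/
theorem reps_A21 : (certW false 2 1).reps = [] := rfl

theorem reps_A20 : (certW false 2 0).reps.length = 1 := rfl

theorem no_outer_21 {s : Ext (DD false 2 1)} (he : s.e = true) : s * s ≠ 1 := by
  intro hs
  rcases invol_cases (DD_good 2 1) (V_ok false) (S_ok false 2) ⟨rfl, rfl⟩ (W_ok false 2 1) tX_comm s hs
    with h | h | ⟨c, h⟩ | ⟨R, hR, -⟩
  · exact absurd (he.symm.trans (congrArg Ext.e h)) (by simp [Ext.one_def])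
  · exact absurd (he.symm.trans (congrArg Ext.e h)) (by simp [tX, Ext.inl_apply])
  · exact absurd (he.symm.trans ((conj_e c s).symm.trans (congrArg Ext.e h))) (by simp [elX])
  · rw [reps_A21] at hR
    simp at hR

theorem outer_conj_20 {s s' : Ext (DD false 2 0)} (he : s.e = true) (hs : s * s = 1)
    (he' : s'.e = true) (hs' : s' * s' = 1) : ∃ c, c * s * c⁻¹ = s' := by
  have key : ∀ {r : Ext (DD false 2 0)}, r.e = true → r * r = 1 →
      ∃ R ∈ (certW false 2 0).reps, ∃ c, c * r * c⁻¹ = elX (DD false 2 0) R.s true := by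
    intro r hr hr2
    rcases invol_cases (DD_good 2 0) (V_ok false) (S_ok false 2) ⟨rfl, rfl⟩ (W_ok false 2 0) tX_comm r hr2
      with h | h | ⟨c, h⟩ | h
    · exact absurd (hr.symm.trans (congrArg Ext.e h)) (by simp [Ext.one_def])
    · exact absurd (hr.symm.trans (congrArg Ext.e h)) (by simp [tX, Ext.inl_apply])
    · exact absurd (hr.symm.trans ((conj_e c r).symm.trans (congrArg Ext.e h))) (by simp [elX])
    · exact h
  obtain ⟨R, hR, c, hc⟩ := key he hs
  obtain ⟨R', hR', c', hc'⟩ := key he' hs'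
  obtain ⟨R₀, hR₀⟩ := List.length_eq_one_iff.1 reps_A20
  rw [hR₀, List.mem_singleton] at hR hR'
  subst hR hR'
  refine ⟨c'⁻¹ * c, ?_⟩
  rw [show c'⁻¹ * c * s * (c'⁻¹ * c)⁻¹ = c'⁻¹ * (c * s * c⁻¹) * c' by group, hc, ← hc']
  group

theorem epsA : ∀ a : Fin 3, epsAt false a = if a = 1 then 1 else 3 := by decide +kernel

end

end Cfsg.Agent.StdON
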