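import Cfsg.Agent.StdON.KPart

/-!
In the first cover commuting conjugates induce automorphisms of O'Nan type, and the involutions
inducing such automorphisms are conjugates.
-/

set_option autoImplicit false
set_option maxHeartbeats 1000000
set_option linter.unusedSectionVars false

namespace Cfsg.Agent.StdON

open Cfsg.Agent ONUniq Compute Subgroup

attribute [local irreducible] compCode idCode canonC powC SLMult.L34.codes SLMult.L34.centPairs
  DataL.dperm DataL.dwords DataA.chain DataA.gs DataA.gis DataA.zeta DataA.mask DataA.sig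
  DataB.chain DataB.gs DataB.gis DataB.zeta DataB.mask DataB.sig

/-- The outer automorphisms are not inner. -/
theorem auts_ne_conj {b : Bool} (a : Fin 3) (n : Mg b) : auts b a.succ ≠ MulAut.conj n := by
  intro h
  obtain ⟨-, -, hout, -⟩ := KData.sig_spec (kd_checked b) (a := (a : ℕ)) a.2
  set p := rep224.den ((kd b).sig.getD (a : ℕ) (0, 0)).1 with hp
  have hpA : pA b a.succ = p := by rw [pA, if_neg (by simp)]; simp [hp]
  obtain ⟨k, hk⟩ := KData.centraliser_le (kd_checked b) zeta_comm
    (q := (n : Equiv.Perm (Fin 224))⁻¹ * p) fun m => by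
    have e : p * m * p⁻¹ =
        (n : Equiv.Perm (Fin 224)) * m * (n : Equiv.Perm (Fin 224))⁻¹ := by
      rw [← hpA, ← auts_val, h, MulAut.conj_apply, Subgroup.coe_mul, Subgroup.coe_mul, Subgroup.coe_inv]
    rw [mul_inv_eq_iff_eq_mul] at e
    rw [mul_assoc, e]
    group
  refine hout ?_
  rw [show p = (n : Equiv.Perm (Fin 224)) * ((n : Equiv.Perm (Fin 224))⁻¹ * p) by group, hk]
  exact mul_mem n.2 (Subtype.prop _)

theorem zeta_ne_inv {b : Bool} : zeta b ≠ zeta b ^ 3 := fun h => by
  have := (pow_eq_pow_iff_modEq (x := zeta b) (n := 1) (m := 3)).1 (by rwa [pow_one])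
  rw [orderOf_zeta'] at this
  simp [Nat.ModEq] at this

theorem auts_zeta_one : auts false 1 (zeta false) = zeta false ^ 3 := by
  rw [show (1 : Fin 4) = (0 : Fin 3).succ from rfl, auts_zeta, epsA]; rfl

theorem auts_zeta_two : auts false 2 (zeta false) = zeta false := by
  rw [show (2 : Fin 4) = (1 : Fin 3).succ from rfl, auts_zeta, epsA, if_pos rfl, pow_one]

theorem auts_zeta_three : auts false 3 (zeta false) = zeta false ^ 3 := by
  rw [show (3 : Fin 4) = (2 : Fin 3).succ from rfl, auts_zeta, epsA]; rfl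

theorem conj_zeta {b : Bool} (m : Mg b) : MulAut.conj m (zeta b) = zeta b := by
  rw [MulAut.conj_apply, ← central_comm zeta_mem_center m, mul_inv_cancel_right]

theorem auts_sq {b : Bool} (a : Fin 4) : auts b a * auts b a = 1 :=
  MulEquiv.ext fun m => auts_invol a m

theorem sq_mem_A2 (α : MulAut (Mg false)) : α * α ∈ A2 := by
  obtain ⟨n, hn⟩ := aut_sq_inner α
  exact hn ▸ conj_mem_A2 n

theorem A2_conj {α : MulAut (Mg false)} (hα : α ∈ A2) (β : MulAut (Mg false)) :
    β⁻¹ * α * β ∈ A2 := by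
  have : β⁻¹ * α * β = β⁻¹ * β⁻¹ * (β * α * (β * α)) * α⁻¹ * (α⁻¹)⁻¹ * α⁻¹ := by group
  rw [this]
  exact mul_mem (mul_mem (mul_mem (mul_mem (sq_mem_A2 _) (sq_mem_A2 _)) (inv_mem hα))
    (inv_mem (inv_mem hα))) (inv_mem hα)

theorem auts_one_not_A2 : auts false 1 ∉ A2 := by
  rintro ⟨r, h | h⟩
  · exact auts_ne_conj (b := false) 0 r h
  · have h' : auts false 1 * auts false 3 = MulAut.conj r := by
      rw [h, mul_assoc, auts_sq, mul_one]
    obtain ⟨n, a', hn⟩ := aut_class (auts false 1 * auts false 2)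
    have hz : (auts false 1 * auts false 2) (zeta false) = zeta false ^ 3 := by
      rw [MulAut.mul_apply, auts_zeta_two, auts_zeta_one]
    rw [hn, MulAut.mul_apply] at hz
    fin_cases a'
    · refine zeta_ne_inv (b := false) ?_
      exact (conj_zeta n).symm.trans ((congrArg (MulAut.conj n) (show auts false 0 (zeta false) = zeta false by rw [auts_zero]; rfl)).symm.trans hz)
    · have h2 : auts false 2 = MulAut.conj (auts false 1 n) := by
        calc auts false 2 = auts false 1 * (auts false 1 * auts false 2) := by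
              rw [← mul_assoc, auts_sq, one_mul]
          _ = auts false 1 * (MulAut.conj n * auts false 1) := by rw [hn]; rfl
          _ = _ := MulEquiv.ext fun x => by
              simp only [MulAut.mul_apply, MulAut.conj_apply, map_mul, map_inv, auts_invol]
      exact auts_ne_conj (b := false) 1 _ h2
    · refine zeta_ne_inv (b := false) ?_
      exact (conj_zeta n).symm.trans ((congrArg (MulAut.conj n) auts_zeta_two).symm.trans hz)
    · have h2 : auts false 2 = MulAut.conj (auts false 1 n) * (auts false 1 * auts false 3) := by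
        calc auts false 2 = auts false 1 * (auts false 1 * auts false 2) := by
              rw [← mul_assoc, auts_sq, one_mul]
          _ = auts false 1 * (MulAut.conj n * auts false 3) := by rw [hn]; rfl
          _ = _ := MulEquiv.ext fun x => by
              simp only [MulAut.mul_apply, MulAut.conj_apply, map_mul, map_inv]
      rw [h', ← map_mul] at h2
      exact auts_ne_conj (b := false) 1 _ h2

theorem auts_two_not_A2 : auts false 2 ∉ A2 := by
  rintro ⟨r, h | h⟩
  · exact auts_ne_conj (b := false) 1 r h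
  · have := DFunLike.congr_fun h (zeta false)
    rw [MulAut.mul_apply, auts_zeta_two, auts_zeta_three, map_pow, conj_zeta] at this
    exact zeta_ne_inv this

theorem auts_one_two : auts false 1 * auts false 2 ∈ A2 := by
  obtain ⟨n, a', hn⟩ := aut_class (auts false 1 * auts false 2)
  have hz : (auts false 1 * auts false 2) (zeta false) = zeta false ^ 3 := by
    rw [MulAut.mul_apply, auts_zeta_two, auts_zeta_one]
  rw [hn, MulAut.mul_apply] at hz
  fin_cases a'
  · refine absurd ?_ (zeta_ne_inv (b := false))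
    exact (conj_zeta n).symm.trans ((congrArg (MulAut.conj n) (show auts false 0 (zeta false) = zeta false by rw [auts_zero]; rfl)).symm.trans hz)
  · have h2 : auts false 2 = MulAut.conj (auts false 1 n) := by
      calc auts false 2 = auts false 1 * (auts false 1 * auts false 2) := by
            rw [← mul_assoc, auts_sq, one_mul]
        _ = auts false 1 * (MulAut.conj n * auts false 1) := by rw [hn]; rfl
        _ = _ := MulEquiv.ext fun x => by
            simp only [MulAut.mul_apply, MulAut.conj_apply, map_mul, map_inv, auts_invol]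
    exact absurd h2 (auts_ne_conj (b := false) 1 _)
  · refine absurd ?_ (zeta_ne_inv (b := false))
    exact (conj_zeta n).symm.trans ((congrArg (MulAut.conj n) auts_zeta_two).symm.trans hz)
  · rw [hn]
    exact ⟨n, .inr rfl⟩

/-- The type is O'Nan's or one of two cosets of the same kind. -/
theorem class_not_A2 {α : MulAut (Mg false)} (hα : α ∉ A2) :
    ∃ m, α = MulAut.conj m * auts false 1 ∨ α = MulAut.conj m * auts false 2 := by
  obtain ⟨m, a', rfl⟩ := aut_class α
  fin_cases a'
  · exact absurd ⟨m, .inl (by simp)⟩ hα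
  · exact ⟨m, .inl rfl⟩
  · exact ⟨m, .inr rfl⟩
  · exact absurd ⟨m, .inr rfl⟩ hα

/-- Two automorphisms outside `A2` differ by one of it. -/
theorem A2_index_two {α β : MulAut (Mg false)} (hα : α ∉ A2) (hβ : β ∉ A2) : α * β ∈ A2 := by
  have key : ∀ (m n : Mg false), MulAut.conj m * auts false 1 * (MulAut.conj n * auts false 2) ∈ A2 :=
    fun m n => by
      rw [show MulAut.conj m * auts false 1 * (MulAut.conj n * auts false 2) =
        MulAut.conj (m * auts false 1 n) * (auts false 1 * auts false 2) from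
        MulEquiv.ext fun x => by
          simp only [MulAut.mul_apply, MulAut.conj_apply, map_mul, map_inv, mul_inv_rev, mul_assoc]]
      exact mul_mem (conj_mem_A2 _) auts_one_two
  have same : ∀ (a : Fin 4) (m n : Mg false),
      MulAut.conj m * auts false a * (MulAut.conj n * auts false a) ∈ A2 := fun a m n => by
    rw [show MulAut.conj m * auts false a * (MulAut.conj n * auts false a) =
      MulAut.conj (m * auts false a n) from MulEquiv.ext fun x => by
        simp only [MulAut.mul_apply, MulAut.conj_apply, map_mul, map_inv, auts_invol, mul_inv_rev, mul_assoc]]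
    exact conj_mem_A2 _
  obtain ⟨m, rfl | rfl⟩ := class_not_A2 hα <;> obtain ⟨n, rfl | rfl⟩ := class_not_A2 hβ
  · exact same _ _ _
  · exact key _ _
  · have := A2_conj (key n m) (MulAut.conj n * auts false 1)
    rwa [← mul_assoc, ← mul_assoc, inv_mul_cancel, one_mul] at this
  · exact same _ _ _

theorem conj_left_class {b : Bool} (c m : Mg b) (a : Fin 4) :
    MulAut.conj c⁻¹ * (MulAut.conj m * auts b a) * MulAut.conj c =
      MulAut.conj (c⁻¹ * m * auts b a c) * auts b a :=
  MulEquiv.ext fun x => by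
    simp only [MulAut.mul_apply, MulAut.conj_apply, map_mul, map_inv, mul_inv_rev, inv_inv, mul_assoc]

theorem four_tt : Four (tt false) := .inr (.inl rfl)

theorem nc_of_not_four {x : Mg false} (h2 : x * x = 1) (h4 : ¬ Four x) : x ∉ center (Mg false) := fun h =>
  h4 ((central_invol h h2).elim .inl fun e => .inr (.inl e))

namespace NPair

variable {G : Type*} [Group G] {S T : Base false G} (h : NPair S T)
include h

/-- The four-group is shared. -/
theorem four {x p : Mg false} (e : S.φ x = T.φ p) (hp : Four p) : Four x := by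
  have ev : T.φ (vv false) = S.φ (tt false) := h.hS.symm
  have et : T.φ (tt false) = S.φ (vv false) := h.hT
  rcases hp with rfl | rfl | rfl | rfl
  · exact .inl (S.inj (by rw [e, map_one, map_one]))
  · exact .inr (.inr (.inl (S.inj (e.trans et))))
  · exact .inr (.inl (S.inj (e.trans ev)))
  · refine .inr (.inr (.inr (S.inj ?_)))
    rw [e, map_mul, ev, et, ← map_mul, central_comm tt_mem_center]

end NPair

namespace Base

variable {G : Type*} [Group G] {S T : Base false G}

/-- The inner image of a product of two squares. -/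
theorem exists_pre (hp : HasPairs false G) (h : NPair S T) {p q : Mg false}
    (hpv : p * vv false = vv false * p) (hqv : q * vv false = vv false * q)
    (h2 : p * p * (q * q) * (p * p * (q * q)) = 1) (h4 : ¬ Four (p * p * (q * q))) :
    ∃ p', T.φ p' = S.φ (p * p * (q * q)) ∧ p' * vv false = vv false * p' ∧ p' * p' = 1 ∧ ¬ Four p' := by
  set x := p * p * (q * q) with hx
  obtain ⟨U, hU, hUz⟩ := exists_cfg hp S h2 (nc_of_not_four h2 h4)
  have hxv : x * vv false = vv false * x :=
    (((show Commute p _ from hpv).mul_left hpv).mul_left ((show Commute q _ from hqv).mul_left hqv)).eq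
  have hTU : Pair T U := ⟨h.pair.rel.symm.trans hU, by rw [hUz]; exact h.comm_of_comm_v hxv,
    fun e => h4 (by rw [hUz, h.hT] at e; exact .inr (.inr (.inl (S.inj e))))⟩
  obtain ⟨n, hn⟩ := two_sq_inner (S := T) (h.comm_of_comm_v hpv) (h.comm_of_comm_v hqv)
  have hi : Inner T U := ⟨n, by
    rw [hUz, hx, map_mul, map_mul, map_mul]
    exact hn⟩
  obtain ⟨c, hc⟩ := hTU.inner_side hi
  refine ⟨c * vv false * c⁻¹, hc.symm.trans hUz, h.symm.comm_v_of_comm ?_, conjv_sq c,
    fun hf => h4 (h.four (hUz.symm.trans hc) hf)⟩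
  rw [← hc, hUz]
  exact S.phi_comm_z x

variable (hp : HasPairs false G)
include hp

/-- Commuting conjugates induce automorphisms of O'Nan type. -/
theorem pair_A2 (h : Pair S T) : ∃ α ∈ A2, S.Ind T.z α := by
  obtain ⟨α, hα⟩ := h.exists_ind
  by_cases hi : Inner S T
  · obtain ⟨n, hn⟩ := hi
    exact ⟨_, conj_mem_A2 n, hn⟩
  refine ⟨α, by_contra fun hA => ?_, hα⟩
  obtain ⟨m, rfl | rfl⟩ := class_not_A2 hA
  swap
  · refine hi (inner_of_comm_a ((hα.fix_iff (zeta false)).1 ?_)).symm
    rw [MulAut.mul_apply, auts_zeta_two, conj_zeta]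
  -- the first kind
  obtain ⟨x, h₁, h₂, -, hx2, hx1, hx, -, -, -, e₁, e₂, -, hxT⟩ :=
    outer_setup T.z_sq (0 : Fin 3) (m := m) hα
  obtain ⟨c, rfl⟩ := invol_conjv hx2 (sq_prod_nc h hi hx2 hx1 hx e₁ e₂)
  set S1 := S.conj (S.φ c) with hS1
  have hphi : S1.φ (vv false) = S.φ (c * vv false * c⁻¹) := by
    rw [hS1, conj_phi, map_mul, map_mul, map_inv]
  have hz1 : S1.z = S.z := conj_phi_z c
  have h1 : Pair S1 T := h.conj_left c
  set m₁ := c⁻¹ * m * auts false 1 c
  have hα1 : S1.Ind T.z (MulAut.conj m₁ * auts false 1) :=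
    (hα.conj_phi c).congr (conj_left_class c m 1)
  have hi1 : ¬ Inner S1 T := by
    rintro ⟨n, hn⟩
    refine auts_one_not_A2 ?_
    have e := hα1.eq hn
    rw [show auts false 1 = MulAut.conj m₁⁻¹ * (MulAut.conj m₁ * auts false 1) by
      rw [← mul_assoc, ← map_mul, inv_mul_cancel, map_one, one_mul], e]
    exact mul_mem (conj_mem_A2 _) (conj_mem_A2 _)
  have hfixv : (MulAut.conj m₁ * auts false 1) (vv false) = vv false :=
    (hα1.fix_iff _).2 (by rw [hphi]; exact hxT.symm)
  have hX2 : m₁ * auts false 1 m₁ ∈ center (Mg false) :=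
    conj_eq_one (by rw [← conj_mul_auts_sq]; exact ind_invol_sq T.z_sq hα1)
  obtain ⟨p, q, hpv, hqv, hb2, hb4, hbfix⟩ := fix_fact hfixv hX2
  obtain ⟨W, hWz, hSW, hiS, hTW, hiT⟩ := exists_common hp h1 hi1 v_sq v_nc
    (h₁ := h₁) (h₂ := h₂) (by rw [hphi]; exact hx) e₁ e₂ (by rw [hphi]; exact hxT)
  obtain ⟨d, hd⟩ := hSW.symm.inner_side hiS.symm
  set W1 := W.conj (W.φ d) with hW1
  have hN : NPair S1 W1 :=
    ⟨hSW.conj_right d, (conj_phi_z d).trans hWz,
      hd.trans (by rw [hW1, conj_phi, map_mul, map_mul, map_inv])⟩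
  have hWT : Pair W1 T := (hTW.conj_right d).symm
  have hiWT : Inner W1 T :=
    Inner.symm (show Inner T W1 by obtain ⟨n, hn⟩ := hiT; exact ⟨n, by rw [hW1, conj_phi_z]; exact hn⟩)
  obtain ⟨d', hd'⟩ := hWT.inner_side hiWT
  obtain ⟨p', hp', hp'v, hp'2, hp'4⟩ := exists_pre hp hN hpv hqv hb2 hb4
  have hq'v : d' * vv false * d'⁻¹ * vv false = vv false * (d' * vv false * d'⁻¹) :=
    hN.symm.comm_v_of_comm (by rw [← hd']; exact h1.comm)
  have hpq : p' * (d' * vv false * d'⁻¹) = d' * vv false * d'⁻¹ * p' := W1.inj (by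
    rw [map_mul W1.φ p', map_mul W1.φ _ p', hp', ← hd']
    exact ((hα1.fix_iff _).1 hbfix).symm)
  refine hi1 ?_
  suffices hy : ∃ y, T.z = S1.φ y by
    obtain ⟨y, hy⟩ := hy
    exact ⟨y, hy ▸ ind_phi y⟩
  have ev : W1.φ (vv false) = S1.φ (tt false) := hN.hS.symm
  have et : W1.φ (tt false) = S1.φ (vv false) := hN.hT
  rcases rank_fact hp'v hp'2 hp'4 hq'v (conjv_sq d') hpq with (e | e | e | e) | e | e | e | e <;>
    rw [hd', e]
  · exact ⟨1, by rw [map_one, map_one]⟩
  · exact ⟨_, et⟩
  · exact ⟨_, ev⟩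
  · exact ⟨_, by rw [map_mul, ev, et, ← map_mul]⟩
  · exact ⟨_, hp'⟩
  · exact ⟨_, by rw [map_mul, et, hp', ← map_mul]⟩
  · exact ⟨_, by rw [map_mul, ev, hp', ← map_mul]⟩
  · exact ⟨_, by rw [map_mul, map_mul, ev, et, hp', ← map_mul, ← map_mul]⟩

/-- Elements carrying the involution to a commuting one. -/
theorem conj_A2 (S : Base false G) {g : G}
    (hc : g * S.z * g⁻¹ * S.z = S.z * (g * S.z * g⁻¹)) : ∃ α ∈ A2, S.Ind (g * S.z * g⁻¹) α := by
  by_cases he : g * S.z * g⁻¹ = S.z
  · exact ⟨1, one_mem _, by rw [he]; exact ind_K S.z_mem_K⟩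
  · exact pair_A2 hp (pair_conj hc he)

/-- An outer conjugate, of O'Nan type. -/
theorem exists_outer_three (S : Base false G) :
    ∃ U, Pair S U ∧ ∃ m, S.Ind U.z (MulAut.conj m * auts false 3) := by
  obtain ⟨U, hU, hn⟩ := exists_outer hp S
  obtain ⟨α, ⟨m, rfl | rfl⟩, hα⟩ := pair_A2 hp hU
  · exact absurd ⟨m, hα⟩ hn
  · exact ⟨U, hU, m, hα⟩

variable [Finite G]

/-- The involutions of the centraliser inducing such automorphisms are conjugates. -/
theorem inv_conj_A2 (S : Base false G) {j : G} (j2 : j * j = 1) (j1 : j ≠ 1)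
    {α : MulAut (Mg false)} (hA : α ∈ A2) (hα : S.Ind j α) : ∃ g, j = g * S.z * g⁻¹ := by
  obtain ⟨m, rfl | rfl⟩ := hA
  · by_cases hm : m ∈ center (Mg false)
    · exact ⟨1, by rw [inv_K hp S (hα.congr (conj_central hm)).mem_K j2 j1]; group⟩
    obtain ⟨c, z₀, hz₀, rfl⟩ := sq_class (invol_inner_sq j2 hα) hm
    replace hα := hα.congr (conj_central_mul hz₀)
    have hu2 := conjv_sq c
    set u := c * vv false * c⁻¹ with hu
    have hcomm : j * S.φ u = S.φ u * j := (hα.fix_iff u).1 (by
      rw [MulAut.conj_apply, mul_inv_cancel_right])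
    have hphi2 : S.φ u * S.φ u = 1 := by rw [← map_mul, hu2, map_one]
    have hk : S.φ u * j ∈ S.K :=
      (((ind_phi u).mul hα).congr (by rw [← map_mul, hu2, map_one])).mem_K
    have k2 : S.φ u * j * (S.φ u * j) = 1 := by
      calc S.φ u * j * (S.φ u * j) = S.φ u * (j * S.φ u) * j := by group
        _ = S.φ u * S.φ u * (j * j) := by rw [hcomm]; group
        _ = 1 := by rw [hphi2, j2, mul_one]
    have hj : j = S.φ u * (S.φ u * j) := by rw [← mul_assoc, hphi2, one_mul]
    have key : ∀ u' : Mg false, u' * u' = 1 → u' ∉ center (Mg false) → ∃ g, S.φ u' = g * S.z * g⁻¹ :=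
      fun u' h1 h2 => by
        obtain ⟨W, hW, hWz⟩ := exists_cfg hp S h1 h2
        obtain ⟨g, hg⟩ := hW.z_eq
        exact ⟨g, hWz ▸ hg⟩
    by_cases k1 : S.φ u * j = 1
    · rw [hj, k1, mul_one]
      exact key u hu2 (conjv_nc c)
    · rw [inv_K hp S hk k2 k1, show S.φ u * S.z = S.φ (u * tt false) from (map_mul _ _ _).symm] at hj
      rw [hj]
      refine key _ ?_ fun hc => conjv_nc c ?_
      · calc u * tt false * (u * tt false) = u * (tt false * u) * tt false := by group
          _ = u * u * (tt false * tt false) := by rw [central_comm tt_mem_center u]; group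
          _ = 1 := by rw [hu2, tt_sq, mul_one]
      · have := mul_mem hc (inv_mem (tt_mem_center (b := false)))
        rwa [mul_inv_cancel_right] at this
  · obtain ⟨U, hU, m₀, hU0⟩ := exists_outer_three hp S
    obtain ⟨k₀, w₀, Θ, hw₀, hs₀, hΘ, hΘi⟩ := exists_lift U.z_sq (2 : Fin 3) (m := m₀) hU0
    obtain rfl : k₀ = 0 := by
      fin_cases k₀
      · rfl
      · exact absurd hs₀ (no_outer_21 rfl)
    obtain ⟨k₁, w, -, hw, hs, -, -⟩ := exists_lift j2 (2 : Fin 3) (m := m) hα
    obtain rfl : k₁ = 0 := by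
      fin_cases k₁
      · rfl
      · exact absurd hs (no_outer_21 rfl)
    -- the involution in the coset, up to the centraliser
    have he : (⟨w, true⟩ : Ext (DD false 2 0)) = Ext.inl (w * w₀⁻¹) * ⟨w₀, true⟩ := by
      rw [mul_out, inv_mul_cancel_right]
    have hI : S.Ind (Θ ⟨w, true⟩) (MulAut.conj m * auts false 3) := by
      rw [he, map_mul, hΘi, hΘ]
      refine ((ind_phi _).mul hU0).congr ?_
      rw [← hw₀, ← mul_assoc, ← map_mul, inv_mul_cancel_right, hw]
    have hK : (Θ ⟨w, true⟩)⁻¹ * j ∈ S.K :=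
      ((hI.inv.mul hα).congr (inv_mul_cancel _)).mem_K
    obtain ⟨X, hX, hXodd, hsplit⟩ := exists_X hp S
    obtain ⟨i, x, hxX, hix⟩ := hsplit _ hK
    obtain ⟨hxK, hxo⟩ := (hX x).1 hxX
    set e : Ext (DD false 2 0) := ⟨w, true⟩ * Ext.inl (zeta false ^ i) with hedef
    have hj : j = Θ e * x := by
      rw [hedef, map_mul, hΘi, mul_assoc, ← hix, mul_inv_cancel_left]
    have hxU : x ∈ U.K := (oddK_eq hp hU ▸ (hX x).1 hxX : x ∈ U.oddK).1
    have hxΘ : ∀ f, x * Θ f = Θ f * x := by
      rintro ⟨y, ef⟩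
      have hin : ∀ y, x * Θ (Ext.inl y) = Θ (Ext.inl y) * x := fun y => by
        rw [hΘi]; exact S.mem_K.1 hxK y
      cases ef
      · exact hin y
      · rw [show (⟨y, true⟩ : Ext (DD false 2 0)) = Ext.inl (y * w₀⁻¹) * ⟨w₀, true⟩ by
          rw [mul_out, inv_mul_cancel_right], map_mul, hΘ]
        exact ((show Commute x _ from hin _).mul_right (show Commute x U.z from U.K_comm_z hxU)).eq
    have hee : e * e = Ext.inl (e * e).a := Ext.ext rfl (by simp [Ext.mul_def, Ext.inl_apply])
    have hjj : S.φ (e * e).a * (x * x) = 1 := by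
      rw [← hΘi, ← hee, map_mul, ← j2, hj]
      calc Θ e * Θ e * (x * x) = Θ e * (Θ e * x) * x := by group
        _ = Θ e * (x * Θ e) * x := by rw [hxΘ e]
        _ = _ := by group
    set n := (e * e).a
    have hphin : S.φ n = (x * x)⁻¹ := eq_inv_of_mul_eq_one_left hjj
    have hnK : S.φ n ∈ S.K := hphin ▸ inv_mem (mul_mem hxK hxK)
    have hn4 : (S.φ n) ^ 4 = 1 := by
      obtain ⟨i', -, hi'⟩ := central_iff.1 (S.mem_phi_center hnK)
      rw [← map_pow, hi', ← pow_mul, mul_comm, pow_mul, zeta_pow_four, one_pow, map_one]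
    have hno : (S.φ n) ^ orderOf x = 1 := by
      rw [hphin, inv_pow, ← pow_two, ← pow_mul, mul_comm, pow_mul, pow_orderOf_eq_one, one_pow, inv_one]
    have hgcd : Nat.Coprime (orderOf x) 4 := (Nat.coprime_two_right.2 hxo).pow_right 2
    have hn1 := pow_gcd_eq_one.2 ⟨hno, hn4⟩
    rw [hgcd, pow_one] at hn1
    have hx1 : x = 1 := by
      rw [hn1, one_mul] at hjj
      have h2 : x ^ 2 = 1 := by rw [pow_two, hjj]
      have := pow_gcd_eq_one.2 ⟨pow_orderOf_eq_one x, h2⟩
      rwa [(Nat.coprime_two_right.2 hxo : Nat.gcd _ _ = 1), pow_one] at this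
    have he2 : e * e = 1 := by
      rw [hee]
      rw [← map_one S.φ] at hn1
      rw [show n = 1 from S.inj hn1, map_one]
    obtain ⟨c, hc⟩ := outer_conj_20 (s := ⟨w₀, true⟩) (s' := e) rfl hs₀
      (by simp [hedef, Ext.mul_def, Ext.inl_apply]) he2
    obtain ⟨g, hg⟩ := hU.rel.z_eq
    refine ⟨Θ c * g, ?_⟩
    rw [hj, hx1, mul_one, ← hc, map_mul, map_mul, map_inv, hΘ, hg]
    group

end Base

end Cfsg.Agent.StdON
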