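import Cfsg.Agent.StdON.Core

/-!
The odd part of the centraliser of the component, shared by commuting conjugates.
-/

set_option autoImplicit false
set_option maxHeartbeats 1000000
set_option linter.unusedSectionVars false

namespace Cfsg.Agent.StdON

open Cfsg.Agent ONUniq Subgroup

namespace Base

variable {b : Bool} {G : Type*} [Group G] {S T : Base b G}

/-- The elements of odd order centralising the component. -/
def oddK (S : Base b G) : Set G := {k | k ∈ S.K ∧ Odd (orderOf k)}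

theorem mem_oddK_conj {g k : G} : k ∈ (S.conj g).oddK ↔ g⁻¹ * k * g ∈ S.oddK := by
  have h : orderOf (g⁻¹ * k * g) = orderOf k := by
    rw [show g⁻¹ * k * g = MulAut.conj g⁻¹ k by simp]
    exact orderOf_injective (MulAut.conj g⁻¹).toMonoidHom (MulAut.conj g⁻¹).injective k
  simp only [oddK, Set.mem_ofPred_eq, mem_conj_K, h]

/-- Every configuration has a commuting conjugate. -/
def HasPairs (b : Bool) (G : Type*) [Group G] : Prop := ∀ S : Base b G, ∃ T, Pair S T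

variable (hp : HasPairs b G)
include hp

theorem exists_npair (S : Base b G) : ∃ c T, NPair (S.conj (S.φ c)) T ∧ S.Rel T := by
  obtain ⟨T, hT⟩ := hp S
  obtain ⟨U, hU, hi⟩ := hT.exists_inner
  obtain ⟨c, d, h⟩ := hU.normalise hi
  exact ⟨c, _, h, hU.rel.trans (rel_conj _ _)⟩

theorem cover_eq_false (S : Base b G) : b = false := by
  obtain ⟨c, T, h, -⟩ := exists_npair hp S
  exact h.cover_false

theorem inv_K (S : Base b G) {k : G} (hk : k ∈ S.K) (k2 : k * k = 1) (k1 : k ≠ 1) : k = S.z := by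
  obtain ⟨c, T, h, -⟩ := exists_npair hp S
  rw [← conj_phi_z c]
  exact h.inv_K (by rwa [conj_phi_K]) k2 k1

theorem two_part (S : Base b G) {n : ℕ} {k : G} (hk : k ∈ S.K) (hn : k ^ 2 ^ n = 1) :
    ∃ i : ℕ, k = S.a ^ i := by
  obtain ⟨c, T, h, -⟩ := exists_npair hp S
  rw [← conj_phi_a c]
  exact h.two_part (by rwa [conj_phi_K]) hn

/-- An outer commuting conjugate. -/
theorem exists_outer (S : Base b G) : ∃ U, Pair S U ∧ ¬ Inner S U := by
  obtain ⟨c, T, h, -⟩ := exists_npair hp S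
  obtain ⟨U, hU, hn⟩ := h.exists_outer
  refine ⟨U, ⟨(rel_conj _ _).trans hU.rel, conj_phi_z (S := S) c ▸ hU.comm,
    conj_phi_z (S := S) c ▸ hU.ne⟩, ?_⟩
  rintro ⟨n, hi⟩
  exact hn ⟨c⁻¹ * n * c, (hi.conj_phi c).congr (by rw [map_mul, map_mul])⟩

/-- Noncentral involutions of the component are conjugates of the central one. -/
theorem exists_cfg (S : Base b G) {u : Mg b} (hu : u * u = 1) (hc : u ∉ center (Mg b)) :
    ∃ W, S.Rel W ∧ W.z = S.φ u := by
  obtain ⟨c, T, h, hrel⟩ := exists_npair hp S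
  obtain ⟨d, rfl⟩ := invol_conjv hu hc
  refine ⟨T.conj (S.φ d * (S.φ c)⁻¹), hrel.trans (rel_conj _ _), ?_⟩
  rw [conj_z, h.hT, conj_phi, map_mul, map_mul, map_inv]
  group

variable [Finite G]

/-- The normal complement of the element of order four. -/
theorem exists_X (S : Base b G) : ∃ X : Subgroup G, (∀ k, k ∈ X ↔ k ∈ S.oddK) ∧ Odd (Nat.card X) ∧
    ∀ k ∈ S.K, ∃ (i : ℕ) (x : G), x ∈ X ∧ k = S.φ (zeta b ^ i) * x := by
  classical
  have : Fact (Nat.Prime 2) := ⟨Nat.prime_two⟩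
  obtain ⟨P⟩ : Nonempty (Sylow 2 S.K) := inferInstance
  have hPa : ∀ p : S.K, p ∈ (P : Subgroup S.K) → ∃ i : ℕ, (p : G) = S.φ (zeta b ^ i) := by
    intro p hp'
    obtain ⟨n, hn⟩ := P.isPGroup' ⟨p, hp'⟩
    obtain ⟨i, hi⟩ := two_part hp S p.2
      (congrArg (fun w : (P : Subgroup S.K) => ((w : S.K) : G)) hn)
    exact ⟨i, by rw [hi, a, map_pow]⟩
  have hPc : normalizer ((P : Subgroup S.K) : Set S.K) ≤ centralizer ((P : Subgroup S.K) : Set S.K) := by
    intro h _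
    refine mem_centralizer_iff.mpr fun p hp' => Subtype.ext ?_
    obtain ⟨i, hi⟩ := hPa p hp'
    show (p : G) * (h : G) = (h : G) * (p : G)
    rw [hi]
    exact (S.mem_K.1 h.2 _).symm
  obtain ⟨N, hNn, hcompl⟩ : ∃ N : Subgroup S.K, N.Normal ∧ IsComplement' N (P : Subgroup S.K) :=
    ⟨_, inferInstance, MonoidHom.ker_transferSylow_isComplement' P hPc⟩
  have hodd : Odd (Nat.card N) := by
    rw [Nat.odd_iff, ← Nat.two_dvd_ne_zero, ← hcompl.index_eq_card]
    exact P.not_dvd_index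
  have hNo : ∀ k : S.K, k ∈ N → Odd (orderOf (k : G)) := fun k hk => by
    rw [Subgroup.orderOf_coe]
    exact hodd.of_dvd_nat (Subgroup.orderOf_dvd_natCard N hk)
  refine ⟨N.map S.K.subtype, fun k => ⟨?_, ?_⟩, ?_, fun k hk => ?_⟩
  · rintro ⟨x, hx, rfl⟩
    exact ⟨x.2, hNo x hx⟩
  · rintro ⟨hk, ho⟩
    refine ⟨⟨k, hk⟩, ?_, rfl⟩
    obtain ⟨⟨n, p⟩, hnp⟩ := hcompl.2 ⟨k, hk⟩
    obtain ⟨i, hi⟩ := hPa p.1 p.2
    have hnp' : ((n : S.K) : G) * ((p : S.K) : G) = k := congrArg Subtype.val hnp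
    have hcom : Commute ((n : S.K) : G) (p : S.K) := by
      rw [hi]
      exact S.mem_K.1 (n : S.K).2 _
    have hp4 : ((p : S.K) : G) ^ 4 = 1 := by
      rw [hi, ← map_pow, ← pow_mul, mul_comm, pow_mul, zeta_pow_four, one_pow, map_one]
    have hoo : ((p : S.K) : G) ^ (orderOf ((n : S.K) : G) * orderOf k) = 1 := by
      have h1 : (((n : S.K) : G) * (p : S.K)) ^ (orderOf ((n : S.K) : G) * orderOf k) = 1 := by
        rw [hnp', mul_comm, pow_mul, pow_orderOf_eq_one, one_pow]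
      rwa [hcom.mul_pow, pow_mul ((n : S.K) : G), pow_orderOf_eq_one, one_pow, one_mul] at h1
    have hp1 : ((p : S.K) : G) = 1 := by
      have hgcd : Nat.Coprime (orderOf ((n : S.K) : G) * orderOf k) 4 :=
        (Nat.coprime_two_right.2 ((hNo _ n.2).mul ho)).pow_right 2
      have := pow_gcd_eq_one.2 ⟨hoo, hp4⟩
      rwa [hgcd, pow_one] at this
    have : (⟨k, hk⟩ : S.K) = n := Subtype.ext (hnp'.symm.trans (by rw [hp1, mul_one]))
    rw [this]
    exact n.2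
  · rwa [Subgroup.card_map_of_injective S.K.subtype_injective]
  · obtain ⟨⟨n, p⟩, hnp⟩ := hcompl.2 ⟨k, hk⟩
    obtain ⟨i, hi⟩ := hPa p.1 p.2
    have hnp' : ((n : S.K) : G) * ((p : S.K) : G) = k := congrArg Subtype.val hnp
    refine ⟨i, _, ⟨n, n.2, rfl⟩, ?_⟩
    rw [← hnp', hi]
    exact S.mem_K.1 (n : S.K).2 _

omit [Finite G] hp in
theorem inner_oddK_le (h : Pair S T) (hi : Inner S T) : S.oddK ⊆ T.oddK := by
  rintro k ⟨hk, ho⟩
  refine ⟨?_, ho⟩
  obtain ⟨c, hc⟩ := h.inner_side hi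
  obtain ⟨d, hd⟩ := h.symm.inner_side hi.symm
  obtain ⟨α, hα⟩ := Base.exists_ind (S := T) (h := k) (by rw [hc]; exact S.mem_K.1 hk _)
  have hfix : α (d * vv b * d⁻¹) = d * vv b * d⁻¹ := (hα.fix_iff _).2 (by rw [← hd]; exact S.K_comm_z hk)
  have hαn : α ^ orderOf k = 1 := (hα.pow _).eq (by rw [pow_orderOf_eq_one]; exact Ind.one)
  obtain ⟨j, hj⟩ := ho
  obtain ⟨m, hm⟩ := aut_sq_inner α
  have hαm : α = MulAut.conj (m ^ (j + 1)) := by
    rw [map_pow, ← hm, ← pow_two, ← pow_mul, show 2 * (j + 1) = orderOf k + 1 by omega, pow_succ,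
      hαn, one_mul]
  rw [hαm, MulAut.conj_apply, mul_inv_eq_iff_eq_mul] at hfix
  have h256 := pow256_of_comm hfix
  have hα256 : α ^ 256 = 1 := by rw [hαm, ← map_pow, h256, map_one]
  have hgcd : Nat.Coprime (orderOf k) 256 :=
    (Nat.coprime_two_right.2 ⟨j, hj⟩).pow_right 8
  have := pow_gcd_eq_one.2 ⟨hαn, hα256⟩
  rw [hgcd, pow_one] at this
  exact (hα.congr this).mem_K

omit [Finite G] hp in
theorem inner_oddK_eq (h : Pair S T) (hi : Inner S T) : S.oddK = T.oddK :=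
  (inner_oddK_le h hi).antisymm (inner_oddK_le h.symm hi.symm)

omit [Finite G] hp in
/-- The image of a product of squares is not central. -/
theorem sq_prod_nc (h : Pair S T) (hn : ¬ Inner S T) {x : Mg b} {h₁ h₂ : G} (hx2 : x * x = 1)
    (hx1 : x ≠ 1) (hx : h₁ * h₁ * (h₂ * h₂) = S.φ x) (e₁ : h₁ * T.z = T.z * h₁)
    (e₂ : h₂ * T.z = T.z * h₂) : x ∉ center (Mg b) := fun hc => by
  rcases central_invol hc hx2 with rfl | rfl
  · exact hx1 rfl
  · exact hn (Inner.symm (by obtain ⟨n, hn'⟩ := two_sq_inner e₁ e₂; exact ⟨n, by rw [show S.z = S.φ (tt b) from rfl, ← hx]; exact hn'⟩))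

omit [Finite G] in
/-- A conjugate inner to both members of an outer pair. -/
theorem exists_common (h : Pair S T) (hn : ¬ Inner S T) {x : Mg b} {h₁ h₂ : G} (hx2 : x * x = 1)
    (hc : x ∉ center (Mg b)) (hx : h₁ * h₁ * (h₂ * h₂) = S.φ x) (e₁ : h₁ * T.z = T.z * h₁)
    (e₂ : h₂ * T.z = T.z * h₂) (hxT : S.φ x * T.z = T.z * S.φ x) :
    ∃ W, W.z = S.φ x ∧ Pair S W ∧ Inner S W ∧ Pair T W ∧ Inner T W := by
  obtain ⟨W, hW, hWz⟩ := exists_cfg hp S hx2 hc
  refine ⟨W, hWz, ⟨hW, by rw [hWz]; exact S.phi_comm_z x, fun e => hc ?_⟩,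
    ⟨x, hWz ▸ ind_phi x⟩, ⟨h.rel.symm.trans hW, by rw [hWz]; exact hxT, fun e => hn ?_⟩, ?_⟩
  · rw [hWz] at e
    exact S.inj e ▸ tt_mem_center
  · exact ⟨x, by rw [← e, hWz]; exact ind_phi x⟩
  · obtain ⟨n, hn'⟩ := two_sq_inner e₁ e₂
    exact ⟨n, by rw [hWz, ← hx]; exact hn'⟩

omit [Finite G] in
/-- Commuting conjugates have the same odd part. -/
theorem oddK_eq (h : Pair S T) : S.oddK = T.oddK := by
  by_cases hi : Inner S T
  · exact inner_oddK_eq h hi
  obtain ⟨α, hα⟩ := h.exists_ind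
  obtain ⟨m, a', rfl⟩ := aut_class α
  have ha : a' ≠ 0 := by
    rintro rfl
    exact hi ⟨m, hα.congr (by rw [auts_zero, mul_one])⟩
  obtain ⟨a, rfl⟩ := auts_succ_of_ne ha
  obtain ⟨x, h₁, h₂, -, hx2, hx1, hx, -, -, -, e₁, e₂, -, hxT⟩ := outer_setup T.z_sq a hα
  obtain ⟨W, -, hSW, hiS, hTW, hiT⟩ :=
    exists_common hp h hi hx2 (sq_prod_nc h hi hx2 hx1 hx e₁ e₂) hx e₁ e₂ hxT
  rw [inner_oddK_eq hSW hiS, inner_oddK_eq hTW hiT]

omit [Finite G] in
/-- The elements moving the involution to a commuting one normalise the odd part. -/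
theorem oddK_stable (S : Base b G) {g : G}
    (hc : g * S.z * g⁻¹ * S.z = S.z * (g * S.z * g⁻¹)) (k : G) :
    k ∈ S.oddK ↔ g * k * g⁻¹ ∈ S.oddK := by
  by_cases he : g * S.z * g⁻¹ = S.z
  · have hg : g * S.z = S.z * g := mul_inv_eq_iff_eq_mul.1 he
    have ho : orderOf (g * k * g⁻¹) = orderOf k :=
      orderOf_injective (MulAut.conj g).toMonoidHom (MulAut.conj g).injective k
    simp only [oddK, Set.mem_ofPred_eq, ho]
    refine and_congr_left fun _ => ⟨conj_mem_K hg, fun h => ?_⟩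
    have := conj_mem_K ((show Commute g S.z from hg).inv_left).eq h
    rwa [show g⁻¹ * (g * k * g⁻¹) * g⁻¹⁻¹ = k by group] at this
  · conv_rhs => rw [oddK_eq hp (pair_conj hc he), mem_oddK_conj]
    group

end Base

end Cfsg.Agent.StdON
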