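import Cfsg.Agent.StdON.Base
import Cfsg.Agent.StdON.Facts

/-!
Commuting conjugates of the involution of a standard component 4.L3(4): an involution of the
centraliser of the component commuting with an inner conjugate is the central one, an inner
conjugate lies in the component, and there is always an inner conjugate.
-/

set_option autoImplicit false
set_option maxHeartbeats 1000000
set_option linter.unusedSectionVars false

namespace Cfsg.Agent.StdON

open Cfsg.Agent ONUniq Subgroup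

section Model

variable {b : Bool}

theorem conjv_sq (c : Mg b) : c * vv b * c⁻¹ * (c * vv b * c⁻¹) = 1 := by
  rw [show c * vv b * c⁻¹ * (c * vv b * c⁻¹) = c * (vv b * vv b) * c⁻¹ by group, v_sq]; group

theorem conjv_nc (c : Mg b) : c * vv b * c⁻¹ ∉ center (Mg b) := fun h => v_nc (by
  have h' := (inferInstance : (center (Mg b)).Normal).conj_mem _ h c⁻¹
  rwa [show c⁻¹ * (c * vv b * c⁻¹) * c⁻¹⁻¹ = vv b by group] at h')

theorem invol_conjv {u : Mg b} (h : u * u = 1) (hc : u ∉ center (Mg b)) :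
    ∃ c, u = c * vv b * c⁻¹ :=
  (invol_class h).resolve_left hc

theorem pow256_of_comm {c x : Mg b} (h : x * (c * vv b * c⁻¹) = c * vv b * c⁻¹ * x) :
    x ^ 256 = 1 := by
  have h1 : (c⁻¹ * x * c) ^ 256 = 1 := Cv_pow (by
    calc c⁻¹ * x * c * vv b = c⁻¹ * (x * (c * vv b * c⁻¹)) * c := by group
      _ = _ := by rw [h]; group)
  rw [show c⁻¹ * x * c = c⁻¹ * x * c⁻¹⁻¹ by rw [inv_inv], conj_pow, inv_inv] at h1
  calc x ^ 256 = c * (c⁻¹ * x ^ 256 * c) * c⁻¹ := by group
    _ = 1 := by rw [h1]; group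

theorem conj_central_mul {n z : Mg b} (hz : z ∈ center (Mg b)) :
    MulAut.conj (n * z) = MulAut.conj n := by
  rw [map_mul, conj_central hz, mul_one]

theorem auts_succ_of_ne {a : Fin 4} (ha : a ≠ 0) : ∃ a' : Fin 3, a = a'.succ :=
  (Fin.exists_succ_eq.2 ha).imp fun _ h => h.symm

end Model

namespace Base

variable {b : Bool} {G : Type*} [Group G] {S T : Base b G}

theorem conj_mem_K {h k : G} (hh : h * S.z = S.z * h) (hk : k ∈ S.K) : h * k * h⁻¹ ∈ S.K := by
  obtain ⟨α, hα⟩ := exists_ind hh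
  have := (hα.mul (ind_K hk)).mul hα.inv
  rw [mul_one, mul_inv_cancel] at this
  exact this.mem_K

theorem Ind.congr {h : G} {α β : MulAut (Mg b)} (h1 : S.Ind h α) (e : α = β) : S.Ind h β := e ▸ h1

theorem Pair.exists_ind (h : Pair S T) : ∃ α, S.Ind T.z α := Base.exists_ind h.comm

theorem ind_invol_sq {h : G} (h2 : h * h = 1) {α : MulAut (Mg b)} (hα : S.Ind h α) : α * α = 1 :=
  (hα.mul hα).eq (h2 ▸ Ind.one)

theorem invol_inner_sq {h : G} (h2 : h * h = 1) {n : Mg b} (hn : S.Ind h (MulAut.conj n)) :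
    n * n ∈ center (Mg b) :=
  conj_eq_one (by rw [map_mul]; exact ind_invol_sq h2 hn)

theorem sq_inner {h : G} (hh : h * S.z = S.z * h) : ∃ n, S.Ind (h * h) (MulAut.conj n) := by
  obtain ⟨α, hα⟩ := exists_ind hh
  obtain ⟨n, hn⟩ := aut_sq_inner α
  exact ⟨n, (hα.mul hα).congr hn⟩

theorem two_sq_inner {h₁ h₂ : G} (e₁ : h₁ * S.z = S.z * h₁) (e₂ : h₂ * S.z = S.z * h₂) :
    ∃ n, S.Ind (h₁ * h₁ * (h₂ * h₂)) (MulAut.conj n) := by
  obtain ⟨n₁, hn₁⟩ := sq_inner e₁
  obtain ⟨n₂, hn₂⟩ := sq_inner e₂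
  exact ⟨n₁ * n₂, (hn₁.mul hn₂).congr (map_mul _ _ _).symm⟩

/-- A conjugate commuting with the element of order four makes the pair inner. -/
theorem inner_of_comm_a (hc : T.z * S.a = S.a * T.z) : Inner T S := by
  obtain ⟨n, hn⟩ := sq_inner (S := T) hc.symm
  exact ⟨n, S.a_sq ▸ hn⟩

theorem Inner.comm_a (hi : Inner S T) : T.z * S.a = S.a * T.z := by
  obtain ⟨n, hn⟩ := hi
  refine (hn.fix_iff (zeta b)).1 ?_
  rw [MulAut.conj_apply, ← central_comm zeta_mem_center n, mul_inv_cancel_right]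

theorem Inner.symm (hi : Inner S T) : Inner T S := inner_of_comm_a hi.comm_a

/-- An involution of the centraliser commuting with an inner conjugate is the central one. -/
theorem Pair.key (h : Pair S T) (hi : Inner T S) {k : G} (hk : k ∈ S.K) (k2 : k * k = 1)
    (k1 : k ≠ 1) (kc : k * T.z = T.z * k) : k = S.z := by
  obtain ⟨α, hα⟩ := Base.exists_ind kc
  obtain ⟨n, hn⟩ := hi
  have hα2 := ind_invol_sq k2 hα
  have hC : ∀ m, α m = m → n * m = m * n := fun m hm => by
    have h1 := S.small k (S.mem_K.1 hk) k2 k1 (T.φ m) ((hα.fix_iff m).1 hm).symm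
    have h2 := (hn.fix_iff m).2 h1.symm
    rwa [MulAut.conj_apply, mul_inv_eq_iff_eq_mul] at h2
  have hnc : n ∉ center (Mg b) := fun hc => h.symm.not_mem_K (hn.congr (conj_central hc)).mem_K
  obtain ⟨c, z₀, hz₀, rfl⟩ := sq_class (invol_inner_sq S.z_sq hn) hnc
  replace hn := hn.congr (conj_central_mul hz₀)
  have hC' : ∀ m, α m = m → m * (c * vv b * c⁻¹) = c * vv b * c⁻¹ * m := fun m hm => by
    have := hC m hm
    rw [mul_assoc, central_comm hz₀ m, ← mul_assoc, ← mul_assoc] at this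
    exact (mul_right_cancel this).symm
  obtain ⟨m₀, a', rfl⟩ := aut_class α
  by_cases ha : a' = 0
  · subst ha
    rw [auts_zero, mul_one] at hα hα2 hC'
    have hm₀ : m₀ ∉ center (Mg b) := fun hc => conjv_nc c (mem_center_iff.2 fun m => hC' m (by
      rw [conj_central hc]; rfl))
    obtain ⟨d, z₁, hz₁, rfl⟩ := sq_class (conj_eq_one (by rwa [map_mul])) hm₀
    rw [conj_central_mul hz₁] at hα hC'
    set y := d⁻¹ * (c * vv b * c⁻¹) * d with hy
    have hyC : ∀ x, x * vv b = vv b * x → x * y = y * x := fun x hx => by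
      have := hC' (d * x * d⁻¹) (by
        rw [MulAut.conj_apply]
        calc d * vv b * d⁻¹ * (d * x * d⁻¹) * (d * vv b * d⁻¹)⁻¹
            = d * (vv b * x * (vv b)⁻¹) * d⁻¹ := by group
          _ = _ := by rw [← hx, mul_inv_cancel_right])
      calc x * y = d⁻¹ * (d * x * d⁻¹ * (c * vv b * c⁻¹)) * d := by rw [hy]; group
        _ = _ := by rw [this, hy]; group
    have hyu : c * vv b * c⁻¹ = d * y * d⁻¹ := by rw [hy]; group
    rcases cent_fact (hyC _ rfl).symm (fun u hu _ => (hyC u hu).symm) with h' | ⟨z₂, hz₂, h'⟩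
    · exfalso
      refine conjv_nc c ?_
      rw [hyu]
      exact (inferInstance : (center (Mg b)).Normal).conj_mem _ h' d
    · have he : c * vv b * c⁻¹ = d * vv b * d⁻¹ * z₂ := by
        rw [hyu, h', ← mul_assoc, mul_assoc, central_comm hz₂, ← mul_assoc]
      rw [he, conj_central_mul hz₂] at hn
      have hks : T.Ind (k * S.z) 1 := by
        refine (hα.mul hn).congr ?_
        rw [← map_mul, conjv_sq, map_one]
      by_contra hne
      have hne' : k * S.z ≠ 1 := fun e => hne (by rw [← S.z_inv]; exact eq_inv_of_mul_eq_one_left e)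
      have hksK : k * S.z ∈ S.K := mul_mem hk S.z_mem_K
      refine h.not_mem_K (S.mem_K.2 fun m => (T.small _ (T.mem_K.1 hks.mem_K) ?_ hne' (S.φ m)
        (S.mem_K.1 hksK m).symm).symm)
      calc k * S.z * (k * S.z) = k * (S.z * k) * S.z := by group
        _ = k * k * (S.z * S.z) := by rw [← S.K_comm_z hk]; group
        _ = 1 := by rw [k2, S.z_sq, mul_one]
  · exfalso
    obtain ⟨a, rfl⟩ := auts_succ_of_ne ha
    rw [conj_mul_auts_sq] at hα2
    obtain ⟨k', w, hw, hw2⟩ := outer_invol a (conj_eq_one hα2)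
    obtain ⟨-, -, -, -, m, -, -, -, -, -, -, hm, hm256⟩ := outer_wit a k' rfl hw2
    rw [mul_out, out_mul] at hm
    exact hm256 (pow256_of_comm (hC' m (by rw [← hw]; exact (mul_right_cancel (congrArg Ext.a hm)).symm)))

/-- An inner conjugate lies in the component. -/
theorem Pair.inner_side (h : Pair S T) (hi : Inner S T) :
    ∃ c, T.z = S.φ (c * vv b * c⁻¹) := by
  have hi' := hi.symm
  obtain ⟨n, hn⟩ := hi
  have hnc : n ∉ center (Mg b) := fun hc => h.not_mem_K (hn.congr (conj_central hc)).mem_K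
  obtain ⟨c, z₀, hz₀, rfl⟩ := sq_class (invol_inner_sq T.z_sq hn) hnc
  replace hn := hn.congr (conj_central_mul hz₀)
  have hu2 := conjv_sq c
  set u := c * vv b * c⁻¹ with hu
  have hcomm : T.z * S.φ u = S.φ u * T.z := (hn.fix_iff u).1 (by
    rw [MulAut.conj_apply, mul_inv_cancel_right])
  have hk : S.φ u * T.z ∈ S.K :=
    (((ind_phi u).mul hn).congr (by rw [← map_mul, hu2, map_one])).mem_K
  have hphi2 : S.φ u * S.φ u = 1 := by rw [← map_mul, hu2, map_one]
  have k2 : S.φ u * T.z * (S.φ u * T.z) = 1 := by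
    calc S.φ u * T.z * (S.φ u * T.z) = S.φ u * (T.z * S.φ u) * T.z := by group
      _ = S.φ u * S.φ u * (T.z * T.z) := by rw [hcomm]; group
      _ = 1 := by rw [hphi2, T.z_sq, mul_one]
  have hTz : T.z = S.φ u * (S.φ u * T.z) := by rw [← mul_assoc, hphi2, one_mul]
  by_cases k1 : S.φ u * T.z = 1
  · exact ⟨c, by rw [hTz, k1, mul_one]⟩
  · have hkz := h.key hi' hk k2 k1 (by rw [mul_assoc, T.z_sq, ← mul_assoc, hcomm, mul_assoc, T.z_sq])
    rw [hkz, show S.φ u * S.z = S.φ (u * tt b) from (map_mul _ _ _).symm] at hTz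
    obtain ⟨d, hd⟩ := invol_conjv (u := u * tt b)
      (by
        calc u * tt b * (u * tt b) = u * (tt b * u) * tt b := by group
          _ = u * u * (tt b * tt b) := by rw [central_comm tt_mem_center u]; group
          _ = 1 := by rw [hu2, tt_sq, mul_one])
      (fun hc => conjv_nc c (by
        have := mul_mem hc (inv_mem (tt_mem_center (b := b)))
        rwa [mul_inv_cancel_right] at this))
    exact ⟨d, by rw [hTz, hd]⟩

/-- An involution inducing an outer automorphism, as the image of one of an extension. -/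
theorem exists_lift {h : G} (h2 : h * h = 1) (a : Fin 3) {m : Mg b}
    (hh : S.Ind h (MulAut.conj m * auts b a.succ)) :
    ∃ (k : Fin 2) (w : Mg b) (Θ : Ext (DD b a k) →* G), MulAut.conj w = MulAut.conj m ∧
      (⟨w, true⟩ : Ext (DD b a k)) * ⟨w, true⟩ = 1 ∧ Θ ⟨w, true⟩ = h ∧
      ∀ y, Θ (Ext.inl y) = S.φ y := by
  have hsq := ind_invol_sq h2 hh
  rw [conj_mul_auts_sq] at hsq
  obtain ⟨k, w, hw, hw2⟩ := outer_invol a (conj_eq_one hsq)
  rw [← hw] at hh
  have hhinv : h⁻¹ = h := inv_eq_of_mul_eq_one_right h2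
  have hcc : ∀ y, (S.φ w)⁻¹ * h * S.φ y * ((S.φ w)⁻¹ * h)⁻¹ = S.φ ((DD b a k).σ y) := fun y => by
    rw [show (S.φ w)⁻¹ * h * S.φ y * ((S.φ w)⁻¹ * h)⁻¹ = (S.φ w)⁻¹ * (h * S.φ y * h⁻¹) * S.φ w by group,
      hh, ← map_inv, ← map_mul, ← map_mul, MulAut.mul_apply, MulAut.conj_apply, DD_sigma]
    group
  have hz : (S.φ w)⁻¹ * h * ((S.φ w)⁻¹ * h) = S.φ (DD b a k).z := by
    have e := congrArg Ext.a hw2
    simp only [Ext.mul_def, Ext.one_def, cond_true, Bool.and_self, DD_sigma] at e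
    rw [show (S.φ w)⁻¹ * h * ((S.φ w)⁻¹ * h) = (S.φ w)⁻¹ * (h * (S.φ w)⁻¹ * h) by group,
      ← map_inv, show h * S.φ w⁻¹ * h = h * S.φ w⁻¹ * h⁻¹ by rw [hhinv], hh, ← map_mul,
      MulAut.mul_apply, MulAut.conj_apply, map_inv (auts b a.succ), eq_inv_of_mul_eq_one_right e]
    congr 1
    group
  refine ⟨k, w, Ext.lift (DD b a k) S.φ ((S.φ w)⁻¹ * h) hcc hz, hw, hw2, ?_, fun y => ?_⟩
  · show S.φ w * cond true ((S.φ w)⁻¹ * h) 1 = h
    rw [cond_true, mul_inv_cancel_left]
  · show S.φ y * cond false _ 1 = S.φ y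
    rw [cond_false, mul_one]

/-- What the fusion uses of an outer involution: a product of squares in the centraliser moving it. -/
theorem outer_setup {h : G} (h2 : h * h = 1) (a : Fin 3) {m : Mg b}
    (hh : S.Ind h (MulAut.conj m * auts b a.succ)) :
    ∃ (x : Mg b) (h₁ h₂ c : G), x * x = 1 ∧ x ≠ 1 ∧ h₁ * h₁ * (h₂ * h₂) = S.φ x ∧
      h₁ * S.z = S.z * h₁ ∧ h₂ * S.z = S.z * h₂ ∧ c * S.z = S.z * c ∧
      h₁ * h = h * h₁ ∧ h₂ * h = h * h₂ ∧ c * h * c⁻¹ = S.φ x * h ∧ S.φ x * h = h * S.φ x := by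
  obtain ⟨k, w, Θ, -, hw2, hΘ, hΘi⟩ := exists_lift h2 a hh
  obtain ⟨e₁, e₂, c, x, -, c₁, c₂, hx, hx2, hx1, hc, -, -⟩ := outer_wit a k rfl hw2
  have hz : ∀ e, Θ e * S.z = S.z * Θ e := fun e => by
    rw [Base.z, ← hΘi, ← map_mul, ← map_mul]
    exact congrArg Θ (tX_comm e)
  have hh₁ := congrArg Θ c₁
  have hh₂ := congrArg Θ c₂
  rw [map_mul, map_mul, hΘ] at hh₁ hh₂
  refine ⟨x, Θ e₁, Θ e₂, Θ c, hx2, hx1, ?_, hz _, hz _, hz _, hh₁, hh₂, ?_, ?_⟩
  · rw [← map_mul, ← map_mul, ← map_mul, hx, hΘi]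
  · have := congrArg Θ hc
    rwa [map_mul, map_mul, map_inv, hΘ, map_mul, hΘi, hΘ] at this
  · rw [← hΘi x, ← hx, map_mul, map_mul, map_mul]
    exact (((show Commute (Θ e₁) h from hh₁).mul_left hh₁).mul_left
      ((show Commute (Θ e₂) h from hh₂).mul_left hh₂)).eq

/-- There is an inner conjugate as soon as there is a commuting one. -/
theorem Pair.exists_inner (h : Pair S T) : ∃ U, Pair S U ∧ Inner S U := by
  obtain ⟨α, hα⟩ := h.exists_ind
  obtain ⟨m, a', rfl⟩ := aut_class α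
  by_cases ha : a' = 0
  · subst ha
    exact ⟨T, h, m, hα.congr (by rw [auts_zero, mul_one])⟩
  obtain ⟨a, rfl⟩ := auts_succ_of_ne ha
  obtain ⟨x, h₁, h₂, c, hx2, hx1, hx, -, -, -, c₁, c₂, hc, hxh⟩ := outer_setup T.z_sq a hα
  have hpU : Pair T (T.conj c) := by
    refine pair_conj ?_ ?_
    · rw [hc]
      calc S.φ x * T.z * T.z = T.z * S.φ x * T.z := by rw [hxh]
        _ = _ := by group
    · rw [hc]
      exact fun e => hx1 (S.inj ((mul_eq_right.1 e).trans (map_one _).symm))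
  obtain ⟨n, hn⟩ := two_sq_inner (S := T) c₁ c₂
  have hiU : T.Ind (T.conj c).z (MulAut.conj n) := by
    rw [conj_z, hc, ← hx]
    exact (hn.mul (ind_K T.z_mem_K)).congr (mul_one _)
  obtain ⟨g, hg⟩ := h.rel
  have hzg : T.z = g * S.z * g⁻¹ := hg _
  refine ⟨(T.conj c).conj g⁻¹, ⟨h.rel.trans (hpU.rel.trans (rel_conj _ _)), ?_, ?_⟩, n, fun y => ?_⟩
  · have := hpU.comm
    rw [hzg] at this
    rw [conj_z]
    calc g⁻¹ * (T.conj c).z * g⁻¹⁻¹ * S.z = g⁻¹ * ((T.conj c).z * (g * S.z * g⁻¹)) * g := by group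
      _ = _ := by rw [this]; group
  · intro e
    refine hpU.ne ?_
    rw [hzg, ← e, conj_z (T.conj c)]
    group
  · have := hiU y
    rw [hg, hg] at this
    rw [conj_z (T.conj c)]
    calc g⁻¹ * (T.conj c).z * g⁻¹⁻¹ * S.φ y * (g⁻¹ * (T.conj c).z * g⁻¹⁻¹)⁻¹
        = g⁻¹ * ((T.conj c).z * (g * S.φ y * g⁻¹) * (T.conj c).z⁻¹) * g := by group
      _ = _ := by rw [this]; group

theorem conj_phi_z (c : Mg b) : (S.conj (S.φ c)).z = S.z := by
  rw [conj_z, S.phi_comm_z, mul_inv_cancel_right]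

theorem conj_phi_a (c : Mg b) : (S.conj (S.φ c)).a = S.a := by
  rw [a, conj_phi, ← map_mul, ← map_inv, ← map_mul, ← central_comm zeta_mem_center c,
    mul_inv_cancel_right]
  rfl

theorem conj_phi_K (c : Mg b) : (S.conj (S.φ c)).K = S.K := by
  ext k
  rw [mem_conj_K]
  have hc : S.φ c * S.z = S.z * S.φ c := S.phi_comm_z c
  have hc' : (S.φ c)⁻¹ * S.z = S.z * (S.φ c)⁻¹ := ((show Commute _ _ from hc).inv_left).eq
  refine ⟨fun h => ?_, fun h => ?_⟩
  · have := conj_mem_K hc h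
    rwa [show S.φ c * ((S.φ c)⁻¹ * k * S.φ c) * (S.φ c)⁻¹ = k by group] at this
  · have := conj_mem_K hc' h
    rwa [inv_inv] at this

theorem Ind.conj_phi {h : G} {α : MulAut (Mg b)} (hα : S.Ind h α) (c : Mg b) :
    (S.conj (S.φ c)).Ind h (MulAut.conj c⁻¹ * α * MulAut.conj c) := fun m => by
  simp only [Base.conj_phi, ← map_inv, ← map_mul]
  rw [hα]
  congr 1
  simp only [MulAut.mul_apply, MulAut.conj_apply]
  group

theorem Pair.conj_left (h : Pair S T) (c : Mg b) : Pair (S.conj (S.φ c)) T :=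
  ⟨(rel_conj _ _).symm.trans h.rel, by rw [conj_phi_z]; exact h.comm, by rw [conj_phi_z]; exact h.ne⟩

theorem Pair.conj_right (h : Pair S T) (c : Mg b) : Pair S (T.conj (T.φ c)) :=
  (h.symm.conj_left c).symm

end Base

/-- A pair of commuting conjugates, each the standard inner involution of the other. -/
structure NPair {b : Bool} {G : Type*} [Group G] (S T : Base b G) : Prop where
  pair : Base.Pair S T
  hT : T.z = S.φ (vv b)
  hS : S.z = T.φ (vv b)

namespace Base

variable {b : Bool} {G : Type*} [Group G] {S T : Base b G}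

/-- An inner pair, normalised. -/
theorem Pair.normalise (h : Pair S T) (hi : Inner S T) :
    ∃ c d, NPair (S.conj (S.φ c)) (T.conj (T.φ d)) := by
  obtain ⟨c, hc⟩ := h.inner_side hi
  obtain ⟨d, hd⟩ := h.symm.inner_side hi.symm
  refine ⟨c, d, (h.conj_left c).conj_right d, ?_, ?_⟩
  · rw [conj_phi_z, hc, conj_phi, map_mul, map_mul, map_inv]
  · rw [conj_phi_z, hd, conj_phi, map_mul, map_mul, map_inv]

end Base

end Cfsg.Agent.StdON
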