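import Cfsg.Agent.StdON.FinalDef
import Cfsg.Agent.StdON.Cover
import Cfsg.Agent.ONUniq.Recognize

/-!
The normaliser of the odd part modulo that part: one class of involutions, the centraliser of an
involution is that of O'Nan's group and the quotient is simple, so it is O'Nan's group.
-/

set_option autoImplicit false
set_option maxHeartbeats 1000000
set_option linter.unusedSectionVars false
set_option linter.style.haveILetI false

namespace Cfsg.Agent.StdON

open Cfsg.Agent ONUniq Compute Subgroup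
open scoped commutatorElement

attribute [local irreducible] compCode idCode canonC powC SLMult.L34.codes SLMult.L34.centPairs
  DataL.dperm DataL.dwords DataA.chain DataA.gs DataA.gis DataA.zeta DataA.mask DataA.sig
  DataB.chain DataB.gs DataB.gis DataB.zeta DataB.mask DataB.sig

namespace Base

variable {G : Type*} [Group G] {S : Base false G}

theorem ind_three_not_inner {h : G} {m : Mg false} (hh : S.Ind h (MulAut.conj m * auts false 3))
    (n : Mg false) : ¬ S.Ind h (MulAut.conj n) := fun hn => by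
  refine auts_not_inner (b := false) (2 : Fin 3) (m⁻¹ * n) ?_
  rw [map_mul, map_inv, ← hh.eq hn, inv_mul_cancel_left]
  rfl

end Base

namespace FinalData

variable {G : Type*} [Group G] [Finite G] {S : Base false G} (d : FinalData S)

theorem eq_one_of_sq {x : G} (hx : x ∈ d.X) (h2 : x * x = 1) : x = 1 := by
  have h : x ^ Nat.card d.X = 1 := congrArg Subtype.val (pow_card_eq_one' (x := (⟨x, hx⟩ : d.X)))
  obtain ⟨k, hk⟩ := d.X_odd
  rwa [hk, pow_succ, pow_mul, pow_two, h2, one_pow, one_mul] at h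

theorem z_notMem : S.z ∉ d.X := fun h => S.z_ne_one (d.eq_one_of_sq h S.z_sq)

theorem X_comm_z {x : G} (hx : x ∈ d.X) : x * S.z = S.z * x := S.K_comm_z (d.X_le hx)

/-- The component meets the odd part trivially. -/
theorem phi_mem {m : Mg false} (hm : S.φ m ∈ d.X) : m = 1 := by
  obtain ⟨i, -, rfl⟩ := central_iff.1 (S.mem_phi_center (d.X_le hm))
  have h1 : S.φ (zeta false ^ i) ^ Nat.card d.X = 1 :=
    congrArg Subtype.val (pow_card_eq_one' (x := (⟨_, hm⟩ : d.X)))
  have h4 : S.φ (zeta false ^ i) ^ 4 = 1 := by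
    rw [← map_pow, ← pow_mul, mul_comm, pow_mul, zeta_pow_four, one_pow, map_one]
  have hco : Nat.gcd (Nat.card d.X) 4 = 1 := by
    have : Nat.Coprime (2 ^ 2) (Nat.card d.X) := Nat.Coprime.pow_left 2 (Nat.coprime_two_left.2 d.X_odd)
    exact Nat.Coprime.symm this
  have h := (pow_gcd_eq_one (a := S.φ (zeta false ^ i))).2 ⟨h1, h4⟩
  rw [hco, pow_one] at h
  exact (map_eq_one_iff _ S.inj).1 h

/-- An element of the centraliser commuting with the component modulo the odd part commutes with it. -/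
theorem comm_of_mem {h : G} (hh : h * S.z = S.z * h) {m : Mg false}
    (hX : h * S.φ m * h⁻¹ * (S.φ m)⁻¹ ∈ d.X) : h * S.φ m = S.φ m * h := by
  obtain ⟨n, hn⟩ := S.norm h hh m
  rw [hn, ← map_inv, ← map_mul] at hX
  have := d.phi_mem hX
  rw [mul_inv_eq_one] at this
  rw [this] at hn
  exact mul_inv_eq_iff_eq_mul.1 hn

theorem split_inner {h : G} {m : Mg false} (hh : S.Ind h (MulAut.conj m)) :
    ∃ n : Mg false, (S.φ n)⁻¹ * h ∈ d.X := by
  have hk : (S.φ m)⁻¹ * h ∈ S.K := Base.Ind.mem_K (S := S) (by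
    have := (S.ind_phi m).inv.mul hh
    rwa [inv_mul_cancel] at this)
  obtain ⟨i, x, hx, he⟩ := d.K_split _ hk
  refine ⟨m * zeta false ^ i, ?_⟩
  rw [map_mul, mul_inv_rev, mul_assoc, he, inv_mul_cancel_left]
  exact hx

theorem cent_le : centralizer ({S.z} : Set G) ≤ normalizer (d.X : Set G) := fun g hg =>
  d.X_pair g (by rw [mul_inv_eq_iff_eq_mul.2 (mem_centralizer_singleton_iff.1 hg)])

/-- One class of involutions. -/
theorem hall {t : G} (ht : t ∈ normalizer (d.X : Set G)) (t2 : t * t = 1) (t1 : t ≠ 1) :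
    ∃ n ∈ normalizer (d.X : Set G), n * S.z * n⁻¹ = t := by
  classical
  haveI : Fact (Nat.Prime 2) := ⟨Nat.prime_two⟩
  set C := centralizer ({S.z} : Set G) with hC
  set N := normalizer (d.X : Set G) with hN
  let tN : N := ⟨t, ht⟩
  have hp : IsPGroup 2 (zpowers tN) := IsPGroup.of_card (n := 1) (by
    rw [Nat.card_zpowers, pow_one]
    exact orderOf_eq_prime (by rw [pow_two]; exact Subtype.ext t2) fun e => t1 (congrArg Subtype.val e))
  have hodd : ¬ 2 ∣ Nat.card (N ⧸ C.subgroupOf N) := fun h =>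
    d.odd_index (h.trans (by
      rw [← index_eq_card]
      exact Subgroup.relIndex_dvd_index_of_le d.cent_le))
  obtain ⟨x, hx⟩ : (MulAction.fixedPoints (zpowers tN) (N ⧸ C.subgroupOf N)).Nonempty :=
    hp.nonempty_fixed_point_of_prime_not_dvd_card _ hodd
  obtain ⟨n, rfl⟩ := QuotientGroup.mk_surjective x
  have h' : (QuotientGroup.mk (tN * n) : N ⧸ C.subgroupOf N) = QuotientGroup.mk n :=
    hx ⟨tN, mem_zpowers _⟩
  have hj : (n : G)⁻¹ * t * n ∈ C := by
    have e := mem_subgroupOf.1 (QuotientGroup.eq.1 h'.symm)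
    simp only [Subgroup.coe_mul, Subgroup.coe_inv, tN] at e
    rwa [← mul_assoc] at e
  have hjc : (n : G)⁻¹ * t * n * S.z = S.z * ((n : G)⁻¹ * t * n) := mem_centralizer_singleton_iff.1 hj
  obtain ⟨g, hg⟩ := d.inv_conj ((n : G)⁻¹ * t * n)
    (by rw [show (n : G)⁻¹ * t * n * ((n : G)⁻¹ * t * n) = (n : G)⁻¹ * (t * t) * n by group, t2]; group)
    (fun e => t1 (by rw [show t = n * ((n : G)⁻¹ * t * n) * (n : G)⁻¹ by group, e]; group)) hjc
  refine ⟨n * g, mul_mem n.2 (d.X_pair g ?_), ?_⟩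
  · rw [← hg]; exact hjc
  · rw [show (n : G) * g * S.z * ((n : G) * g)⁻¹ = n * (g * S.z * g⁻¹) * (n : G)⁻¹ by group, ← hg]; group

/-- The normaliser of the odd part. -/
abbrev N : Subgroup G := normalizer (d.X : Set G)

instance normal_X : (d.X.subgroupOf d.N).Normal :=
  Subgroup.normal_subgroupOf_iff_le_normalizer le_normalizer |>.2 le_rfl

/-- The quotient. -/
abbrev Q := d.N ⧸ d.X.subgroupOf d.N

/-- The projection. -/
def q : d.N →* d.Q := QuotientGroup.mk' _

theorem q_surjective : Function.Surjective d.q := QuotientGroup.mk'_surjective _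

theorem q_one {n : d.N} : d.q n = 1 ↔ (n : G) ∈ d.X := by
  rw [q, QuotientGroup.mk'_apply, QuotientGroup.eq_one_iff, mem_subgroupOf]

theorem q_eq {n n' : d.N} : d.q n = d.q n' ↔ (n : G)⁻¹ * n' ∈ d.X := by
  rw [q, QuotientGroup.mk'_apply, QuotientGroup.mk'_apply, QuotientGroup.eq, mem_subgroupOf]
  rfl

/-- The involution in the normaliser. -/
noncomputable def zN : d.N := ⟨S.z, d.cent_le (mem_centralizer_singleton_iff.2 rfl)⟩

/-- The image of the involution. -/
noncomputable def qz : d.Q := d.q d.zN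

theorem qz_sq : d.qz * d.qz = 1 := by
  rw [qz, ← map_mul, show d.zN * d.zN = 1 from Subtype.ext S.z_sq, map_one]

theorem qz_ne : d.qz ≠ 1 := fun h => d.z_notMem (d.q_one.1 h)

theorem orderOf_qz : orderOf d.qz = 2 := orderOf_eq_prime (by rw [pow_two, d.qz_sq]) d.qz_ne

theorem comm_qz {n : d.N} : d.q n * d.qz = d.qz * d.q n ↔ (n : G) * S.z = S.z * n := by
  refine ⟨fun hc => ?_, fun h => ?_⟩
  · have e : d.q (d.zN * (n * d.zN * n⁻¹)) = 1 := by
      rw [map_mul, map_mul, map_mul, ← qz, hc, map_inv, mul_inv_cancel_right, d.qz_sq]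
    have hmem : S.z * ((n : G) * S.z * (n : G)⁻¹) ∈ d.X := d.q_one.1 e
    set x := S.z * ((n : G) * S.z * (n : G)⁻¹) with hx
    have hxz := d.X_comm_z hmem
    have e1 : S.z * x = (n : G) * S.z * (n : G)⁻¹ := by rw [hx, ← mul_assoc, S.z_sq, one_mul]
    have h1 : x = 1 := d.eq_one_of_sq hmem (by
      calc x * x = x * (S.z * S.z) * x := by rw [S.z_sq, mul_one]
        _ = (x * S.z) * (S.z * x) := by group
        _ = (S.z * x) * (S.z * x) := by rw [hxz]
        _ = (n : G) * (S.z * S.z) * (n : G)⁻¹ := by rw [e1]; group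
        _ = 1 := by rw [S.z_sq]; group)
    rw [h1, mul_one] at e1
    exact mul_inv_eq_iff_eq_mul.1 e1.symm
  · rw [qz, ← map_mul, ← map_mul]
    exact congrArg d.q (Subtype.ext h)

/-- The centraliser in the quotient. -/
abbrev C : Subgroup d.Q := centralizer ({d.qz} : Set d.Q)

/-- The component in the normaliser. -/
noncomputable def φN : Mg false →* d.N :=
  S.φ.codRestrict d.N fun m => d.cent_le (mem_centralizer_singleton_iff.2 (S.phi_comm_z m))

/-- The component in the centraliser of the quotient. -/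
noncomputable def r : Mg false →* d.C :=
  (d.q.comp d.φN).codRestrict d.C fun m => mem_centralizer_singleton_iff.2 (d.comm_qz.2 (S.phi_comm_z m))

theorem r_val (m : Mg false) : (d.r m : d.Q) = d.q (d.φN m) := rfl

theorem r_injective : Function.Injective d.r := (injective_iff_map_eq_one d.r).2 fun _ hm =>
  d.phi_mem (d.q_one.1 (congrArg Subtype.val hm))

theorem mem_range_r {n : d.N} (hn : d.q n ∈ d.C) :
    (⟨d.q n, hn⟩ : d.C) ∈ d.r.range ↔ ∃ m, S.Ind n (MulAut.conj m) := by
  constructor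
  · rintro ⟨m, hm⟩
    have h := d.q_eq.1 (congrArg Subtype.val hm)
    refine ⟨m, ?_⟩
    have e := (S.ind_phi m).mul (Base.ind_K (d.X_le h))
    rw [mul_one] at e
    rw [← show S.φ m * ((S.φ m)⁻¹ * n) = (n : G) from mul_inv_cancel_left _ _]
    exact e
  · rintro ⟨m, hm⟩
    obtain ⟨k, hk⟩ := d.split_inner hm
    exact ⟨k, Subtype.ext (d.q_eq.2 hk)⟩

/-- The outer element of the centraliser. -/
theorem exists_y : ∃ y g : d.N, (y : G) = g * S.z * (g : G)⁻¹ ∧ (y : G) * S.z = S.z * y ∧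
    ∃ m, S.Ind y (MulAut.conj m * auts false 3) := by
  obtain ⟨g, hc, m, hm⟩ := d.outer
  exact ⟨⟨_, d.cent_le (mem_centralizer_singleton_iff.2 hc)⟩, ⟨g, d.X_pair g hc⟩, rfl, hc, m, hm⟩

theorem index_range : d.r.range.index = 2 := by
  obtain ⟨y, g, -, hc, m, hm⟩ := d.exists_y
  refine Subgroup.index_eq_two_iff.2 ⟨⟨d.q y, mem_centralizer_singleton_iff.2 (d.comm_qz.2 hc)⟩, fun w => ?_⟩
  obtain ⟨w, hw⟩ := w
  obtain ⟨n, rfl⟩ := d.q_surjective w
  have hn : (n : G) * S.z = S.z * n := d.comm_qz.1 (mem_centralizer_singleton_iff.1 hw)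
  have hny : d.q (n * y) ∈ d.C := mem_centralizer_singleton_iff.2 (d.comm_qz.2 (by
    rw [Subgroup.coe_mul]; exact ((show Commute (n : G) S.z from hn).mul_left hc).eq))
  have e1 : ((⟨d.q n, hw⟩ : d.C) * ⟨d.q y, mem_centralizer_singleton_iff.2 (d.comm_qz.2 hc)⟩) =
      ⟨d.q (n * y), hny⟩ := Subtype.ext (map_mul d.q n y).symm
  rw [e1, d.mem_range_r, d.mem_range_r]
  obtain ⟨α, hA, hα⟩ := d.M_class n hn
  obtain ⟨k, rfl | rfl⟩ := hA
  · refine Or.inr ⟨⟨k, hα⟩, ?_⟩
    rintro ⟨l, hl⟩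
    have e := hα.mul hm
    rw [← mul_assoc, ← map_mul, ← Subgroup.coe_mul] at e
    exact Base.ind_three_not_inner e l hl
  · refine Or.inl ⟨⟨k * auts false 3 m, ?_⟩, fun ⟨l, hl⟩ => Base.ind_three_not_inner hα l hl⟩
    have e := hα.mul hm
    rw [show MulAut.conj k * auts false 3 * (MulAut.conj m * auts false 3) =
      MulAut.conj (k * auts false 3 m) from MulEquiv.ext fun x => by
        simp only [MulAut.mul_apply, MulAut.conj_apply, map_mul, map_inv, auts_invol, mul_inv_rev,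
          mul_assoc], ← Subgroup.coe_mul] at e
    exact e

theorem centralizer_range : centralizer (d.r.range : Set d.C) ≤ d.r.range := by
  rintro ⟨w, hw⟩ h
  obtain ⟨n, rfl⟩ := d.q_surjective w
  have hn : (n : G) * S.z = S.z * n := d.comm_qz.1 (mem_centralizer_singleton_iff.1 hw)
  refine (d.mem_range_r hw).2 ⟨1, ?_⟩
  rw [map_one]
  refine Base.ind_K (S.mem_K.2 fun m => d.comm_of_mem hn ?_)
  have e : d.q (d.φN m) * d.q n = d.q n * d.q (d.φN m) :=
    congrArg Subtype.val (mem_centralizer_iff.1 h _ ⟨m, rfl⟩)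
  have e' : d.q (n * d.φN m * n⁻¹ * (d.φN m)⁻¹) = 1 := by
    rw [map_mul, map_mul, map_mul, ← e, map_inv, map_inv]; group
  exact d.q_one.1 e'

theorem comm_phi {n : d.N} (hn : (n : G) * S.z = S.z * n) {m : Mg false}
    (h : d.q n * d.q (d.φN m) = d.q (d.φN m) * d.q n) : (n : G) * S.φ m = S.φ m * n := by
  refine d.comm_of_mem hn ?_
  have e' : d.q (n * d.φN m * n⁻¹ * (d.φN m)⁻¹) = 1 := by
    rw [map_mul, map_mul, map_mul, h, map_inv, map_inv]; group
  exact d.q_one.1 e'

theorem lift_invol {w : d.Q} (h2 : w * w = 1) : ∃ n : d.N, n * n = 1 ∧ d.q n = w := by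
  obtain ⟨n, rfl⟩ := d.q_surjective w
  rw [← map_mul] at h2
  have hmem := d.q_one.1 h2
  obtain ⟨k, hk⟩ := d.X_odd
  refine ⟨n ^ Nat.card d.X, ?_, ?_⟩
  · rw [← (Commute.refl n).mul_pow]
    refine Subtype.ext ?_
    rw [Subgroup.coe_pow]
    exact congrArg Subtype.val (pow_card_eq_one' (x := (⟨_, hmem⟩ : d.X)))
  · rw [map_pow, hk, pow_succ, pow_mul, pow_two, ← map_mul, h2, one_pow, one_mul]

theorem conj_qz {n : d.N} (h2 : n * n = 1) (h1 : n ≠ 1) :
    ∃ g : d.Q, d.q n = g * d.qz * g⁻¹ := by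
  obtain ⟨g, hg, e⟩ := d.hall n.2 (congrArg Subtype.val h2) (fun e => h1 (Subtype.ext e))
  refine ⟨d.q ⟨g, hg⟩, ?_⟩
  rw [qz, ← map_inv, ← map_mul, ← map_mul]
  exact congrArg d.q (Subtype.ext e.symm)

end FinalData

end Cfsg.Agent.StdON
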