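import Cfsg.Agent.ONUniq.Exclude

/-!
The two covering groups 4.L3(4) with their centre and automorphisms, for the standard component
problem.
-/

set_option autoImplicit false
set_option maxHeartbeats 1000000
set_option maxRecDepth 10000
set_option linter.unusedSectionVars false
set_option linter.style.haveILetI false

namespace Cfsg.Agent.StdON

open Cfsg.Agent ONUniq Compute Subgroup

attribute [local irreducible] compCode idCode canonC powC SLMult.L34.codes SLMult.L34.centPairs
  DataL.dperm DataL.dwords DataA.chain DataA.gs DataA.gis DataA.zeta DataA.mask DataA.sig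
  DataB.chain DataB.gs DataB.gis DataB.zeta DataB.mask DataB.sig

/-- A covering group. -/
abbrev Mg (b : Bool) : Type := (kd b).Mg

/-- The central element of order four. -/
noncomputable def zeta (b : Bool) : Mg b := (kd b).el (kd b).zeta

/-- The central involution. -/
noncomputable def tt (b : Bool) : Mg b := zeta b ^ 2

/-- The field with four elements. -/
abbrev F4 : Type := GaloisField 2 2

noncomputable instance : Fintype F4 := Fintype.ofFinite F4

theorem card_F4 : Fintype.card F4 = 4 := by
  rw [← Nat.card_eq_fintype_card]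
  exact (GaloisField.card 2 2 (by norm_num)).trans (by norm_num)

theorem exists_auts (b : Bool) : ∃ σ : Fin 4 → MulAut (Mg b),
    (∀ a (m : Mg b), ((σ a m : Mg b) : Equiv.Perm (Fin 224)) = pA b a * m * (pA b a)⁻¹) ∧
    σ 0 = 1 ∧ (∀ a m, σ a (σ a m) = m) ∧
    (∀ m : Mg b, zeta b * m = m * zeta b) ∧
    center (Mg b) = zpowers (zeta b) ∧
    ∀ α : MulAut (Mg b), ∃ (m : Mg b) (a : Fin 4), α = MulAut.conj m * σ a := by
  obtain ⟨w, hw, h2⟩ := SLMult.L34.exists_omega card_F4
  exact aut_cases w card_F4 hw h2 b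

/-- The automorphisms: the identity and the three normalising permutations. -/
noncomputable def auts (b : Bool) : Fin 4 → MulAut (Mg b) := (exists_auts b).choose

section

variable {b : Bool}

theorem auts_val (a : Fin 4) (m : Mg b) :
    ((auts b a m : Mg b) : Equiv.Perm (Fin 224)) = pA b a * m * (pA b a)⁻¹ :=
  (exists_auts b).choose_spec.1 a m

@[simp] theorem auts_zero : auts b 0 = 1 := (exists_auts b).choose_spec.2.1

theorem auts_invol (a : Fin 4) (m : Mg b) : auts b a (auts b a m) = m :=
  (exists_auts b).choose_spec.2.2.1 a m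

theorem zeta_comm (m : Mg b) : zeta b * m = m * zeta b :=
  (exists_auts b).choose_spec.2.2.2.1 m

theorem center_eq : center (Mg b) = zpowers (zeta b) :=
  (exists_auts b).choose_spec.2.2.2.2.1

theorem aut_class (α : MulAut (Mg b)) :
    ∃ (m : Mg b) (a : Fin 4), α = MulAut.conj m * auts b a :=
  (exists_auts b).choose_spec.2.2.2.2.2 α

theorem card_Mg_eq : Nat.card (Mg b) = 80640 := KData.card_Mg (kd_checked b)

theorem orderOf_zeta' : orderOf (zeta b) = 4 := orderOf_zeta b

theorem zeta_pow_four : zeta b ^ 4 = 1 := by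
  rw [← orderOf_zeta' (b := b), pow_orderOf_eq_one]

theorem zeta_pow_mod (n : ℕ) : zeta b ^ (n % 4) = zeta b ^ n := by
  rw [← orderOf_zeta' (b := b), pow_mod_orderOf]

theorem tt_sq : tt b * tt b = 1 := by
  rw [tt, ← pow_add]; exact zeta_pow_four

theorem tt_ne_one : tt b ≠ 1 := (KData.zeta_spec (kd_checked b)).2.2.1

theorem zeta_mem_center : zeta b ∈ center (Mg b) := center_eq (b := b) ▸ mem_zpowers _

theorem tt_mem_center : tt b ∈ center (Mg b) := pow_mem zeta_mem_center 2

theorem central_iff {x : Mg b} : x ∈ center (Mg b) ↔ ∃ i < 4, x = zeta b ^ i := by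
  rw [center_eq]
  constructor
  · rintro ⟨n, hn : zeta b ^ n = x⟩
    refine ⟨(n % 4).toNat, by omega, ?_⟩
    rw [← hn, ← zpow_natCast, Int.toNat_of_nonneg (Int.emod_nonneg _ (by norm_num)),
      zpow_eq_zpow_iff_modEq, orderOf_zeta']
    exact (Int.mod_modEq _ _).symm
  · rintro ⟨i, -, rfl⟩
    exact pow_mem (mem_zpowers _) i

theorem central_comm {x : Mg b} (hx : x ∈ center (Mg b)) (m : Mg b) : x * m = m * x :=
  (mem_center_iff.1 hx m).symm

/-- A central involution is `t`. -/
theorem central_invol {x : Mg b} (hx : x ∈ center (Mg b)) (h2 : x * x = 1) : x = 1 ∨ x = tt b := by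
  obtain ⟨i, hi, rfl⟩ := central_iff.1 hx
  rw [← pow_add, ← orderOf_dvd_iff_pow_eq_one, orderOf_zeta'] at h2
  obtain rfl | rfl : i = 0 ∨ i = 2 := by omega
  · exact .inl (pow_zero _)
  · exact .inr rfl

theorem map_center (α : MulAut (Mg b)) {x : Mg b} (hx : x ∈ center (Mg b)) :
    α x ∈ center (Mg b) := mem_center_iff.2 fun m => by
  obtain ⟨m, rfl⟩ := α.surjective m
  rw [← map_mul, ← map_mul, central_comm hx]

theorem map_tt (α : MulAut (Mg b)) : α (tt b) = tt b := by
  rcases central_invol (map_center α tt_mem_center) (by rw [← map_mul, tt_sq, map_one]) with h | h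
  · exact absurd ((MulEquiv.map_eq_one_iff α).1 h) tt_ne_one
  · exact h

theorem map_zeta (α : MulAut (Mg b)) : α (zeta b) = zeta b ∨ α (zeta b) = (zeta b)⁻¹ := by
  obtain ⟨i, hi, h⟩ := central_iff.1 (map_center α zeta_mem_center)
  have ho : orderOf (zeta b ^ i) = 4 := by
    rw [← h]; exact (orderOf_injective α.toMonoidHom α.injective _).trans orderOf_zeta'
  interval_cases i
  · simp at ho
  · exact .inl (by rw [h, pow_one])
  · rw [← tt, orderOf_eq_prime (p := 2) (by rw [pow_two, tt_sq]) tt_ne_one] at ho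
    omega
  · exact .inr (h.trans (eq_inv_of_mul_eq_one_left (by rw [← pow_succ]; exact zeta_pow_four)))

theorem conj_eq_conj {m n : Mg b} (h : ∀ x, m * x * m⁻¹ = n * x * n⁻¹) :
    n⁻¹ * m ∈ center (Mg b) := mem_center_iff.2 fun x => by
  calc x * (n⁻¹ * m) = n⁻¹ * (n * x * n⁻¹) * m := by group
    _ = _ := by rw [← h x]; group

theorem conj_eq_one {m : Mg b} (h : MulAut.conj m = 1) : m ∈ center (Mg b) :=
  mem_center_iff.2 fun x => by
    have := DFunLike.congr_fun h x
    rw [MulAut.conj_apply, MulAut.one_apply, mul_inv_eq_iff_eq_mul] at this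
    exact this.symm

theorem conj_central {m : Mg b} (hm : m ∈ center (Mg b)) : MulAut.conj m = 1 :=
  MulEquiv.ext fun x => by
    rw [MulAut.conj_apply, central_comm hm, mul_inv_cancel_right]; rfl

theorem conj_mul_auts_sq (m : Mg b) (a : Fin 4) :
    (MulAut.conj m * auts b a) * (MulAut.conj m * auts b a) = MulAut.conj (m * auts b a m) :=
  MulEquiv.ext fun x => by
    rw [MulAut.mul_apply]
    simp only [MulAut.mul_apply, MulAut.conj_apply, map_mul, map_inv, auts_invol, mul_inv_rev, mul_assoc]

/-- Every square of an automorphism is inner. -/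
theorem aut_sq_inner (α : MulAut (Mg b)) : ∃ n, α * α = MulAut.conj n := by
  obtain ⟨m, a, rfl⟩ := aut_class α
  exact ⟨_, conj_mul_auts_sq m a⟩

/-- The exponent of the action on the centre. -/
noncomputable def epsAt (b : Bool) (a : Fin 3) : ℕ := (kd b).eps.getD a 0

theorem auts_zeta (a : Fin 3) : auts b a.succ (zeta b) = zeta b ^ epsAt b a := by
  apply Subtype.ext
  obtain ⟨-, hpz, -, -⟩ := KData.sig_spec (kd_checked b) (a := (a : ℕ)) a.2
  rw [auts_val, Subgroup.coe_pow, zeta, KData.el_val (KData.zeta_spec (kd_checked b)).1, pA,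
    if_neg (by simp)]
  exact hpz

theorem epsAt_cases (a : Fin 3) : epsAt b a = 1 ∨ epsAt b a = 3 := eps_cases b a

/-- Candidate extension data. -/
noncomputable def DD (b : Bool) (a : Fin 3) (k : Fin 2) : ExtData (Mg b) where
  σ := auts b a.succ
  z := zeta b ^ kVal (epsAt b a) k
  zc m := ((Commute.pow_left (zeta_comm m) _).eq).symm
  fix := by
    rw [map_pow, auts_zeta, ← pow_mul, pow_eq_pow_iff_modEq, orderOf_zeta', Nat.ModEq]
    rcases epsAt_cases (b := b) a with h | h <;> rw [h] <;> fin_cases k <;> rfl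
  sq := auts_invol a.succ

theorem DD_cand (a : Fin 3) (k : Fin 2) : IsCandData b a k (DD b a k) := by
  refine ⟨fun m => ?_, rfl⟩
  show ((auts b a.succ m : Mg b) : Equiv.Perm (Fin 224)) = _
  rw [auts_val, pA, if_neg (by simp)]
  simp

theorem DD_good (a : Fin 3) (k : Fin 2) : Good (kd b) (DD b a k) (mkCtx (kd b) a k) :=
  good_of_cand (DD_cand a k)

@[simp] theorem DD_sigma (a : Fin 3) (k : Fin 2) : (DD b a k).σ = auts b a.succ := rfl

end

/-- The automorphisms of the first cover that conjugate involutions can induce. -/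
def A2 : Subgroup (MulAut (Mg false)) where
  carrier := {α | ∃ m, α = MulAut.conj m ∨ α = MulAut.conj m * auts false 3}
  one_mem' := ⟨1, .inl (map_one _).symm⟩
  mul_mem' := by
    have key : ∀ n, auts false 3 * MulAut.conj n = MulAut.conj (auts false 3 n) * auts false 3 := fun n =>
      MulEquiv.ext fun x => by simp only [MulAut.mul_apply, MulAut.conj_apply, map_mul, map_inv]
    have hsq : auts false 3 * auts false 3 = 1 := MulEquiv.ext fun x => auts_invol 3 x
    rintro α β ⟨m, rfl | rfl⟩ ⟨n, rfl | rfl⟩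
    · exact ⟨m * n, .inl (map_mul _ _ _).symm⟩
    · exact ⟨m * n, .inr (by rw [map_mul, mul_assoc])⟩
    · exact ⟨m * auts false 3 n, .inr (by rw [map_mul, mul_assoc, key, ← mul_assoc])⟩
    · refine ⟨m * auts false 3 n, .inl ?_⟩
      rw [map_mul, mul_assoc, ← mul_assoc (auts false 3), key, mul_assoc, hsq, mul_one]
  inv_mem' := by
    have key : ∀ n, (auts false 3)⁻¹ * MulAut.conj n = MulAut.conj (auts false 3 n) * auts false 3 := fun n => by
      rw [show (auts false 3)⁻¹ = auts false 3 from
        inv_eq_of_mul_eq_one_right (MulEquiv.ext fun x => auts_invol 3 x)]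
      exact MulEquiv.ext fun x => by simp only [MulAut.mul_apply, MulAut.conj_apply, map_mul, map_inv]
    rintro α ⟨m, rfl | rfl⟩
    · exact ⟨m⁻¹, .inl (map_inv _ _).symm⟩
    · exact ⟨auts false 3 m⁻¹, .inr (by rw [mul_inv_rev, ← map_inv, key])⟩

theorem mem_A2 {α : MulAut (Mg false)} :
    α ∈ A2 ↔ ∃ m, α = MulAut.conj m ∨ α = MulAut.conj m * auts false 3 := Iff.rfl

theorem conj_mem_A2 (m : Mg false) : MulAut.conj m ∈ A2 := ⟨m, .inl rfl⟩

end Cfsg.Agent.StdON
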