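import Cfsg.Agent.StdON.Quot

/-!
The quotient of the normaliser of the odd part by that part is simple, hence is O'Nan's group.
-/

set_option autoImplicit false
set_option maxHeartbeats 1000000
set_option linter.unusedSectionVars false
set_option linter.style.haveILetI false

namespace Cfsg.Agent.StdON

open Cfsg.Agent ONUniq Compute Subgroup

attribute [local irreducible] compCode idCode canonC powC SLMult.L34.codes SLMult.L34.centPairs
  DataL.dperm DataL.dwords DataA.chain DataA.gs DataA.gis DataA.zeta DataA.mask DataA.sig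
  DataB.chain DataB.gs DataB.gis DataB.zeta DataB.mask DataB.sig

namespace FinalData

variable {G : Type*} [Group G] [Finite G] {S : Base false G} (d : FinalData S)

/-- An involution centralising nothing in an odd normal subgroup inverts it. -/
theorem inverts {Q : Type*} [Group Q] [Finite Q] (R : Subgroup Q) [R.Normal] {t : Q} (t2 : t * t = 1)
    (hfix : ∀ w ∈ R, w * t = t * w → w = 1) : ∀ w ∈ R, t * w * t = w⁻¹ := by
  intro w hw
  have ht : t⁻¹ = t := inv_eq_of_mul_eq_one_right t2
  let f : R → R := fun k => ⟨(k : Q)⁻¹ * (t * k * t), mul_mem (inv_mem k.2) (by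
    have := (inferInstance : R.Normal).conj_mem _ k.2 t
    rwa [ht] at this)⟩
  have hf : Function.Injective f := by
    intro a b h
    have h' : (a : Q)⁻¹ * (t * a * t) = (b : Q)⁻¹ * (t * b * t) := congrArg Subtype.val h
    have e : (b : Q) * (a : Q)⁻¹ * t = t * ((b : Q) * (a : Q)⁻¹) := by
      calc (b : Q) * (a : Q)⁻¹ * t
          = (b : Q) * ((a : Q)⁻¹ * (t * a * t)) * (t * t)⁻¹ * t * (a : Q)⁻¹ := by group
        _ = (b : Q) * ((b : Q)⁻¹ * (t * b * t)) * (t * t)⁻¹ * t * (a : Q)⁻¹ := by rw [h']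
        _ = _ := by group
    exact Subtype.ext (mul_inv_eq_one.1 (hfix _ (mul_mem b.2 (inv_mem a.2)) e)).symm
  obtain ⟨k, hk⟩ := Finite.injective_iff_surjective.1 hf ⟨w, hw⟩
  have hk' : (k : Q)⁻¹ * (t * k * t) = w := congrArg Subtype.val hk
  rw [← hk']
  calc t * ((k : Q)⁻¹ * (t * k * t)) * t = t * (k : Q)⁻¹ * t * k * (t * t) := by group
    _ = ((k : Q)⁻¹ * (t * k * t))⁻¹ := by rw [t2, mul_inv_rev, mul_inv_rev, mul_inv_rev, ht]; group

/-- A normal subgroup of odd order is trivial. -/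
theorem odd_normal (R : Subgroup d.Q) [hR : R.Normal] (hodd : Odd (Nat.card R)) : R = ⊥ := by
  classical
  -- the involution centralises nothing
  have hfix : ∀ w ∈ R, w * d.qz = d.qz * w → w = 1 := by
    intro w hw hc
    have hwC : w ∈ d.C := mem_centralizer_singleton_iff.2 hc
    set W : Subgroup (Mg false) := (R.subgroupOf d.C).comap d.r with hW
    have hW1 : ∀ m ∈ W, m = 1 := by
      intro m hm
      have hm' : (d.r m : d.Q) ∈ R := mem_subgroupOf.1 hm
      have hpow : m ^ Nat.card R = 1 := d.r_injective (Subtype.ext (by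
        rw [map_pow, map_one, Subgroup.coe_pow, Subgroup.coe_one]
        exact congrArg Subtype.val (pow_card_eq_one' (x := (⟨_, hm'⟩ : R)))))
      haveI : W.Normal := (hR.subgroupOf d.C).comap d.r
      rcases normal_cases W with h | h
      · obtain ⟨i, -, rfl⟩ := central_iff.1 (h hm)
        refine d.phi_mem (m := zeta false ^ i) ?_
        have h4 : (zeta false ^ i) ^ 4 = 1 := by rw [← pow_mul, mul_comm, pow_mul, zeta_pow_four, one_pow]
        have hco : Nat.gcd (Nat.card R) 4 = 1 :=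
          ((Nat.Coprime.pow_left 2 (Nat.coprime_two_left.2 hodd) : Nat.Coprime (2 ^ 2) _).symm)
        have h1 := (pow_gcd_eq_one (a := zeta false ^ i)).2 ⟨hpow, h4⟩
        rw [hco, pow_one] at h1
        rw [h1, map_one]
        exact one_mem _
      · exfalso
        have ht : (d.r (tt false) : d.Q) ∈ R := mem_subgroupOf.1 (show tt false ∈ W by rw [h]; exact mem_top _)
        have h2 : tt false ^ Nat.card R = 1 := d.r_injective (Subtype.ext (by
          rw [map_pow, map_one, Subgroup.coe_pow, Subgroup.coe_one]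
          exact congrArg Subtype.val (pow_card_eq_one' (x := (⟨_, ht⟩ : R)))))
        obtain ⟨j, hj⟩ := hodd
        rw [hj, pow_succ, pow_mul, pow_two, tt_sq, one_pow, one_mul] at h2
        exact tt_ne_one h2
    haveI : d.r.range.Normal := normal_of_index_eq_two d.index_range
    have hcen : (⟨w, hwC⟩ : d.C) ∈ centralizer (d.r.range : Set d.C) := by
      refine mem_centralizer_iff.2 ?_
      rintro _ ⟨m, rfl⟩
      set c := (⟨w, hwC⟩ : d.C) * d.r m * (⟨w, hwC⟩ : d.C)⁻¹ * (d.r m)⁻¹ with hc'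
      have h1 : c ∈ d.r.range :=
        mul_mem ((inferInstance : d.r.range.Normal).conj_mem _ ⟨m, rfl⟩ _) (inv_mem ⟨m, rfl⟩)
      obtain ⟨l, hl⟩ := h1
      have h2 : c ∈ R.subgroupOf d.C := by
        rw [hc', show ∀ a b : d.C, a * b * a⁻¹ * b⁻¹ = a * (b * a⁻¹ * b⁻¹) from fun a b => by group]
        exact mul_mem hw ((hR.subgroupOf d.C).conj_mem _ (inv_mem hw) _)
      have : l = 1 := hW1 l (show d.r l ∈ R.subgroupOf d.C by rw [hl]; exact h2)
      rw [this, map_one, hc', eq_comm, mul_inv_eq_one, mul_inv_eq_iff_eq_mul] at hl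
      exact hl.symm
    obtain ⟨m, hm⟩ := d.centralizer_range hcen
    have : m = 1 := hW1 m (show d.r m ∈ R.subgroupOf d.C by rw [hm]; exact hw)
    rw [this, map_one] at hm
    exact (congrArg Subtype.val hm).symm
  have hfix' : ∀ n : d.N, n * n = 1 → n ≠ 1 → ∀ w ∈ R, w * d.q n = d.q n * w → w = 1 := by
    intro n n2 n1 w hw hc
    obtain ⟨g, hg⟩ := d.conj_qz n2 n1
    have := hfix (g⁻¹ * w * g) (by simpa using hR.conj_mem w hw g⁻¹) (by
      rw [hg] at hc
      calc g⁻¹ * w * g * d.qz = g⁻¹ * (w * (g * d.qz * g⁻¹)) * g := by group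
        _ = _ := by rw [hc]; group)
    rw [show w = g * (g⁻¹ * w * g) * g⁻¹ by group, this]
    group
  obtain ⟨y, g, hy, hc, m, hm⟩ := d.exists_y
  have y2 : y * y = 1 := Subtype.ext (by
    rw [Subgroup.coe_mul, hy]
    calc (g : G) * S.z * (g : G)⁻¹ * ((g : G) * S.z * (g : G)⁻¹) = g * (S.z * S.z) * (g : G)⁻¹ := by group
      _ = 1 := by rw [S.z_sq]; group)
  have y1 : y ≠ 1 := fun e => by
    have e' : (g : G) * S.z * (g : G)⁻¹ = 1 := by rw [← hy, e]; rfl
    exact S.z_ne_one (conj_eq_one_iff.1 e')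
  have hzy : (d.zN * y) * (d.zN * y) = 1 := Subtype.ext (by
    show S.z * (y : G) * (S.z * y) = 1
    calc S.z * (y : G) * (S.z * y) = S.z * ((y : G) * S.z) * y := by group
      _ = (S.z * S.z) * ((y : G) * y) := by rw [hc]; group
      _ = 1 := by rw [S.z_sq, one_mul, ← Subgroup.coe_mul, y2]; rfl)
  have hzy1 : d.zN * y ≠ 1 := fun e => by
    have e' : S.z * (y : G) = 1 := congrArg Subtype.val e
    have e2 : (y : G) = S.z := by rw [← S.z_inv]; exact eq_inv_of_mul_eq_one_right e'
    rw [e2] at hm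
    exact Base.ind_three_not_inner hm 1 (by rw [map_one]; exact Base.ind_K S.z_mem_K)
  refine (eq_bot_iff_forall _).2 fun w hw => hfix' _ hzy hzy1 w hw ?_
  have hy' := inverts R (t := d.q y) (by rw [← map_mul, y2, map_one]) (hfix' y y2 y1)
  have hz' := inverts R d.qz_sq hfix
  rw [map_mul, ← qz]
  have e1 := hz' _ (inv_mem hw)
  rw [inv_inv, ← hy' w hw] at e1
  calc w * (d.qz * d.q y) = d.qz * (d.q y * w * d.q y) * d.qz * (d.qz * d.q y) := by rw [e1]
    _ = d.qz * d.q y * w * d.q y * (d.qz * d.qz) * d.q y := by group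
    _ = d.qz * d.q y * w := by
        rw [d.qz_sq, mul_one, mul_assoc (d.qz * d.q y * w), ← map_mul, y2, map_one, mul_one]

theorem normal_cases_Q (R : Subgroup d.Q) [hR : R.Normal] : R = ⊥ ∨ R = ⊤ := by
  classical
  haveI : Fact (Nat.Prime 2) := ⟨Nat.prime_two⟩
  rcases Nat.even_or_odd (Nat.card R) with he | ho
  swap
  · exact .inl (d.odd_normal R ho)
  right
  obtain ⟨⟨w, hw⟩, hw2⟩ := exists_prime_orderOf_dvd_card' (G := R) 2 (even_iff_two_dvd.1 he)
  rw [Subgroup.orderOf_mk] at hw2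
  obtain ⟨n, n2, rfl⟩ := d.lift_invol (w := w) (by rw [← pow_two, ← hw2, pow_orderOf_eq_one])
  obtain ⟨c, hc⟩ := d.conj_qz n2 (fun e => by rw [e, map_one, orderOf_one] at hw2; omega)
  have hz : d.qz ∈ R := by
    rw [show d.qz = c⁻¹ * (d.q n) * c by rw [hc]; group]
    simpa using hR.conj_mem _ hw c⁻¹
  have hall' : ∀ k : d.N, k * k = 1 → k ≠ 1 → d.q k ∈ R := fun k k2 k1 => by
    obtain ⟨g, hg⟩ := d.conj_qz k2 k1
    rw [hg]
    exact hR.conj_mem _ hz g
  -- the whole centraliser
  have hCR : d.C ≤ R := by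
    haveI : ((R.subgroupOf d.C).comap d.r).Normal := (hR.subgroupOf d.C).comap d.r
    have htop : (R.subgroupOf d.C).comap d.r = ⊤ := by
      rcases normal_cases ((R.subgroupOf d.C).comap d.r) with h | h
      · obtain ⟨u, u2, hu⟩ := d.invol
        refine absurd (h ?_) hu
        show (d.r u : d.Q) ∈ R
        exact hall' _ (by rw [← map_mul, u2, map_one]) fun e => hu (by
          rw [show u = 1 from S.inj ((congrArg Subtype.val e).trans (map_one _).symm)]
          exact one_mem _)
      · exact h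
    intro v hv
    obtain ⟨y, g, hy, hyc, m, hm⟩ := d.exists_y
    obtain ⟨a, ha⟩ := Subgroup.index_eq_two_iff.1 d.index_range
    set yC : d.C := ⟨d.q y, mem_centralizer_singleton_iff.2 (d.comm_qz.2 hyc)⟩ with hyC
    have hyR : d.q y ∈ R := hall' y (Subtype.ext (by
      rw [Subgroup.coe_mul, hy]
      calc (g : G) * S.z * (g : G)⁻¹ * ((g : G) * S.z * (g : G)⁻¹) = g * (S.z * S.z) * (g : G)⁻¹ := by group
        _ = 1 := by rw [S.z_sq]; group)) fun e => by
      have e' : (g : G) * S.z * (g : G)⁻¹ = 1 := by rw [← hy, e]; rfl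
      exact S.z_ne_one (conj_eq_one_iff.1 e')
    have hyn : yC ∉ d.r.range := fun h => by
      obtain ⟨l, hl⟩ := (d.mem_range_r yC.2).1 h
      exact Base.ind_three_not_inner hm l hl
    by_cases hv' : (⟨v, hv⟩ : d.C) ∈ d.r.range
    · obtain ⟨l, hl⟩ := hv'
      have : d.r l ∈ R.subgroupOf d.C := (SetLike.ext_iff.1 htop l).2 (mem_top _)
      rw [hl] at this
      exact this
    · obtain ⟨l, hl⟩ := (Subgroup.mul_mem_iff_of_index_two d.index_range (a := ⟨v, hv⟩) (b := yC)).2
        (iff_of_false hv' hyn)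
      have : d.r l ∈ R.subgroupOf d.C := (SetLike.ext_iff.1 htop l).2 (mem_top _)
      rw [hl] at this
      have hvy : v * d.q y ∈ R := this
      simpa using mul_mem hvy (inv_mem hyR)
  -- Frattini
  obtain ⟨P0⟩ : Nonempty (Sylow 2 (Mg false)) := inferInstance
  obtain ⟨P1, hP1⟩ := (P0.isPGroup'.map d.r).exists_le_sylow
  have hzQ : zeta false ∈ (P0 : Subgroup (Mg false)) := by
    have hz : IsPGroup 2 (zpowers (zeta false)) :=
      IsPGroup.of_card (n := 2) (by rw [Nat.card_zpowers, orderOf_zeta']; norm_num)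
    haveI : (zpowers (zeta false)).Normal := center_eq (b := false) ▸ inferInstance
    have h := P0.3 (P0.isPGroup'.to_sup_of_normal_right hz) le_sup_left
    exact h.le (mem_sup_right (mem_zpowers _))
  set P2 : Subgroup d.Q := (P1 : Subgroup d.C).map d.C.subtype with hP2
  have hmemP : ∀ m ∈ (P0 : Subgroup (Mg false)), d.q (d.φN m) ∈ P2 := fun m hm =>
    ⟨d.r m, hP1 ⟨m, hm, rfl⟩, rfl⟩
  have hP2C : P2 ≤ d.C := by
    rintro _ ⟨p, -, rfl⟩
    exact p.2
  have hCodd : ¬ 2 ∣ d.C.index := by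
    intro h
    have e : d.C.comap d.q = (centralizer ({S.z} : Set G)).subgroupOf d.N := by
      ext k
      rw [mem_comap, mem_subgroupOf, mem_centralizer_singleton_iff, mem_centralizer_singleton_iff,
        d.comm_qz]
    rw [← index_comap_of_surjective _ d.q_surjective, e] at h
    exact d.odd_index (h.trans (Subgroup.relIndex_dvd_index_of_le d.cent_le))
  have hidx : ¬ 2 ∣ P2.index := by
    rw [hP2, Subgroup.index_map_subtype]
    exact Nat.prime_two.not_dvd_mul P1.not_dvd_index hCodd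
  let P : Sylow 2 d.Q := (P1.isPGroup'.map d.C.subtype).toSylow hidx
  have hsup := Sylow.normalizer_sup_eq_top' (N := R) P (hP2C.trans hCR)
  refine top_le_iff.1 (hsup.symm.le.trans (sup_le (fun v hv => ?_) le_rfl))
  obtain ⟨k, rfl⟩ := d.q_surjective v
  have hnorm : ∀ p, p ∈ P2 ↔ d.q k * p * (d.q k)⁻¹ ∈ P2 := mem_normalizer_iff.1 hv
  have hzP : d.qz ∈ P2 := by
    have := hmemP (tt false) (pow_mem hzQ 2)
    exact this
  have hwP := (hnorm _).1 hzP
  have hwc : ∀ p ∈ P2, d.q k * d.qz * (d.q k)⁻¹ * p = p * (d.q k * d.qz * (d.q k)⁻¹) := by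
    intro p hp
    have h1 : (d.q k)⁻¹ * p * d.q k ∈ P2 := (hnorm _).2 (by
      rwa [show d.q k * ((d.q k)⁻¹ * p * d.q k) * (d.q k)⁻¹ = p by group])
    have h2 := mem_centralizer_singleton_iff.1 (hP2C h1)
    calc d.q k * d.qz * (d.q k)⁻¹ * p = d.q k * (d.qz * ((d.q k)⁻¹ * p * d.q k)) * (d.q k)⁻¹ := by group
      _ = p * (d.q k * d.qz * (d.q k)⁻¹) := by rw [← h2]; group
  have hqk : d.q (k * d.zN * k⁻¹) = d.q k * d.qz * (d.q k)⁻¹ := by rw [map_mul, map_mul, map_inv, qz]
  have hkz : (k : G) * S.z * (k : G)⁻¹ * S.z = S.z * ((k : G) * S.z * (k : G)⁻¹) :=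
    (d.comm_qz (n := k * d.zN * k⁻¹)).1 (by rw [hqk]; exact hwc _ hzP)
  by_cases heq : (k : G) * S.z * (k : G)⁻¹ = S.z
  · exact hCR (mem_centralizer_singleton_iff.2 (d.comm_qz.2 (mul_inv_eq_iff_eq_mul.1 heq)))
  exfalso
  have hcomm : ∀ m ∈ (P0 : Subgroup (Mg false)),
      (k : G) * S.z * (k : G)⁻¹ * S.φ m = S.φ m * ((k : G) * S.z * (k : G)⁻¹) := fun m hm =>
    d.comm_phi (n := k * d.zN * k⁻¹) hkz (by rw [hqk]; exact hwc _ (hmemP m hm))
  have hcard : Nat.card (P0 : Subgroup (Mg false)) = 256 := by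
    rw [P0.card_eq_multiplicity, card_Mg_eq, show (80640 : ℕ) = 2 ^ 8 * 315 by norm_num,
      Nat.factorization_mul (by norm_num) (by norm_num), Finsupp.add_apply,
      Nat.Prime.factorization_pow Nat.prime_two, Finsupp.single_eq_same,
      Nat.factorization_eq_zero_of_not_dvd (show ¬ 2 ∣ 315 by norm_num)]
    norm_num
  obtain ⟨p, hp, hpne⟩ := d.no_central k hkz heq (hcomm _ hzQ) P0 hcard
  exact hpne (hcomm p hp)

theorem isSimple_Q : IsSimpleGroup d.Q :=
  { exists_pair_ne := ⟨d.qz, 1, d.qz_ne⟩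
    eq_bot_or_eq_top_of_normal := fun R hR => @normal_cases_Q _ _ _ _ d R hR }

/-- The quotient is O'Nan's group. -/
theorem isoON_Q : Cfsg.Spor.IsoON d.Q := by
  haveI := d.isSimple_Q
  haveI : d.r.range.Normal := normal_of_index_eq_two d.index_range
  let e : Mg false ≃* d.r.range := MonoidHom.ofInjective d.r_injective
  obtain ⟨hperf, hcyc, hc4, ⟨eL⟩⟩ := cover_facts false
  have hperf' : commutator d.r.range = ⊤ := by
    have h := Subgroup.map_commutator (⊤ : Subgroup (Mg false)) ⊤ e.toMonoidHom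
    have ht : (⊤ : Subgroup (Mg false)).map e.toMonoidHom = ⊤ :=
      Subgroup.map_top_of_surjective e.toMonoidHom e.surjective
    rw [← _root_.commutator_def, hperf, ht, ← _root_.commutator_def] at h
    exact h.symm
  have hmap : (center (Mg false)).map e.toMonoidHom = center d.r.range := by
    refine le_antisymm ?_ fun x hx => ⟨e.symm x, mem_center_iff.2 fun y => e.injective ?_, e.apply_symm_apply x⟩
    · rintro _ ⟨x, hx, rfl⟩
      refine mem_center_iff.2 fun y => ?_
      obtain ⟨y, rfl⟩ := e.surjective y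
      show e y * e x = e x * e y
      rw [← map_mul, ← map_mul, mem_center_iff.1 hx y]
    · rw [map_mul, map_mul, e.apply_symm_apply, mem_center_iff.1 hx (e y)]
  refine ONUniq.isoON_of_cent d.qz d.orderOf_qz d.r.range d.index_range d.centralizer_range
    (isCyclic_of_surjective _ (Subgroup.centerCongr e).surjective) ?_ hperf' F4 card_F4
    ((QuotientGroup.congr (center (Mg false)) (center d.r.range) e hmap).symm.trans eL)
  rw [← Nat.card_congr (Subgroup.centerCongr e).toEquiv, hc4]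

end FinalData

end Cfsg.Agent.StdON
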