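import Cfsg.Agent.ONUniq.CertDef
import Cfsg.Agent.ONUniq.CertVA
import Cfsg.Agent.ONUniq.CertVB
import Cfsg.Agent.ONUniq.CertSA0
import Cfsg.Agent.ONUniq.CertSA1
import Cfsg.Agent.ONUniq.CertSA2
import Cfsg.Agent.ONUniq.CertSB0
import Cfsg.Agent.ONUniq.CertSB1
import Cfsg.Agent.ONUniq.CertSB2

/-!
Kernel-decidable tests on the covering groups 4.L3(4) for the standard component problem: the
centre of the centraliser of an involution, fourth powers in it, and the automorphisms fixing it.
-/

set_option autoImplicit false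
set_option maxRecDepth 100000

namespace Cfsg.Agent.StdON

open Cfsg.Agent ONUniq Compute

/-- The data of the inner involution. -/
noncomputable def certV (b : Bool) : CertV := cond b CertVB.cert CertVA.cert

/-- The Sylow data. -/
noncomputable def certS : Bool → Fin 3 → CertS
  | false, 0 => CertSA0.cert
  | false, 1 => CertSA1.cert
  | false, 2 => CertSA2.cert
  | true, 0 => CertSB0.cert
  | true, 1 => CertSB1.cert
  | true, 2 => CertSB2.cert

variable (K : KData) (C : CtxX) (V : CertV)

/-- An inner element. -/
noncomputable def fI (c : ℕ) : FX := ofC c false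

/-- A power of the central element. -/
noncomputable def fZ (i : ℕ) : FX := ofC (powC K.zeta i) false

/-- Central. -/
noncomputable def inZ (x : FX) : Bool :=
  eqF x (fZ K 0) || eqF x (fZ K 1) || eqF x (fZ K 2) || eqF x (fZ K 3)

/-- In the coset of `v` of the centre. -/
noncomputable def inVZ (x : FX) : Bool :=
  eqF x (mulF C (fI V.v) (fZ K 0)) || eqF x (mulF C (fI V.v) (fZ K 1)) ||
    eqF x (mulF C (fI V.v) (fZ K 2)) || eqF x (mulF C (fI V.v) (fZ K 3))

/-- In the four-group generated by `v` and the central involution. -/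
noncomputable def inFour (x : FX) : Bool :=
  eqF x oneF || eqF x (fZ K 2) || eqF x (fI V.v) || eqF x (mulF C (fI V.v) (fZ K 2))

/-- An involution of the centraliser outside the four-group. -/
noncomputable def bigInv (x : FX) : Bool := eqF (mulF C x x) oneF && !inFour K C V x

/-- Squares in the centre come from involutions; the exponent. -/
noncomputable def sylB (S : CertS) : Bool :=
  allBelow 256 (fun j =>
    let x := fI (S.sm.getD j ⟨0, 0, 0⟩).c
    let x2 := mulF C x x
    eqF (mulF C (mulF C x2 x2) (mulF C x2 x2)) oneF &&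
      (!inZ K x2 || ([0, 1, 2, 3].any fun i => eqF (mulF C (mulF C x (fZ K i)) (mulF C x (fZ K i))) oneF)))

/-- The centraliser of all involutions of the centraliser. -/
noncomputable def centB : Bool :=
  V.cmv.all (fun c => inZ K (fI c) || inVZ K C V (fI c) ||
    V.cmv.any (fun u => eqF (mulF C (fI u) (fI u)) oneF && !commF C (fI c) (fI u)))

/-- No fourth power in the coset of `v`. -/
noncomputable def fourthB : Bool :=
  V.cmv.all (fun c => !inVZ K C V (mulF C (mulF C (fI c) (fI c)) (mulF C (fI c) (fI c))))

/-- No root of `v` moving the centraliser by `v` only. -/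
noncomputable def rootB : Bool :=
  V.cmv.all (fun c => !inVZ K C V (mulF C (fI c) (fI c)) ||
    V.cmv.any (fun m => !commF C (fI c) (fI m) &&
      !eqF (mulF C (fI c) (fI m)) (mulF C (fI m) (mulF C (fI V.v) (fI c)))))

/-- The outer automorphisms fixing `v`. -/
noncomputable def outerB (S : CertS) : Bool :=
  S.wl.all (fun c =>
    let x := ofC c true
    let x2 := mulF C x x
    (!inVZ K C V x2 || V.cmv.any (fun m => !commF C x (fI m) &&
      !eqF (mulF C x (fI m)) (mulF C (fI m) (mulF C (fI V.v) x)))) &&
    (!inVZ K C V (mulF C x2 x2) || V.cmv.any (fun m => !commF C x (fI m) &&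
      !eqF (mulF C x (fI m)) (mulF C (fI m) (mulF C (fI V.v) x)) &&
      ([0, 1, 2, 3].all fun i =>
        !eqF (mulF C x (fI m)) (mulF C (fI m) (mulF C x2 (mulF C (fZ K i) x))) &&
        !eqF (mulF C (mulF C x (fI m)) x2) (mulF C (fI m) (mulF C (fZ K i) x))))))

/-- Pairs whose squares multiply to involutions outside the four-group. -/
def sqPairs : List (ℕ × ℕ) := [(0, 22), (0, 18), (0, 96), (0, 100)]

/-- The involution of a pair. -/
noncomputable def sqInv (p : ℕ × ℕ) : FX :=
  mulF C (mulF C (fI (V.cmv.getD p.1 0)) (fI (V.cmv.getD p.1 0)))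
    (mulF C (fI (V.cmv.getD p.2 0)) (fI (V.cmv.getD p.2 0)))

/-- An involutory outer automorphism of the first kind fixes such an involution. -/
noncomputable def fixB (S : CertS) : Bool :=
  sqPairs.all (fun p => Nat.blt p.1 V.cmv.length && Nat.blt p.2 V.cmv.length && bigInv K C V (sqInv C V p)) &&
    S.wl.all (fun c => !inZ K (mulF C (ofC c true) (ofC c true)) ||
      sqPairs.any (fun p => commF C (ofC c true) (sqInv C V p)))

/-- Products of two involutions. -/
def invWits : List (ℕ × ℕ × ℕ) :=
  [(0, 2, 67), (1, 2, 77), (1, 2, 67), (0, 2, 69), (0, 2, 75), (1, 2, 69), (1, 2, 75), (0, 2, 77),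
   (0, 2, 83), (1, 2, 93), (1, 2, 83), (0, 2, 85), (0, 2, 91), (1, 2, 85), (1, 2, 91), (0, 2, 93)]

/-- A root of `v` centralising an involution is a product of involutions. -/
noncomputable def innerRootB : Bool :=
  invWits.all (fun w => Nat.blt w.2.1 V.cmv.length && Nat.blt w.2.2 V.cmv.length &&
      eqF (mulF C (fI (V.cmv.getD w.2.1 0)) (fI (V.cmv.getD w.2.1 0))) oneF &&
      eqF (mulF C (fI (V.cmv.getD w.2.2 0)) (fI (V.cmv.getD w.2.2 0))) oneF) &&
    V.cmv.all (fun c => !inVZ K C V (mulF C (fI c) (fI c)) ||
      !V.cmv.any (fun u => bigInv K C V (fI u) && commF C (fI c) (fI u)) ||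
      invWits.any (fun w => eqF (fI c)
        (mulF C (fZ K w.1) (mulF C (fI (V.cmv.getD w.2.1 0)) (fI (V.cmv.getD w.2.2 0))))))

/-- An outer root of `v` of the last kind centralises no involution. -/
noncomputable def outerRootB (S : CertS) : Bool :=
  S.wl.all (fun c => !inVZ K C V (mulF C (ofC c true) (ofC c true)) ||
    V.cmv.all (fun u => !bigInv K C V (fI u) || !commF C (ofC c true) (fI u)))

/-- Two commuting involutions generate with the centre a group of order eight at most. -/
noncomputable def rankB : Bool :=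
  V.cmv.all (fun p => !bigInv K C V (fI p) ||
    V.cmv.all (fun q => !(eqF (mulF C (fI q) (fI q)) oneF && commF C (fI p) (fI q)) ||
      inFour K C V (fI q) || eqF (fI q) (fI p) || eqF (fI q) (mulF C (fZ K 2) (fI p)) ||
      eqF (fI q) (mulF C (fI V.v) (fI p)) ||
      eqF (fI q) (mulF C (mulF C (fI V.v) (fZ K 2)) (fI p))))

end Cfsg.Agent.StdON
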